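import Groth.Agent.H25DTen.KFlat

/-!
# The derived tensor product on `D(A)` exists and is computed by K-flat complexes
-/

set_option autoImplicit false

universe u

open CategoryTheory CategoryTheory.Limits MonoidalCategory

attribute [local instance] HasDerivedCategory.standard

namespace Groth.Agent.H25DTen

open Groth.Agent.H16Derived

variable {A : Type u} [CommRing A]

lemma isIso_Q_map {K L : DRing.Cx A} (f : K ⟶ L) (h : QuasiIso f) :
    IsIso (DerivedCategory.Q.map f) :=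
  Localization.inverts DerivedCategory.Q (DTen.qis A) f h

lemma quasiIso_res_map {G G' : DRing.Cx A} (φ : G ⟶ G') [QuasiIso φ] :
    QuasiIso ((res A).map φ) := by
  have := quasiIso_resψ G
  have := quasiIso_resψ G'
  have : QuasiIso ((res A).map φ ≫ (resψ A).app G') := by
    rw [(resψ A).naturality φ]
    exact quasiIso_comp ((resψ A).app G) φ
  exact quasiIso_of_comp_right ((res A).map φ) ((resψ A).app G')

/-- `(f ▷ L)` is a quasi-isomorphism if `L` is K-flat. -/
theorem quasiIso_whiskerRight {K K' : DRing.Cx A} (f : K ⟶ K') [QuasiIso f] {L : DRing.Cx A}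
    (hL : KFlat.IsKFlat (TT A) L) : QuasiIso (f ▷ L) :=
  KFlat.quasiIso_left_map (TT A) f hL

/-- `(f ▷ L)` is a quasi-isomorphism if both sources are K-flat. -/
theorem quasiIso_whiskerRight' {K K' : DRing.Cx A} (f : K ⟶ K') [QuasiIso f]
    (hK : KFlat.IsKFlat (TT A) K) (hK' : KFlat.IsKFlat (TT A) K') (L : DRing.Cx A) :
    QuasiIso (f ▷ L) := by
  have := quasiIso_resψ L
  exact KFlat.quasiIso_left_map' (TT A) f ((isKFlat_flip_iff K).2 hK) ((isKFlat_flip_iff K').2 hK')
    ((resψ A).app L) (isKFlat_res L)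

/-- `(K ◁ g)` is a quasi-isomorphism if `K` is K-flat. -/
theorem quasiIso_whiskerLeft (K : DRing.Cx A) (hK : KFlat.IsKFlat (TT A) K) {L L' : DRing.Cx A}
    (g : L ⟶ L') [QuasiIso g] : QuasiIso (K ◁ g) :=
  KFlat.quasiIso_tot_map_of_isKFlat_left (TT A) K g fun _ hW =>
    KFlat.acyclic_tot_of_isKFlat_flip ((isKFlat_flip_iff K).2 hK) hW

/-- `(K ◁ g)` is a quasi-isomorphism if both targets are K-flat. -/
theorem quasiIso_whiskerLeft' (K : DRing.Cx A) {L L' : DRing.Cx A} (g : L ⟶ L') [QuasiIso g]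
    (hL : KFlat.IsKFlat (TT A) L) (hL' : KFlat.IsKFlat (TT A) L') : QuasiIso (K ◁ g) := by
  have := quasiIso_resψ K
  exact KFlat.quasiIso_tot_map_of_resolution (TT A) g hL hL' ((resψ A).app K) (isKFlat_flip_res K)

variable (A) in
/-- The resolution of pairs. -/
noncomputable abbrev res₂ : DRing.Cx A × DRing.Cx A ⥤ DRing.Cx A × DRing.Cx A :=
  (res A).prod (res A)

variable (A) in
/-- The augmentation of the resolution of pairs. -/
noncomputable abbrev res₂ψ : res₂ A ⟶ 𝟭 _ :=
  NatTrans.prod (resψ A) (resψ A)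

lemma inverts_res₂ψ (X : DRing.Cx A × DRing.Cx A) : DTen.qis₂ A ((res₂ψ A).app X) :=
  ⟨quasiIso_resψ X.1, quasiIso_resψ X.2⟩

lemma tensor₂_inverts : (DTen.qis₂ A).IsInvertedBy (res₂ A ⋙ DTen.tensor₂ A) := by
  rintro ⟨K, L⟩ ⟨K', L'⟩ ⟨f, g⟩ ⟨hf, hg⟩
  have : QuasiIso f := hf
  have : QuasiIso g := hg
  have := quasiIso_res_map f
  have := quasiIso_res_map g
  have := quasiIso_whiskerRight' ((res A).map f) (isKFlat_res K) (isKFlat_res K') ((res A).obj L)
  have := quasiIso_whiskerLeft ((res A).obj K') (isKFlat_res K') ((res A).map g)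
  exact isIso_Q_map _ (quasiIso_comp ((res A).map f ▷ (res A).obj L) ((res A).obj K' ◁ (res A).map g))

lemma tensor₂_res₂ψ (X : DRing.Cx A × DRing.Cx A)
    (hX : KFlat.IsKFlat (TT A) X.1 ∨ KFlat.IsKFlat (TT A) X.2) :
    IsIso ((DTen.tensor₂ A).map ((res₂ψ A).app X)) := by
  obtain ⟨K, L⟩ := X
  have hK := quasiIso_resψ K
  have hL := quasiIso_resψ L
  rcases hX with h | h
  · have := quasiIso_whiskerRight' ((resψ A).app K) (isKFlat_res K) h ((res A).obj L)
    have := quasiIso_whiskerLeft K h ((resψ A).app L)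
    exact isIso_Q_map _ (quasiIso_comp ((resψ A).app K ▷ (res A).obj L) (K ◁ (resψ A).app L))
  · have := quasiIso_whiskerRight ((resψ A).app K) (isKFlat_res L)
    have := quasiIso_whiskerLeft' K ((resψ A).app L) (isKFlat_res L) h
    exact isIso_Q_map _ (quasiIso_comp ((resψ A).app K ▷ (res A).obj L) (K ◁ (resψ A).app L))

lemma tensor₂_res₂ψ_res₂ (X : DRing.Cx A × DRing.Cx A) :
    IsIso ((DTen.tensor₂ A).map ((res₂ψ A).app ((res₂ A).obj X))) :=
  tensor₂_res₂ψ _ (Or.inl (isKFlat_res _))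

/-- The derived tensor product exists. -/
theorem hasLTen : DTen.HasLTen A :=
  LeftDer.hasLeftDerivedFunctor _ inverts_res₂ψ tensor₂_inverts tensor₂_res₂ψ_res₂

/-- The derived tensor product is computed by K-flat complexes. -/
theorem isIso_ε [DTen.HasLTen A] (K L : DRing.Cx A)
    (h : KFlat.IsKFlat (TT A) K ∨ KFlat.IsKFlat (TT A) L) : IsIso ((DTen.ε A).app (K, L)) :=
  LeftDer.isIso_counit (DTen.qis₂ A) (DTen.QQ A) inverts_res₂ψ tensor₂_inverts tensor₂_res₂ψ_res₂
    (DTen.LTen₂ A) (DTen.ε A) (K, L) (tensor₂_res₂ψ (K, L) h)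

/-- `KFlatComputes` holds. -/
theorem kFlatComputes [DTen.HasLTen A] : DTen.KFlatComputes A :=
  ⟨fun K L h => isIso_ε K L (h.imp (isKFlat_iff K).1 (isKFlat_iff L).1)⟩

end Groth.Agent.H25DTen
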