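import Mathlib.CategoryTheory.Functor.Derived.RightDerived
import Mathlib.CategoryTheory.Localization.Predicate

/-!
# A functor inverting `W` is its own right derived functor
-/

set_option autoImplicit false

open CategoryTheory CategoryTheory.Functor

namespace Groth.Agent.H25DTen

universe v v' v'' u u' u''

variable {C : Type u} [Category.{v} C] {D : Type u'} [Category.{v'} D] {H : Type u''}
  [Category.{v''} H] (L : C ⥤ D) (W : MorphismProperty C) [L.IsLocalization W]

theorem isRightDerivedFunctor_of_isIso {F : C ⥤ H} (RF : D ⥤ H) (α : F ⟶ L ⋙ RF) [IsIso α] :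
    RF.IsRightDerivedFunctor α W := by
  refine ⟨⟨⟨Limits.IsInitial.ofUniqueHom (fun G => StructuredArrow.homMk
    (letI : Localization.Lifting L W (L ⋙ RF) RF := ⟨Iso.refl _⟩
     letI : Localization.Lifting L W (L ⋙ G.right) G.right := ⟨Iso.refl _⟩
     Localization.liftNatTrans L W (L ⋙ RF) (L ⋙ G.right) RF G.right (inv α ≫ G.hom)) ?_) ?_⟩⟩⟩
  · ext X
    simp [Localization.liftNatTrans_app]
    exact (IsIso.hom_inv_id_assoc (α.app X) _)
  · intro G m
    refine StructuredArrow.hom_ext _ _ (Localization.natTrans_ext L W fun X => ?_)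
    have h := congr_app (StructuredArrow.w m) X
    dsimp at h
    simp [Localization.liftNatTrans_app, ← h]
    exact (IsIso.inv_hom_id_assoc (α.app X) _).symm

end Groth.Agent.H25DTen
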