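import Groth.Agent.H25DTen.Exists
import Groth.Agent.H25DTen.RightDer
import Groth.Agent.H16Derived.KFlat.BaseChange
import Groth.Agent.H16Derived.KFlat.Generic
import Groth.Prelude.Def_DTen4
import Mathlib.CategoryTheory.Functor.Derived.Adjunction
import Mathlib.CategoryTheory.Adjunction.Unique

/-!
# Derived base change is computed by K-flat complexes
-/

set_option autoImplicit false

universe u

open CategoryTheory CategoryTheory.Limits MonoidalCategory

attribute [local instance] HasDerivedCategory.standard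

namespace Groth.Agent.H25DTen

open Groth.Agent.H16Derived

variable {R A : Type u} [CommRing R] [CommRing A] (φ : R →+* A)

/-- Extension then restriction of scalars is tensoring with `A`. -/
noncomputable def extResIso :
    ModuleCat.extendScalars.{u, u, u} φ ⋙ ModuleCat.restrictScalars.{u} φ ≅
      (TT R).obj ((ModuleCat.restrictScalars.{u} φ).obj (ModuleCat.of A A)) :=
  NatIso.ofComponents (fun M =>
    let X₁ : ModuleCat.{u} R :=
      (ModuleCat.restrictScalars.{u} φ).obj ((ModuleCat.extendScalars.{u, u, u} φ).obj M)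
    let X₂ : ModuleCat.{u} R :=
      ((TT R).obj ((ModuleCat.restrictScalars.{u} φ).obj (ModuleCat.of A A))).obj M
    let e : X₁ ≃ₗ[R] X₂ :=
      { toFun := fun x => x
        invFun := fun x => x
        map_add' := fun _ _ => rfl
        map_smul' := fun r x => by
          induction x using TensorProduct.induction_on with
          | zero => exact (smul_zero r).trans (smul_zero r).symm
          | add a b ha hb => exact (smul_add r a b).trans ((congrArg₂ (· + ·) ha hb).trans (smul_add r _ _).symm)
          | tmul a m => rfl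
        left_inv := fun _ => rfl
        right_inv := fun _ => rfl }
    e.toModuleIso)
    (fun g => by
      refine ModuleCat.hom_ext (LinearMap.ext fun x => ?_)
      induction x using TensorProduct.induction_on with
      | zero => exact (map_zero _).trans (map_zero _).symm
      | add a b ha hb => exact (map_add _ a b).trans ((congrArg₂ (· + ·) ha hb).trans (map_add _ a b).symm)
      | tmul a m => rfl)

lemma acyclic_of_acyclic_resCx {M : DRing.Cx A} (h : ((DTen.resCx φ).obj M).Acyclic) :
    M.Acyclic := fun i => by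
  have h' := h i
  rw [HomologicalComplex.exactAt_iff, ShortComplex.exact_iff_exact_map_forget₂] at h' ⊢
  exact h'

/-- Extension of scalars of an acyclic K-flat complex is acyclic. -/
theorem acyclic_extCx {W : DRing.Cx R} (hW : W.Acyclic) (hK : KFlat.IsKFlat (TT R) W) :
    ((DTen.extCx φ).obj W).Acyclic := by
  let M := (ModuleCat.restrictScalars.{u} φ).obj (ModuleCat.of A A)
  let L : DRing.Cx R := (HomologicalComplex.single (ModuleCat.{u} R) (ComplexShape.up ℤ) 0).obj M
  have := quasiIso_resψ L
  have h := KFlat.acyclic_tot_of_acyclic_of_isKFlat (TT R) hW hK ((resψ R).app L) (isKFlat_flip_res L)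
  have h2 := KFlat.acyclic_of_iso (KFlat.singleLeftIso (TT R) L W fun p hp =>
    HomologicalComplex.isZero_single_obj_X (ComplexShape.up ℤ) 0 M p hp).symm h
  refine acyclic_of_acyclic_resCx φ ?_
  exact KFlat.acyclic_of_iso ((NatIso.mapHomologicalComplex ((TT R).mapIso
    (HomologicalComplex.singleObjXSelf (ComplexShape.up ℤ) 0 M) ≪≫ (extResIso φ).symm)
      (ComplexShape.up ℤ)).app W) h2

theorem quasiIso_extCx_map {K L : DRing.Cx R} (f : K ⟶ L) [QuasiIso f]
    (hK : KFlat.IsKFlat (TT R) K) (hL : KFlat.IsKFlat (TT R) L) :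
    QuasiIso ((DTen.extCx φ).map f) :=
  KFlat.quasiIso_map_of_cone (ModuleCat.extendScalars.{u, u, u} φ) f fun h =>
    acyclic_extCx φ h (hK.mappingCone f hL)

theorem isKFlat_extCx {K : DRing.Cx R} (hK : KFlat.IsKFlat (TT R) K) :
    KFlat.IsKFlat (TT A) ((DTen.extCx φ).obj K) := by
  letI : Algebra R A := φ.toAlgebra
  exact (isKFlat_iff _).1 (KFlat.BaseChange.isKFlat K ((DTen.extCx φ).obj K)
    (fun q => LinearEquiv.refl A _) (fun q t => rfl) ((isKFlat_iff K).2 hK))

/-- The counit on complexes. -/
noncomputable def counitCx : DTen.resCx φ ⋙ DTen.extCx φ ⟶ 𝟭 (DRing.Cx A) where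
  app M :=
    { f := fun i => (ModuleCat.extendRestrictScalarsAdj.{u, u, u} φ).counit.app (M.X i)
      comm' := fun i j _ =>
        ((ModuleCat.extendRestrictScalarsAdj.{u, u, u} φ).counit.naturality (M.d i j)).symm }
  naturality M M' f := HomologicalComplex.hom_ext _ _ fun i =>
    (ModuleCat.extendRestrictScalarsAdj.{u, u, u} φ).counit.naturality (f.f i)

/-- `extCx ⊣ resCx`. -/
noncomputable def adjCx : DTen.extCx φ ⊣ DTen.resCx φ where
  unit := DTen.unitCx φ
  counit := counitCx φ
  left_triangle_components K := HomologicalComplex.hom_ext _ _ fun i =>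
    (ModuleCat.extendRestrictScalarsAdj.{u, u, u} φ).left_triangle_components (K.X i)
  right_triangle_components M := HomologicalComplex.hom_ext _ _ fun i =>
    (ModuleCat.extendRestrictScalarsAdj.{u, u, u} φ).right_triangle_components (M.X i)

lemma ext_inverts : (DTen.qis R).IsInvertedBy (res R ⋙ DTen.extCx φ ⋙ DerivedCategory.Q) :=
  fun K L f (hf : QuasiIso f) =>
    haveI := hf
    haveI := quasiIso_res_map f
    isIso_Q_map _ (quasiIso_extCx_map φ ((res R).map f) (isKFlat_res K) (isKFlat_res L))

lemma ext_resψ (K : DRing.Cx R) (hK : KFlat.IsKFlat (TT R) K) :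
    IsIso ((DTen.extCx φ ⋙ DerivedCategory.Q).map ((resψ R).app K)) :=
  haveI := quasiIso_resψ K
  isIso_Q_map _ (quasiIso_extCx_map φ ((resψ R).app K) (isKFlat_res K) hK)

/-- The derived base change functor, constructed by resolutions. -/
noncomputable def baseLF : Dual.D R ⥤ Dual.D A :=
  LeftDer.LF (F := DTen.extCx φ ⋙ DerivedCategory.Q) DerivedCategory.Q (ext_inverts φ)

/-- Its counit. -/
noncomputable def baseα : DerivedCategory.Q ⋙ baseLF φ ⟶ DTen.extCx φ ⋙ DerivedCategory.Q :=
  LeftDer.α DerivedCategory.Q (resψ R) (ext_inverts φ)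

instance : (baseLF φ).IsLeftDerivedFunctor (baseα φ) (DTen.qis R) :=
  LeftDer.isLeftDerivedFunctor (DTen.qis R) DerivedCategory.Q
    (fun K => quasiIso_resψ K) (ext_inverts φ) (fun K => ext_resψ φ _ (isKFlat_res K))

lemma isIso_baseα (K : DRing.Cx R) (hK : KFlat.IsKFlat (TT R) K) : IsIso ((baseα φ).app K) := by
  have h := ext_resψ φ K hK
  rw [baseα, LeftDer.α_app]
  exact IsIso.comp_isIso' ((LeftDer.fac DerivedCategory.Q (ext_inverts φ)).app K).isIso_hom h

instance : (baseLF φ ⋙ DRing.restrictD φ).IsLeftDerivedFunctor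
    ((Functor.associator _ _ _).inv ≫ Functor.whiskerRight (baseα φ) (DRing.restrictD φ))
    (DTen.qis R) := by
  let F' := (DTen.extCx φ ⋙ DerivedCategory.Q) ⋙ DRing.restrictD φ
  have hRF : (DTen.qis R).IsInvertedBy (res R ⋙ F') := fun K L f hf =>
    haveI := ext_inverts φ f hf
    inferInstanceAs (IsIso ((DRing.restrictD φ).map
      ((res R ⋙ DTen.extCx φ ⋙ DerivedCategory.Q).map f)))
  have h := LeftDer.isLeftDerivedFunctor (DTen.qis R) DerivedCategory.Q (F := F') (ψ := resψ R)
    (fun K => quasiIso_resψ K) hRF (fun K => by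
      haveI := ext_resψ φ _ (isKFlat_res K)
      exact inferInstanceAs (IsIso ((DRing.restrictD φ).map
        ((DTen.extCx φ ⋙ DerivedCategory.Q).map ((resψ R).app ((res R).obj K))))))
  let e : baseLF φ ⋙ DRing.restrictD φ ≅ LeftDer.LF (F := F') DerivedCategory.Q hRF :=
    letI : Localization.Lifting DerivedCategory.Q (DTen.qis R) (res R ⋙ F')
        (baseLF φ ⋙ DRing.restrictD φ) :=
      ⟨Functor.isoWhiskerRight (LeftDer.fac (F := DTen.extCx φ ⋙ DerivedCategory.Q)
        DerivedCategory.Q (ext_inverts φ)) (DRing.restrictD φ)⟩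
    letI : Localization.Lifting DerivedCategory.Q (DTen.qis R) (res R ⋙ F')
        (LeftDer.LF (F := F') DerivedCategory.Q hRF) := ⟨LeftDer.fac DerivedCategory.Q hRF⟩
    Localization.liftNatIso DerivedCategory.Q (DTen.qis R) (res R ⋙ F') (res R ⋙ F') _ _ (Iso.refl _)
  refine (Functor.isLeftDerivedFunctor_iff_of_iso _ _ _ _ (DTen.qis R) e ?_).2 h
  ext K
  dsimp [e]
  rw [Localization.liftNatIso_hom, Localization.liftNatTrans_app]
  simp [baseα, LeftDer.α_app, F']
  exact ((DRing.restrictD φ).map_comp _ _).symm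

instance isRightDerived_restrictD :
    (DRing.restrictD φ).IsRightDerivedFunctor (DTen.resFactors φ).inv (DTen.qis A) :=
  isRightDerivedFunctor_of_isIso DerivedCategory.Q _ _ _

instance : (DRing.restrictD φ ⋙ baseLF φ).IsRightDerivedFunctor
    (Functor.whiskerRight (DTen.resFactors φ).inv (baseLF φ) ≫ (Functor.associator _ _ _).hom)
    (DTen.qis A) :=
  isRightDerivedFunctor_of_isIso DerivedCategory.Q _ _ _

/-- The derived adjunction. -/
noncomputable def baseAdj' : baseLF φ ⊣ DRing.restrictD φ :=
  (adjCx φ).derived (DTen.qis R) (DTen.qis A) (baseα φ) (DTen.resFactors φ).inv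

lemma baseAdj'_fac (K : DRing.Cx R) :
    (baseAdj' φ).unit.app (DerivedCategory.Q.obj K) ≫ (DRing.restrictD φ).map ((baseα φ).app K) =
      DerivedCategory.Q.map ((DTen.unitCx φ).app K) ≫
        (DTen.resFactors φ).inv.app ((DTen.extCx φ).obj K) :=
  (adjCx φ).derivedη_fac_app (DTen.qis R) (baseα φ) (DTen.resFactors φ).inv K

/-- `HasLBase` holds. -/
theorem hasLBase : DTen.HasLBase φ := ⟨(baseAdj' φ).isRightAdjoint⟩

variable [DTen.HasLBase φ]

theorem baseCmp_eq (K : DRing.Cx R) :
    (DTen.baseCmp φ).app K =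
      ((DTen.baseAdj φ).leftAdjointUniq (baseAdj' φ)).hom.app (DerivedCategory.Q.obj K) ≫
        (baseα φ).app K := by
  apply ((DTen.baseAdj φ).homEquiv _ _).injective
  rw [Adjunction.homEquiv_unit, Adjunction.homEquiv_unit, DTen.baseCmp_fac, Functor.map_comp,
    ← Category.assoc]
  erw [Adjunction.unit_leftAdjointUniq_hom_app, baseAdj'_fac]
  rfl

/-- `baseCmp` is an isomorphism on K-flat complexes. -/
theorem isIso_baseCmp (K : DRing.Cx R) (hK : KFlat.IsKFlat (TT R) K) :
    IsIso ((DTen.baseCmp φ).app K) := by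
  haveI := isIso_baseα φ K hK
  rw [baseCmp_eq]
  exact IsIso.comp_isIso

end Groth.Agent.H25DTen
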