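import Groth.Agent.H25DTen.HomExists
import Groth.Agent.H8Props.PseudoCoh.TorDim
import Mathlib

/-!
# Cohomological amplitude of derived tensor products and derived homs
-/

set_option autoImplicit false
set_option backward.isDefEq.respectTransparency false

universe u

open CategoryTheory CategoryTheory.Limits MonoidalCategory Pretriangulated Opposite

attribute [local instance] HasDerivedCategory.standard

namespace Groth.Agent.H25DTen

variable {A : Type u} [CommRing A]

lemma isLE_S (k : ℤ) : (S A k).IsLE (-k) := by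
  haveI : CochainComplex.IsStrictlyLE (𝟙_ (DRing.Cx A)) 0 :=
    (CochainComplex.isStrictlyLE_iff _ 0).2 fun q hq =>
      HomologicalComplex.isZero_single_obj_X (ComplexShape.up ℤ) 0 _ q (by omega)
  haveI : (DerivedCategory.Q.obj (𝟙_ (DRing.Cx A))).IsLE 0 := inferInstance
  haveI := DerivedCategory.TStructure.t.isLE_shift (DerivedCategory.Q.obj (𝟙_ (DRing.Cx A))) 0 k (-k)
  exact DerivedCategory.TStructure.t.isLE_of_iso (X := (DerivedCategory.Q.obj (𝟙_ (DRing.Cx A)))⟦k⟧)
    (((DerivedCategory.Q (C := ModuleCat.{u} A)).commShiftIso k).app _).symm (-k)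

lemma hom_S_eq_zero_of_isGE {Z : Dual.D A} {c k : ℤ} (hk : -c < k) (hZ : Z.IsGE c) (f : S A k ⟶ Z) :
    f = 0 :=
  DerivedCategory.TStructure.t.zero_of_isLE_of_isGE f (-k) c (by omega) (isLE_S k) hZ

/-- Coconnectivity is detected by maps out of the shifts of the unit. -/
theorem isGE_of_hom_S_eq_zero {Z : Dual.D A} {c : ℤ}
    (h : ∀ k : ℤ, -c < k → ∀ f : S A k ⟶ Z, f = 0) : Z.IsGE c := by
  obtain ⟨K, ⟨e⟩⟩ := Localization.essSurj DerivedCategory.Q (DTen.qis A) |>.mem_essImage Z
  suffices (DerivedCategory.Q.obj K).IsGE c from DerivedCategory.TStructure.t.isGE_of_iso e c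
  rw [DerivedCategory.isGE_Q_obj_iff, CochainComplex.isGE_iff]
  intro i hi
  let E : DRing.Cx A := (HomologicalComplex.single (ModuleCat.{u} A) (ComplexShape.up ℤ) i).obj (ModuleCat.of A A)
  haveI : E.IsStrictlyLE i := (CochainComplex.isStrictlyLE_iff E i).2 fun q hq =>
    HomologicalComplex.isZero_single_obj_X (ComplexShape.up ℤ) i _ q (by omega)
  haveI : ∀ q, CategoryTheory.Projective (E.X q) := fun q => by
    by_cases hq : q = i
    · subst hq
      haveI : CategoryTheory.Projective (ModuleCat.of A A) :=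
        (IsProjective.iff_projective A).1 inferInstance
      exact Projective.of_iso (HomologicalComplex.singleObjXSelf (ComplexShape.up ℤ) q _).symm inferInstance
    · haveI := ModuleCat.subsingleton_of_isZero
        (HomologicalComplex.isZero_single_obj_X (ComplexShape.up ℤ) i (ModuleCat.of A A) q hq)
      exact (IsProjective.iff_projective (E.X q)).1 inferInstance
  haveI := CochainComplex.isKProjective_of_projective E i
  let eS : DerivedCategory.Q.obj E ≅ S A (-i) := DerivedCategory.Q.mapIso (singleUnitIso i)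
  rw [HomologicalComplex.exactAt_iff' K (i - 1) i (i + 1) (by simp) (by simp), ShortComplex.moduleCat_exact_iff]
  intro x hx
  change K.X i at x
  let g : E ⟶ K := HomologicalComplex.mkHomFromSingle (ModuleCat.ofHom (LinearMap.toSpanSingleton A _ x))
    (fun j hj => by
      obtain rfl : i + 1 = j := hj
      refine ModuleCat.hom_ext (LinearMap.ext_ring ?_)
      change K.d i (i + 1) ((1 : A) • x) = 0
      rw [one_smul]; exact hx)
  have h0 : DerivedCategory.Q.map g = 0 := by
    rw [← cancel_epi eS.inv, comp_zero]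
    exact (cancel_mono e.hom).1 (by rw [zero_comp]; exact h (-i) (by omega) _)
  have hh : DerivedCategory.Qh.map ((HomotopyCategory.quotient _ _).map g) =
      DerivedCategory.Qh.map ((HomotopyCategory.quotient _ _).map 0) := by
    rw [← cancel_mono ((DerivedCategory.quotientCompQhIso _).hom.app K),
      DerivedCategory.quotientCompQhIso_hom_naturality,
      DerivedCategory.quotientCompQhIso_hom_naturality, h0, Functor.map_zero]
  let H := HomotopyCategory.homotopyOfEq _ _
    ((CochainComplex.IsKProjective.Qh_map_bijective E ((HomotopyCategory.quotient _ _).obj K)).1 hh)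
  have hc := H.comm i
  rw [dNext_eq _ (show (ComplexShape.up ℤ).Rel i (i + 1) from rfl),
    prevD_eq _ (show (ComplexShape.up ℤ).Rel (i - 1) i from sub_add_cancel i 1),
    HomologicalComplex.single_obj_d, zero_comp, zero_add, HomologicalComplex.zero_f, add_zero] at hc
  refine ⟨H.hom i (i - 1)
    ((HomologicalComplex.singleObjXSelf (ComplexShape.up ℤ) i (ModuleCat.of A A)).inv (1 : A)), ?_⟩
  have hc' := congrArg (fun z =>
    ((HomologicalComplex.singleObjXSelf (ComplexShape.up ℤ) i (ModuleCat.of A A)).inv ≫ z) (1 : A)) hc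
  dsimp only at hc'
  rw [HomologicalComplex.mkHomFromSingle_f, Iso.inv_hom_id_assoc] at hc'
  refine hc'.symm.trans ?_
  exact one_smul A x

variable [DTen.HasLTen A]

/-- `A[k] ⊗ C ≅ C[k]`. -/
noncomputable def shiftTensorUnitIso (k : ℤ) (C : Dual.D A) : (DTen.LTen₂ A).obj (S A k, C) ≅ C⟦k⟧ :=
  let hC := Localization.essSurj DerivedCategory.Q (DTen.qis A) |>.mem_essImage C
  haveI := isIso_ε (unitCx A k) hC.choose (Or.inl (isKFlat_unitCx k))
  (DTen.LTen₂ A).mapIso ((Iso.refl (S A k)).prod hC.choose_spec.some.symm) ≪≫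
    asIso ((DTen.ε A).app (unitCx A k, hC.choose)) ≪≫
    DerivedCategory.Q.mapIso (shiftTensorIso _ _ k ≪≫ (shiftFunctor (DRing.Cx A) k).mapIso (λ_ hC.choose)) ≪≫
    ((DerivedCategory.Q (C := ModuleCat.{u} A)).commShiftIso k).app _ ≪≫
    (shiftFunctor (Dual.D A) k).mapIso hC.choose_spec.some

variable [DTen.HasLTen₃ A] [DTen.IsSymMonoidal A] [DTen.HasRHom A]

/-- `RHom(C, M)` is coconnective for `C` connective and `M` coconnective. -/
theorem isGE_RHom {C M : Dual.D A} {a n c : ℤ} (hc : c + a ≤ n) (hC : C.IsLE a) (hM : M.IsGE n) :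
    ((DTen.RHomR A C).obj M).IsGE c := by
  refine isGE_of_hom_S_eq_zero fun k hk f => ?_
  apply (DTen.rhomHomEquiv (S A k) C M).symm.injective
  haveI := DerivedCategory.TStructure.t.isLE_shift C a k (a - k)
  have hz : ∀ g : (DTen.LTen₂ A).obj (S A k, C) ⟶ M, g = 0 := fun g =>
    DerivedCategory.TStructure.t.zero_of_isLE_of_isGE g (a - k) n (by omega)
      (DerivedCategory.TStructure.t.isLE_of_iso (shiftTensorUnitIso k C).symm _) hM
  exact (hz _).trans (hz _).symm

/-- Tensoring with a module of finite tor dimension lowers coconnectivity by at most the tor dimension. -/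
theorem isGE_tensor_of_torDim {Z : Dual.D A} {c : ℤ} (hZ : Z.IsGE c) :
    ∀ (d : ℕ) (M : Type u) [AddCommGroup M] [Module A M], DRing.HasTorDimLE A d M →
      ((DTen.LTen₂ A).obj (Dual.inD A M, Z)).IsGE (c - d)
  | 0, M, _, _, h => by
    haveI := Groth.Agent.H8Props.PseudoCoh.hasTorDimLE_zero_iff.mp h
    obtain ⟨K, hK, ⟨eZ⟩⟩ := DerivedCategory.exists_iso_Q_obj_of_isGE Z c
    let sM : DRing.Cx A := (HomologicalComplex.single (ModuleCat.{u} A) (ComplexShape.up ℤ) 0).obj (ModuleCat.of A M)
    have hflat : Groth.Agent.H16Derived.KFlat.IsKFlat (TT A) sM :=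
      Groth.Agent.H16Derived.KFlat.isKFlat_of_singleDegree _ 0
        (fun q hq => HomologicalComplex.isZero_single_obj_X (ComplexShape.up ℤ) 0 _ q hq)
        ((isFlatObj_of_flat (ModuleCat.of A M)).of_iso
          (HomologicalComplex.singleObjXSelf (ComplexShape.up ℤ) 0 (ModuleCat.of A M)).symm)
    haveI := isIso_ε sM K (Or.inl hflat)
    haveI : CochainComplex.IsStrictlyGE (sM ⊗ K) c := by
      refine (CochainComplex.isStrictlyGE_iff _ c).2 fun n hn => ?_
      refine (IsZero.iff_id_eq_zero _).2 (HomologicalComplex.mapBifunctor.hom_ext fun p q hpq => ?_)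
      refine IsZero.eq_of_src ?_ _ _
      replace hpq : p + q = n := hpq
      by_cases hp : p = 0
      · exact ((curriedTensor (ModuleCat.{u} A)).obj (sM.X p)).map_isZero
          (CochainComplex.isZero_of_isStrictlyGE K c q (by omega))
      · exact ((curriedTensor (ModuleCat.{u} A)).map_isZero
          (HomologicalComplex.isZero_single_obj_X (ComplexShape.up ℤ) 0 _ p hp)).obj _
    haveI : (DerivedCategory.Q.obj (sM ⊗ K)).IsGE (c - (0 : ℕ)) := by
      rw [Nat.cast_zero, sub_zero]; infer_instance
    exact DerivedCategory.TStructure.t.isGE_of_iso (X := DerivedCategory.Q.obj (sM ⊗ K))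
      ((asIso ((DTen.ε A).app (sM, K))).symm ≪≫ (DTen.LTen₂ A).mapIso
        (((DerivedCategory.singleFunctorIsoCompQ (ModuleCat.{u} A) 0).app (ModuleCat.of A M)).symm.prod eZ.symm)) _
  | d + 1, M, _, _, h => by
    let f := Finsupp.linearCombination A (id : M → M)
    have hf : Function.Surjective f := Groth.Agent.H8Props.PseudoCoh.exists_free_surjective M
    have hk := isGE_tensor_of_torDim hZ d (LinearMap.ker f)
      ((Groth.Agent.H8Props.PseudoCoh.hasTorDimLE_succ_iff f hf).mp h)
    have hF := isGE_tensor_of_torDim hZ 0 (M →₀ A) (Groth.Agent.H8Props.PseudoCoh.hasTorDimLE_of_flat 0 _)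
    let Sq : ShortComplex (ModuleCat.{u} A) := ShortComplex.mk
      (X₁ := ModuleCat.of A (LinearMap.ker f)) (X₂ := ModuleCat.of A (M →₀ A)) (X₃ := ModuleCat.of A M)
      (ModuleCat.ofHom (X := LinearMap.ker f) (Y := M →₀ A) (LinearMap.ker f).subtype) (ModuleCat.ofHom f)
      (ModuleCat.hom_ext (LinearMap.ext fun (x : LinearMap.ker f) => x.2))
    have hSq : Sq.ShortExact :=
      { exact := (ShortComplex.ShortExact.moduleCat_exact_iff_function_exact _).2 (LinearMap.exact_subtype_ker_map f)
        mono_f := (ModuleCat.mono_iff_injective _).2 Subtype.val_injective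
        epi_g := (ModuleCat.epi_iff_surjective _).2 hf }
    refine isGE_of_hom_S_eq_zero fun k hk' x => ?_
    let T := hSq.singleTriangle.rotate
    have hT : T ∈ (distTriang _) := rot_of_distTriang _ hSq.singleTriangle_distinguished
    have hz : ∀ y : S A k ⟶ (TR Z).obj T.obj₃, y = 0 := by
      intro y
      let e : (TR Z).obj T.obj₃ ≅ ((DTen.LTen₂ A).obj (Dual.inD A (LinearMap.ker f), Z))⟦(1 : ℤ)⟧ :=
        (TR Z).mapIso (shiftTensorUnitIso 1 (Dual.inD A (LinearMap.ker f))).symm ≪≫
          DTen.associator _ _ _ ≪≫ shiftTensorUnitIso 1 _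
      haveI := DerivedCategory.TStructure.t.isGE_shift
        ((DTen.LTen₂ A).obj (Dual.inD A (LinearMap.ker f), Z)) (c - d) 1 (c - d - 1)
      rw [← cancel_mono e.hom, zero_comp]
      exact hom_S_eq_zero_of_isGE (c := c - d - 1) (by omega) inferInstance _
    obtain ⟨w, hw⟩ := (isExact_coyoneda Z (S A k) T hT x).1 (hz _)
    rw [← hw, show w = 0 from hom_S_eq_zero_of_isGE (c := c - (0 : ℕ)) (by omega) hF w]
    exact map_zero _

end Groth.Agent.H25DTen
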