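import Groth.Agent.H25DTen.Perfect
import Mathlib

/-!
# Localizing induction for `D(A)`

A property closed under retracts, extensions and coproducts of complexes which holds for the shifts of
the unit holds for every object of `D(A)`.
-/

set_option autoImplicit false

universe u

open CategoryTheory CategoryTheory.Limits MonoidalCategory Pretriangulated

attribute [local instance] HasDerivedCategory.standard

namespace Groth.Agent.H25DTen

open Groth.Agent.H16Derived

variable {A : Type u} [CommRing A]

open Classical in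
/-- The projection from a coproduct to a summand. -/
noncomputable def sProj {C : Type*} [Category C] [Preadditive C] {ι : Type*} (K : ι → C)
    [HasCoproduct K] (i : ι) : (∐ K) ⟶ K i :=
  Limits.Sigma.desc fun j => if h : j = i then eqToHom (congrArg K h) else 0

lemma ι_sProj_self {C : Type*} [Category C] [Preadditive C] {ι : Type*} (K : ι → C)
    [HasCoproduct K] (i : ι) : Sigma.ι K i ≫ sProj K i = 𝟙 _ := by
  simp [sProj]

lemma ι_sProj_of_ne {C : Type*} [Category C] [Preadditive C] {ι : Type*} (K : ι → C)
    [HasCoproduct K] {i j : ι} (h : j ≠ i) : Sigma.ι K j ≫ sProj K i = 0 := by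
  simp [sProj, h]

/-- In `ModuleCat` the projections from a coproduct are jointly injective. -/
lemma eq_zero_of_sProj {ι : Type u} (M : ι → ModuleCat.{u} A) (x : (∐ M : ModuleCat.{u} A))
    (h : ∀ i, sProj M i x = 0) : x = 0 := by
  classical
  let e := ModuleCat.coprodIsoDirectSum M
  have key : ∀ i, sProj M i = e.hom ≫ ModuleCat.ofHom (DirectSum.component A ι (fun i => M i) i) := by
    intro i
    refine Sigma.hom_ext _ _ fun j => ?_
    rw [← Category.assoc, ModuleCat.ι_coprodIsoDirectSum_hom]
    by_cases hji : j = i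
    · subst hji
      rw [ι_sProj_self]
      refine ModuleCat.hom_ext (LinearMap.ext fun m => ?_)
      exact (DirectSum.component.lof_self A (M := fun i => M i) j m).symm
    · rw [ι_sProj_of_ne M hji]
      refine ModuleCat.hom_ext (LinearMap.ext fun m => ?_)
      exact ((DirectSum.component.of A (M := fun i => M i) i j m).trans (dif_neg hji)).symm
  refine e.toLinearEquiv.injective ((DirectSum.ext_component A fun i => ?_).trans (map_zero _).symm)
  have hi : DirectSum.component A ι (fun i => M i) i (e.hom x) = sProj M i x := by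
    rw [key]; rfl
  rw [map_zero]
  exact hi.trans (h i)

section Telescope

variable (K : ℕ ⥤ DRing.Cx A)

/-- `∐ K ⟶ ∐ K`, the identity minus the shift map. -/
noncomputable def teleMap : (∐ fun n => K.obj n) ⟶ ∐ fun n => K.obj n :=
  𝟙 _ - Limits.Sigma.desc fun n => K.map (homOfLE (Nat.le_succ n)) ≫ Sigma.ι (fun n => K.obj n) (n + 1)

lemma ι_teleMap (n : ℕ) : Sigma.ι (fun n => K.obj n) n ≫ teleMap K =
    Sigma.ι (fun n => K.obj n) n -
      K.map (homOfLE (Nat.le_succ n)) ≫ Sigma.ι (fun n => K.obj n) (n + 1) := by
  simp [teleMap]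

lemma teleMap_proj_zero :
    teleMap K ≫ sProj (fun n => K.obj n) 0 = sProj (fun n => K.obj n) 0 := by
  refine Sigma.hom_ext _ _ fun m => ?_
  rw [← Category.assoc, ι_teleMap, Preadditive.sub_comp, Category.assoc,
    ι_sProj_of_ne _ (by omega : m + 1 ≠ 0), comp_zero, sub_zero]

lemma teleMap_proj_succ (n : ℕ) :
    teleMap K ≫ sProj (fun n => K.obj n) (n + 1) = sProj (fun n => K.obj n) (n + 1) -
      sProj (fun n => K.obj n) n ≫ K.map (homOfLE (Nat.le_succ n)) := by
  refine Sigma.hom_ext _ _ fun m => ?_
  rw [← Category.assoc, ι_teleMap, Preadditive.sub_comp, Category.assoc, Preadditive.comp_sub]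
  congr 1
  by_cases h : m = n
  · subst h
    rw [ι_sProj_self, Category.comp_id, ← Category.assoc, ι_sProj_self, Category.id_comp]
  · rw [ι_sProj_of_ne _ (by omega : m + 1 ≠ n + 1), comp_zero, ← Category.assoc, ι_sProj_of_ne _ h,
      zero_comp]

lemma mono_teleMap : Mono (teleMap K) := by
  refine Preadditive.mono_of_cancel_zero _ fun {Z} g hg => ?_
  have h : ∀ n, g ≫ sProj (fun n => K.obj n) n = 0 := by
    intro n
    induction n with
    | zero => rw [← teleMap_proj_zero, ← Category.assoc, hg, zero_comp]
    | succ n ih =>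
      have := reassoc_of% hg
      have h1 : g ≫ teleMap K ≫ sProj (fun n => K.obj n) (n + 1) = 0 := by
        rw [← Category.assoc, hg, zero_comp]
      rw [teleMap_proj_succ, Preadditive.comp_sub, reassoc_of% ih, zero_comp, sub_zero] at h1
      exact h1
  refine HomologicalComplex.hom_ext _ _ fun q => ModuleCat.hom_ext (LinearMap.ext fun z => ?_)
  let ev := HomologicalComplex.eval (ModuleCat.{u} A) (ComplexShape.up ℤ) q
  let c := sigmaComparison ev (fun n : ℕ => K.obj n)
  haveI : IsIso c := by
    exact (PreservesCoproduct.iso ev (fun n : ℕ => K.obj n)).isIso_inv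
  let x := inv c (g.f q z)
  have key : x = 0 := by
    have e : ∀ i : ULift.{u} ℕ, sProj (fun i : ULift.{u} ℕ => (K.obj i.down).X q) i
        ((Limits.Sigma.desc fun n => Sigma.ι (fun i : ULift.{u} ℕ => (K.obj i.down).X q) ⟨n⟩ : (∐ fun n => (K.obj n).X q) ⟶ _) x) = 0 := by
      intro i
      have hp : (Limits.Sigma.desc fun n => Sigma.ι (fun i : ULift.{u} ℕ => (K.obj i.down).X q) ⟨n⟩ :
            (∐ fun n => (K.obj n).X q) ⟶ _) ≫ sProj (fun i : ULift.{u} ℕ => (K.obj i.down).X q) i =
          c ≫ (sProj (fun n => K.obj n) i.down).f q := by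
        refine Sigma.hom_ext _ _ fun m => ?_
        dsimp [c]
        rw [Sigma.ι_desc_assoc]
        have hc' : Sigma.ι (fun n : ℕ => (K.obj n).X q) m ≫ sigmaComparison ev (fun n : ℕ => K.obj n) =
            (Sigma.ι (fun n => K.obj n) m).f q := ι_comp_sigmaComparison ev (fun n : ℕ => K.obj n) m
        erw [reassoc_of% hc']
        erw [← HomologicalComplex.comp_f]
        by_cases hm : m = i.down
        · obtain ⟨i⟩ := i
          subst hm
          rw [ι_sProj_self, ι_sProj_self]
          rfl
        · rw [ι_sProj_of_ne _ hm, ι_sProj_of_ne]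
          · rfl
          · exact fun h => hm (congrArg ULift.down h)
      refine (ConcreteCategory.comp_apply _ _ x).symm.trans ?_
      refine (congrArg (fun φ : (∐ fun n => (K.obj n).X q) ⟶ _ => φ x) hp).trans ?_
      refine (ConcreteCategory.comp_apply _ _ x).trans ?_
      have : c x = g.f q z := by
        dsimp [x]
        rw [← ConcreteCategory.comp_apply, IsIso.inv_hom_id, ConcreteCategory.id_apply]
      rw [this]
      exact congrArg (fun φ : Z ⟶ _ => φ.f q z) (h i.down)
    have h0 := eq_zero_of_sProj _ _ e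
    let back : (∐ fun i : ULift.{u} ℕ => (K.obj i.down).X q) ⟶ ∐ fun n => (K.obj n).X q :=
      Limits.Sigma.desc fun i => Sigma.ι (fun n => (K.obj n).X q) i.down
    have hb : (Limits.Sigma.desc fun n => Sigma.ι (fun i : ULift.{u} ℕ => (K.obj i.down).X q) ⟨n⟩ :
        (∐ fun n => (K.obj n).X q) ⟶ _) ≫ back = 𝟙 _ := Sigma.hom_ext _ _ fun m => by simp [back]
    have := congrArg back h0
    rw [map_zero, ← ConcreteCategory.comp_apply, hb, ConcreteCategory.id_apply] at this
    exact this
  have : c x = g.f q z := by
    dsimp [x]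
    rw [← ConcreteCategory.comp_apply, IsIso.inv_hom_id, ConcreteCategory.id_apply]
  exact this.symm.trans ((congrArg c key).trans (map_zero _))

/-- The telescope of a sequence. -/
noncomputable def tele {c : Cocone K} : ShortComplex (DRing.Cx A) :=
  ShortComplex.mk (teleMap K) (Limits.Sigma.desc fun n => c.ι.app n) (Sigma.hom_ext _ _ fun n => by
    rw [← Category.assoc, ι_teleMap, Preadditive.sub_comp, Category.assoc, Sigma.ι_desc, Sigma.ι_desc,
      c.w, sub_self, comp_zero])

lemma shortExact_tele {c : Cocone K} (hc : IsColimit c) : (tele K (c := c)).ShortExact := by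
  let S := tele K (c := c)
  let cofork := CokernelCofork.ofπ S.g S.zero
  have hcok : IsColimit cofork := by
    refine CokernelCofork.IsColimit.ofπ S.g S.zero (fun {W} w hw => hc.desc ⟨W, NatTrans.ofSequence
      (fun n => Sigma.ι (fun n => K.obj n) n ≫ w) fun n => ?_⟩) (fun {W} w hw => ?_) (fun {W} w hw m hm => ?_)
    · have h := congrArg (Sigma.ι (fun n => K.obj n) n ≫ ·) hw
      dsimp [S, tele] at h
      erw [← Category.assoc, ι_teleMap, Preadditive.sub_comp, Category.assoc, comp_zero, sub_eq_zero] at h
      simpa using h.symm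
    · refine Sigma.hom_ext _ _ fun n => ?_
      dsimp [S, tele]
      rw [Sigma.ι_desc_assoc, hc.fac]
      rfl
    · refine hc.hom_ext fun n => ?_
      rw [hc.fac]
      refine Eq.trans ?_ (congrArg (Sigma.ι (fun n => K.obj n) n ≫ ·) hm)
      exact (Sigma.ι_desc_assoc _ _ _).symm
  exact { exact := S.exact_of_g_is_cokernel hcok
          mono_f := mono_teleMap K
          epi_g := Cofork.IsColimit.epi hcok }

end Telescope

section Induction

variable (P : Dual.D A → Prop)
    (hretract : ∀ {K L : Dual.D A} (i : K ⟶ L) (r : L ⟶ K), i ≫ r = 𝟙 K → P L → P K)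
    (hext : ∀ (T : Triangle (Dual.D A)), T ∈ (distTriang _) → P T.obj₁ → P T.obj₃ → P T.obj₂)
    (hcoprod : ∀ (ι : Type u) (K : ι → DRing.Cx A), (∀ i, P (DerivedCategory.Q.obj (K i))) →
      P (DerivedCategory.Q.obj (∐ K)))
    (hS : ∀ k : ℤ, P (S A k))

/-- All shifts satisfy the property. -/
def AllShifts (X : Dual.D A) : Prop := ∀ n : ℤ, P (X⟦n⟧)

include hretract in
lemma iso_mem {K L : Dual.D A} (e : K ≅ L) (h : P L) : P K := hretract e.hom e.inv e.hom_inv_id h

include hretract in
lemma allShifts_retract {K L : Dual.D A} (i : K ⟶ L) (r : L ⟶ K) (h : i ≫ r = 𝟙 K)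
    (hL : AllShifts P L) : AllShifts P K := fun n =>
  hretract (i⟦n⟧') (r⟦n⟧') (by rw [← Functor.map_comp, h, CategoryTheory.Functor.map_id]) (hL n)

include hext in
lemma allShifts_ext (T : Triangle (Dual.D A)) (hT : T ∈ (distTriang _)) (h₁ : AllShifts P T.obj₁)
    (h₃ : AllShifts P T.obj₃) : AllShifts P T.obj₂ := fun n =>
  hext _ (Triangle.shift_distinguished _ hT n) (h₁ n) (h₃ n)

include hretract hext in
lemma allShifts_third (T : Triangle (Dual.D A)) (hT : T ∈ (distTriang _)) (h₁ : AllShifts P T.obj₁)
    (h₂ : AllShifts P T.obj₂) : AllShifts P T.obj₃ :=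
  allShifts_ext P hext T.rotate (rot_of_distTriang _ hT) h₂ fun n =>
    iso_mem P hretract ((shiftFunctorAdd (Dual.D A) 1 n).app T.obj₁).symm (h₁ (1 + n))

include hretract hcoprod in
lemma allShifts_coprod (ι : Type u) (K : ι → DRing.Cx A)
    (h : ∀ i, AllShifts P (DerivedCategory.Q.obj (K i))) :
    AllShifts P (DerivedCategory.Q.obj (∐ K)) := fun n => by
  let eQ := (DerivedCategory.Q (C := ModuleCat.{u} A)).commShiftIso n
  refine iso_mem P hretract ((eQ.app (∐ K)).symm ≪≫ DerivedCategory.Q.mapIso
    (PreservesCoproduct.iso (shiftFunctor (DRing.Cx A) n) K)) ?_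
  exact hcoprod ι _ fun i => iso_mem P hretract (eQ.app (K i)) (h i n)

include hretract hext hcoprod hS in
/-- The localizing induction principle. -/
theorem localizing_induction (X : Dual.D A) : P X := by
  suffices H : AllShifts P X from
    iso_mem P hretract ((shiftFunctorZero (Dual.D A) ℤ).app X).symm (H 0)
  have hiso : ∀ {K L : Dual.D A}, (K ≅ L) → AllShifts P L → AllShifts P K := fun e h =>
    allShifts_retract P hretract e.hom e.inv e.hom_inv_id h
  let sg (k : ℤ) : ModuleCat.{u} A ⥤ DRing.Cx A :=
    HomologicalComplex.single (ModuleCat.{u} A) (ComplexShape.up ℤ) k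
  have hS' : ∀ k, AllShifts P (S A k) := fun k n =>
    iso_mem P hretract
      (((DerivedCategory.Q (C := ModuleCat.{u} A)).commShiftIso n).symm.app _ ≪≫
        DerivedCategory.Q.mapIso (((shiftFunctorAdd (DRing.Cx A) k n).app (𝟙_ (DRing.Cx A))).symm))
      (hS (k + n))
  have hfree : ∀ (k : ℤ) (ι : Type u),
      AllShifts P (DerivedCategory.Q.obj ((sg k).obj (ModuleCat.of A (ι →₀ A)))) := by
    intro k ι
    let i : (sg k).obj (ModuleCat.of A (ι →₀ A)) ⟶ ∐ fun _ : ι => (sg k).obj (ModuleCat.of A A) :=
      HomologicalComplex.mkHomFromSingle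
        (ModuleCat.ofHom (Finsupp.lsum A fun j : ι =>
          ((HomologicalComplex.singleObjXSelf (ComplexShape.up ℤ) k (ModuleCat.of A A)).inv ≫
            (Sigma.ι (fun _ : ι => (sg k).obj (ModuleCat.of A A)) j).f k).hom))
        (fun l hl => ModuleCat.hom_ext (Finsupp.lhom_ext' fun j => LinearMap.ext fun a => by
          have h0 : (((HomologicalComplex.singleObjXSelf (ComplexShape.up ℤ) k (ModuleCat.of A A)).inv ≫
            (Sigma.ι (fun _ : ι => (sg k).obj (ModuleCat.of A A)) j).f k) ≫
              (∐ fun _ : ι => (sg k).obj (ModuleCat.of A A)).d k l) = 0 := by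
            rw [Category.assoc, HomologicalComplex.Hom.comm, HomologicalComplex.single_obj_d, zero_comp,
              comp_zero]
          simp only [ModuleCat.hom_comp, ModuleCat.hom_ofHom, LinearMap.comp_apply, Finsupp.lsum_single,
            ModuleCat.hom_zero, LinearMap.zero_apply, Finsupp.lsingle_apply]
          exact ConcreteCategory.congr_hom h0 a))
    let r : (∐ fun _ : ι => (sg k).obj (ModuleCat.of A A)) ⟶ (sg k).obj (ModuleCat.of A (ι →₀ A)) :=
      Limits.Sigma.desc fun j => (sg k).map (ModuleCat.ofHom (Finsupp.lsingle j))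
    have hir : i ≫ r = 𝟙 _ := by
      refine HomologicalComplex.from_single_hom_ext ?_
      rw [HomologicalComplex.comp_f, HomologicalComplex.id_f]
      dsimp only [i]
      rw [HomologicalComplex.mkHomFromSingle_f, Category.assoc, ← Iso.eq_inv_comp, Category.comp_id]
      refine ModuleCat.hom_ext (Finsupp.lhom_ext' fun j => LinearMap.ext fun a => ?_)
      have h0 : (((HomologicalComplex.singleObjXSelf (ComplexShape.up ℤ) k (ModuleCat.of A A)).inv ≫
            (Sigma.ι (fun _ : ι => (sg k).obj (ModuleCat.of A A)) j).f k) ≫ r.f k) =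
          ModuleCat.ofHom (Finsupp.lsingle j) ≫
            (HomologicalComplex.singleObjXSelf (ComplexShape.up ℤ) k (ModuleCat.of A (ι →₀ A))).inv := by
        rw [Category.assoc, ← HomologicalComplex.comp_f, Sigma.ι_desc,
          HomologicalComplex.single_map_f_self, Iso.inv_hom_id_assoc]
      simpa using ConcreteCategory.congr_hom h0 a
    refine allShifts_retract P hretract (DerivedCategory.Q.map i) (DerivedCategory.Q.map r)
      (by rw [← Functor.map_comp, hir, CategoryTheory.Functor.map_id]) ?_
    exact allShifts_coprod P hretract hcoprod ι _ fun _ =>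
      hiso (DerivedCategory.Q.mapIso (singleUnitIso k)) (hS' (-k))
  have hproj : ∀ (k : ℤ) (M : ModuleCat.{u} A), Module.Projective A M →
      AllShifts P (DerivedCategory.Q.obj ((sg k).obj M)) := by
    intro k M hM
    obtain ⟨s, hs⟩ := Module.projective_def'.1 hM
    refine allShifts_retract P hretract (DerivedCategory.Q.map ((sg k).map (ModuleCat.ofHom s)))
      (DerivedCategory.Q.map ((sg k).map (ModuleCat.ofHom (Finsupp.linearCombination A id)))) ?_ (hfree k M)
    rw [← Functor.map_comp, ← Functor.map_comp, ← ModuleCat.ofHom_comp, hs]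
    exact ((sg k ⋙ DerivedCategory.Q).map_id M)
  have hsingle : ∀ (E : DRing.Cx A) (k : ℤ), (∀ q, q ≠ k → IsZero (E.X q)) →
      Module.Projective A (E.X k) → AllShifts P (DerivedCategory.Q.obj E) := by
    intro E k hz hE
    haveI : E.IsStrictlyGE k :=
      (CochainComplex.isStrictlyGE_iff E k).2 fun q hq => hz q (by omega)
    haveI : E.IsStrictlyLE k :=
      (CochainComplex.isStrictlyLE_iff E k).2 fun q hq => hz q (by omega)
    obtain ⟨M, ⟨e⟩⟩ := CochainComplex.exists_iso_single E k
    let eM : E.X k ≅ M := (HomologicalComplex.eval _ _ k).mapIso e ≪≫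
      HomologicalComplex.singleObjXSelf (ComplexShape.up ℤ) k M
    haveI := hE
    exact hiso (DerivedCategory.Q.mapIso e) (hproj k M (Module.Projective.of_equiv eM.toLinearEquiv))
  have hgeq : ∀ (E : DRing.Cx A) (a q : ℤ), Module.Projective A (E.X q) →
      Module.Projective A ((KFlat.Brutal.geq E a).X q) := by
    intro E a q hq
    by_cases h : a ≤ q
    · haveI := KFlat.Brutal.isIso_ι_f E a h
      haveI := hq
      exact Module.Projective.of_equiv (asIso ((KFlat.Brutal.ι E a).f q)).toLinearEquiv.symm
    · haveI := ModuleCat.subsingleton_of_isZero (KFlat.Brutal.isZero_geq E a (q := q) (by omega))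
      infer_instance
  have hbdd : ∀ (n : ℕ) (E : DRing.Cx A) (a : ℤ), (∀ q, q < a ∨ a + n < q → IsZero (E.X q)) →
      (∀ q, Module.Projective A (E.X q)) → AllShifts P (DerivedCategory.Q.obj E) := by
    intro n
    induction n with
    | zero => exact fun E a hz hE => hsingle E a (fun q hq => hz q (by omega)) (hE a)
    | succ n ih =>
      intro E a hz hE
      refine allShifts_ext P hext _ (DerivedCategory.triangleOfSES_distinguished
        (KFlat.Brutal.shortExact E (a + 1))) ?_ ?_
      · refine ih _ (a + 1) (fun q hq => ?_) (fun q => hgeq E _ q (hE q))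
        by_cases h : a + 1 ≤ q
        · haveI := KFlat.Brutal.isIso_ι_f E (a + 1) h
          exact (hz q (by omega)).of_iso (asIso ((KFlat.Brutal.ι E (a + 1)).f q))
        · exact KFlat.Brutal.isZero_geq E _ (by omega)
      · haveI := KFlat.Brutal.isIso_cokernel_π E (a + 1) (q := a) (by omega)
        refine hsingle _ a (fun q hq => ?_) ?_
        · rcases lt_or_gt_of_ne hq with h | h
          · exact KFlat.Brutal.isZero_cokernel' E _ (hz q (Or.inl h))
          · exact KFlat.Brutal.isZero_cokernel E _ (by omega)
        · haveI := hE a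
          exact Module.Projective.of_equiv
            (asIso ((cokernel.π (KFlat.Brutal.ι E (a + 1))).f a)).toLinearEquiv
  have hseq : ∀ (K : ℕ ⥤ DRing.Cx A) (c : Cocone K), IsColimit c →
      (∀ n, AllShifts P (DerivedCategory.Q.obj (K.obj n))) → AllShifts P (DerivedCategory.Q.obj c.pt) := by
    intro K c hc h
    have hsum : AllShifts P (DerivedCategory.Q.obj (∐ fun n => K.obj n)) := by
      refine hiso (DerivedCategory.Q.mapIso (Sigma.whiskerEquiv (g := fun i : ULift.{u} ℕ => K.obj i.down)
        Equiv.ulift.symm (fun _ => Iso.refl _))) ?_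
      exact allShifts_coprod P hretract hcoprod _ _ fun i => h i.down
    exact allShifts_third P hretract hext _
      (DerivedCategory.triangleOfSES_distinguished (shortExact_tele K hc)) hsum hsum
  have habove : ∀ (E : DRing.Cx A) (b : ℤ), (∀ q, b < q → IsZero (E.X q)) →
      (∀ q, Module.Projective A (E.X q)) → AllShifts P (DerivedCategory.Q.obj E) := by
    intro E b hz hE
    refine hseq _ _ (KFlat.Brutal.isColimitCocone E b) fun k => ?_
    refine hbdd k (KFlat.Brutal.geq E (b - k)) (b - k) (fun q hq => ?_) (fun q => hgeq E _ q (hE q))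
    by_cases h : b - k ≤ q
    · have := KFlat.Brutal.isIso_ι_f E (b - k) h
      exact (hz q (by omega)).of_iso (asIso ((KFlat.Brutal.ι E (b - k)).f q))
    · exact KFlat.Brutal.isZero_geq E _ (by omega)
  have hcover : ∀ M : ModuleCat.{u} A, Module.Projective A ((cover A).obj M) := by
    intro M
    obtain ⟨i, r, h⟩ := exists_retract_reduce (forget (ModuleCat.{u} A) ⋙ ModuleCat.free A) M
    haveI : Module.Projective A ((forget (ModuleCat.{u} A) ⋙ ModuleCat.free A).obj M) :=
      inferInstanceAs (Module.Projective A (_ →₀ A))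
    exact Module.Projective.of_split i.hom r.hom (by rw [← ModuleCat.hom_comp, h]; rfl)
  have hstage : ∀ (n : ℤ) (k : ℕ) (G : DRing.Cx A) (q : ℤ),
      Module.Projective A (((KFlat.Res.stage (cover A) (coverπ A) n k).P.obj G).X q) := by
    intro n k
    induction k with
    | zero => exact fun G q => hcover (G.X q)
    | succ k ih =>
      intro G q
      haveI : Module.Projective A (((KFlat.Res.cells (cover A) (n - k)
          (KFlat.Res.stage (cover A) (coverπ A) n k)).obj G).X (q + 1)) :=
        hcover ((KFlat.Res.trunc (n - k)).obj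
          ((KFlat.Res.stage (cover A) (coverπ A) n k).ker.obj G) |>.X (q + 1))
      haveI := ih G q
      let φ := (KFlat.Res.attach (cover A) (coverπ A) (n - k)
        (KFlat.Res.stage (cover A) (coverπ A) n k)).app G
      refine Module.Projective.of_split
        (((CochainComplex.mappingCone.fst φ).1.v q (q + 1) rfl).hom.prod
          (((CochainComplex.mappingCone.snd φ).v q q (add_zero q)).hom))
        (((CochainComplex.mappingCone.inl φ).v (q + 1) q (by omega)).hom.coprod
          (((CochainComplex.mappingCone.inr φ).f q)).hom) ?_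
      ext x
      exact LinearMap.congr_fun (congrArg ModuleCat.Hom.hom
        (CochainComplex.mappingCone.id_X φ q (q + 1) rfl)) x

  obtain ⟨G, ⟨e⟩⟩ := Localization.essSurj DerivedCategory.Q (DTen.qis A) |>.mem_essImage X
  haveI := quasiIso_resψ G
  haveI := isIso_Q_map ((resψ A).app G) inferInstance
  refine hiso (e.symm ≪≫ (asIso (DerivedCategory.Q.map ((resψ A).app G))).symm) ?_
  refine hseq _ _ (colimit.isColimit ((KFlat.Res.seqP (cover A) (coverπ A)).flip.obj G)) fun j => ?_
  exact habove _ (j : ℤ)
    (KFlat.Res.isZero_stage_X (G.truncLE j) j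
      (fun q hq => CochainComplex.isZero_of_isStrictlyLE _ (j : ℤ) q hq) (2 * j))
    (fun q => hstage _ _ _ q)

end Induction

end Groth.Agent.H25DTen
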