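import Mathlib.CategoryTheory.Triangulated.Pretriangulated
import Mathlib.CategoryTheory.Adjunction.Basic
import Mathlib.CategoryTheory.Adjunction.Limits
import Mathlib.CategoryTheory.Limits.Preserves.Shapes.Zero
import Mathlib.CategoryTheory.Triangulated.Opposite.Pretriangulated
import Mathlib.Algebra.Category.Grp.Basic
import Mathlib.Algebra.Exact
import Mathlib.Algebra.Category.Grp.EpiMono
import Mathlib.CategoryTheory.ConcreteCategory.EpiMono

/-!
# Exactness of left adjoints on triangulated categories, and the five lemma for natural transformations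
-/

set_option autoImplicit false

universe w v v' u u'

open CategoryTheory CategoryTheory.Limits Pretriangulated Opposite

namespace Groth.Agent.H25DTen.Dev

variable {C : Type u} [Category.{v} C] [Preadditive C] [HasZeroObject C] [HasShift C ℤ]
  [∀ n : ℤ, (shiftFunctor C n).Additive] [Pretriangulated C]

variable {D : Type u'} [Category.{v'} D] [Preadditive D] [HasZeroObject D] [HasShift D ℤ]
  [∀ n : ℤ, (shiftFunctor D n).Additive] [Pretriangulated D]

section Adj

variable {F : C ⥤ D} {G : D ⥤ C} (adj : F ⊣ G)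

include adj in
/-- A left adjoint turns the second map of a distinguished triangle into a weak cokernel. -/
theorem exists_factor_map (T : Triangle C) (hT : T ∈ (distTriang C)) {Z : D}
    (q : F.obj T.obj₂ ⟶ Z) (hq : F.map T.mor₁ ≫ q = 0) :
    ∃ r : F.obj T.obj₃ ⟶ Z, F.map T.mor₂ ≫ r = q := by
  haveI : F.IsLeftAdjoint := adj.isLeftAdjoint
  haveI : G.IsRightAdjoint := adj.isRightAdjoint
  have h0 : T.mor₁ ≫ adj.homEquiv _ _ q = 0 := by
    rw [← Adjunction.homEquiv_naturality_left, hq, Adjunction.homEquiv_unit, G.map_zero, comp_zero]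
  obtain ⟨g, hg⟩ := T.yoneda_exact₂ hT _ h0
  refine ⟨(adj.homEquiv _ _).symm g, ?_⟩
  rw [← Adjunction.homEquiv_naturality_left_symm, ← hg, Equiv.symm_apply_apply]

include adj in
/-- A left adjoint turns the first map of a distinguished triangle into a weak kernel. -/
theorem exists_lift_map (T : Triangle C) (hT : T ∈ (distTriang C)) {X : D}
    (x : X ⟶ F.obj T.obj₂) (hx : x ≫ F.map T.mor₂ = 0) :
    ∃ y : X ⟶ F.obj T.obj₁, y ≫ F.map T.mor₁ = x := by
  obtain ⟨Z, p, w, hd⟩ := distinguished_cocone_triangle (F.map T.mor₁)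
  obtain ⟨r, hr⟩ := exists_factor_map adj T hT p (comp_distTriang_mor_zero₁₂ _ hd)
  have hxp : x ≫ p = 0 := by rw [← hr, reassoc_of% hx, zero_comp]
  obtain ⟨y, hy⟩ := Triangle.coyoneda_exact₂ _ hd x hxp
  exact ⟨y, hy.symm⟩

end Adj

section Five

/-- Covariant exact functors to abelian groups. -/
def IsExact (s : C ⥤ AddCommGrpCat.{w}) : Prop :=
  ∀ T : Triangle C, T ∈ (distTriang C) → Function.Exact (s.map T.mor₁) (s.map T.mor₂)

/-- Contravariant exact functors to abelian groups. -/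
def IsExactOp (s : Cᵒᵖ ⥤ AddCommGrpCat.{w}) : Prop :=
  ∀ T : Triangle C, T ∈ (distTriang C) → Function.Exact (s.map T.mor₂.op) (s.map T.mor₁.op)

/-- The five lemma. -/
theorem bijective_of_chase {A₀ A₁ A₂ A₃ A₄ B₀ B₁ B₂ B₃ B₄ : Type w} [AddCommGroup A₀]
    [AddCommGroup A₁] [AddCommGroup A₂] [AddCommGroup A₃] [AddCommGroup A₄] [AddCommGroup B₀]
    [AddCommGroup B₁] [AddCommGroup B₂] [AddCommGroup B₃] [AddCommGroup B₄]
    (a₀ : A₀ →+ A₁) (a₁ : A₁ →+ A₂) (a₂ : A₂ →+ A₃) (a₃ : A₃ →+ A₄)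
    (b₀ : B₀ →+ B₁) (b₁ : B₁ →+ B₂) (b₂ : B₂ →+ B₃) (b₃ : B₃ →+ B₄)
    (h₀ : A₀ →+ B₀) (h₁ : A₁ →+ B₁) (h₂ : A₂ →+ B₂) (h₃ : A₃ →+ B₃) (h₄ : A₄ →+ B₄)
    (c₀ : ∀ x, b₀ (h₀ x) = h₁ (a₀ x)) (c₁ : ∀ x, b₁ (h₁ x) = h₂ (a₁ x))
    (c₂ : ∀ x, b₂ (h₂ x) = h₃ (a₂ x)) (c₃ : ∀ x, b₃ (h₃ x) = h₄ (a₃ x))
    (ea₁ : Function.Exact a₀ a₁) (ea₂ : Function.Exact a₁ a₂) (ea₃ : Function.Exact a₂ a₃)
    (eb₁ : Function.Exact b₀ b₁) (eb₂ : Function.Exact b₁ b₂) (eb₃ : Function.Exact b₂ b₃)
    (s₀ : Function.Surjective h₀) (b1 : Function.Bijective h₁) (b3 : Function.Bijective h₃)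
    (i₄ : Function.Injective h₄) : Function.Bijective h₂ := by
  constructor
  · rw [injective_iff_map_eq_zero]
    intro x hx
    have h2 : a₂ x = 0 := b3.1 (by rw [← c₂, hx, map_zero, map_zero])
    obtain ⟨y, rfl⟩ := (ea₂ x).1 h2
    obtain ⟨z, hz⟩ := (eb₁ (h₁ y)).1 (by rw [c₁, hx])
    obtain ⟨w, rfl⟩ := s₀ z
    have : a₀ w = y := b1.1 (by rw [← c₀, hz])
    rw [← this]
    exact ea₁.apply_apply_eq_zero w
  · intro t
    obtain ⟨y, hy⟩ := b3.2 (b₂ t)
    have h3 : a₃ y = 0 := i₄ (by rw [← c₃, hy, eb₃.apply_apply_eq_zero, map_zero])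
    obtain ⟨x, rfl⟩ := (ea₃ y).1 h3
    obtain ⟨z, hz⟩ := (eb₂ (t - h₂ x)).1 (by rw [map_sub, c₂, hy, sub_self])
    obtain ⟨w, rfl⟩ := b1.2 z
    exact ⟨a₁ w + x, by rw [map_add, ← c₁, hz, sub_add_cancel]⟩

/-- A natural transformation of exact functors which is bijective at the four outer terms of the sequence
of a triangle is so at the middle one. -/
theorem bijective_obj₂ {s t : C ⥤ AddCommGrpCat.{w}} (η : s ⟶ t) (hs : IsExact s) (ht : IsExact t)
    (T : Triangle C) (hT : T ∈ (distTriang C))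
    (h₀ : Function.Bijective (η.app T.invRotate.obj₁)) (h₁ : Function.Bijective (η.app T.obj₁))
    (h₃ : Function.Bijective (η.app T.obj₃)) (h₄ : Function.Bijective (η.app T.rotate.obj₃)) :
    Function.Bijective (η.app T.obj₂) :=
  bijective_of_chase (s.map T.invRotate.mor₁).hom (s.map T.mor₁).hom (s.map T.mor₂).hom
    (s.map T.mor₃).hom (t.map T.invRotate.mor₁).hom (t.map T.mor₁).hom (t.map T.mor₂).hom
    (t.map T.mor₃).hom (η.app _).hom (η.app _).hom (η.app _).hom (η.app _).hom (η.app _).hom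
    (fun x => (NatTrans.naturality_apply η _ x).symm) (fun x => (NatTrans.naturality_apply η _ x).symm)
    (fun x => (NatTrans.naturality_apply η _ x).symm) (fun x => (NatTrans.naturality_apply η _ x).symm)
    (hs _ (inv_rot_of_distTriang _ hT)) (hs _ hT) (hs _ (rot_of_distTriang _ hT))
    (ht _ (inv_rot_of_distTriang _ hT)) (ht _ hT) (ht _ (rot_of_distTriang _ hT))
    h₀.2 h₁ h₃ h₄.1

/-- The contravariant version. -/
theorem bijective_obj₂_op {s t : Cᵒᵖ ⥤ AddCommGrpCat.{w}} (η : s ⟶ t) (hs : IsExactOp s)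
    (ht : IsExactOp t) (T : Triangle C) (hT : T ∈ (distTriang C))
    (h₀ : Function.Bijective (η.app (op T.invRotate.obj₁)))
    (h₁ : Function.Bijective (η.app (op T.obj₁))) (h₃ : Function.Bijective (η.app (op T.obj₃)))
    (h₄ : Function.Bijective (η.app (op T.rotate.obj₃))) :
    Function.Bijective (η.app (op T.obj₂)) :=
  bijective_of_chase (s.map T.mor₃.op).hom (s.map T.mor₂.op).hom (s.map T.mor₁.op).hom
    (s.map T.invRotate.mor₁.op).hom (t.map T.mor₃.op).hom (t.map T.mor₂.op).hom (t.map T.mor₁.op).hom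
    (t.map T.invRotate.mor₁.op).hom (η.app _).hom (η.app _).hom (η.app _).hom (η.app _).hom (η.app _).hom
    (fun x => (NatTrans.naturality_apply η _ x).symm) (fun x => (NatTrans.naturality_apply η _ x).symm)
    (fun x => (NatTrans.naturality_apply η _ x).symm) (fun x => (NatTrans.naturality_apply η _ x).symm)
    (hs _ (rot_of_distTriang _ hT)) (hs _ hT) (hs _ (inv_rot_of_distTriang _ hT))
    (ht _ (rot_of_distTriang _ hT)) (ht _ hT) (ht _ (inv_rot_of_distTriang _ hT))
    h₄.2 h₃ h₁ h₀.1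

variable {s t : C ⥤ AddCommGrpCat.{w}} (η : s ⟶ t)

/-- The class of objects all whose shifts satisfy bijectivity is closed under extensions. -/
theorem bijective_shift_ext (hs : IsExact s) (ht : IsExact t) (T : Triangle C)
    (hT : T ∈ (distTriang C)) (h₁ : ∀ n : ℤ, Function.Bijective (η.app (T.obj₁⟦n⟧)))
    (h₃ : ∀ n : ℤ, Function.Bijective (η.app (T.obj₃⟦n⟧))) (n : ℤ) :
    Function.Bijective (η.app (T.obj₂⟦n⟧)) := by
  have key : ∀ {X Y : C}, (X ≅ Y) → Function.Bijective (η.app X) → Function.Bijective (η.app Y) :=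
    fun {X Y} e h => by
    rw [← ConcreteCategory.isIso_iff_bijective] at h ⊢
    exact (NatTrans.isIso_app_iff_of_iso η e).1 h
  exact bijective_obj₂ η hs ht ((shiftFunctor (Triangle C) n).obj T)
    (Triangle.shift_distinguished _ hT n)
    (key ((shiftFunctorAdd C n (-1)).app T.obj₃) (h₃ _)) (h₁ n) (h₃ n)
    (key ((shiftFunctorAdd C n 1).app T.obj₁) (h₁ _))

/-- The contravariant version. -/
theorem bijective_shift_ext_op {s t : Cᵒᵖ ⥤ AddCommGrpCat.{w}} (η : s ⟶ t) (hs : IsExactOp s)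
    (ht : IsExactOp t) (T : Triangle C) (hT : T ∈ (distTriang C))
    (h₁ : ∀ n : ℤ, Function.Bijective (η.app (op (T.obj₁⟦n⟧))))
    (h₃ : ∀ n : ℤ, Function.Bijective (η.app (op (T.obj₃⟦n⟧)))) (n : ℤ) :
    Function.Bijective (η.app (op (T.obj₂⟦n⟧))) := by
  have key : ∀ {X Y : C}, (X ≅ Y) → Function.Bijective (η.app (op X)) →
      Function.Bijective (η.app (op Y)) := fun {X Y} e h => by
    rw [← ConcreteCategory.isIso_iff_bijective] at h ⊢
    exact (NatTrans.isIso_app_iff_of_iso η e.symm.op).1 h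
  exact bijective_obj₂_op η hs ht ((shiftFunctor (Triangle C) n).obj T)
    (Triangle.shift_distinguished _ hT n)
    (key ((shiftFunctorAdd C n (-1)).app T.obj₃) (h₃ _)) (h₁ n) (h₃ n)
    (key ((shiftFunctorAdd C n 1).app T.obj₁) (h₁ _))

end Five

end Groth.Agent.H25DTen.Dev
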