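import Groth.Agent.H25DTen.Base
import Groth.Prelude.Def_DTen6
import Groth.Prelude.Def_DTen2

/-!
# Comparison maps of the derived tensor products are isomorphisms
-/

set_option autoImplicit false

universe u

open CategoryTheory CategoryTheory.Limits MonoidalCategory

attribute [local instance] HasDerivedCategory.standard

namespace Groth.Agent.H25DTen

open Groth.Agent.H16Derived

lemma isIso_map_pair {C D E : Type*} [Category C] [Category D] [Category E] (F : C × D ⥤ E)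
    {X X' : C} {Y Y' : D} (f : X ⟶ X') (g : Y ⟶ Y') (hf : IsIso f) (hg : IsIso g) :
    IsIso (F.map (Prod.mkHom f g)) :=
  haveI : IsIso (Prod.mkHom f g) := (isIso_prod_iff _ _).2 ⟨hf, hg⟩
  inferInstance

/-- The tensor product of K-flat complexes is K-flat. -/
theorem isKFlat_tensor {A : Type u} [CommRing A] {K L : DRing.Cx A}
    (hK : KFlat.IsKFlat (TT A) K) (hL : KFlat.IsKFlat (TT A) L) :
    KFlat.IsKFlat (TT A) (K ⊗ L) := fun M hM =>
  KFlat.acyclic_of_iso (α_ M K L) (hL _ (hK M hM))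

section Assoc

variable {A : Type u} [CommRing A]

variable (A) in
/-- The resolution of triples. -/
noncomputable abbrev res₃ : DRing.Cx A × (DRing.Cx A × DRing.Cx A) ⥤ DRing.Cx A × (DRing.Cx A × DRing.Cx A) :=
  (res A).prod (res₂ A)

variable (A) in
/-- Its augmentation. -/
noncomputable abbrev res₃ψ : res₃ A ⟶ 𝟭 _ := NatTrans.prod (resψ A) (res₂ψ A)

lemma inverts_res₃ψ (X : DRing.Cx A × (DRing.Cx A × DRing.Cx A)) :
    DTen.qis₃ A ((res₃ψ A).app X) :=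
  ⟨quasiIso_resψ X.1, inverts_res₂ψ X.2⟩

/-- A pair of quasi-isomorphisms between K-flat complexes gives a quasi-isomorphism of tensor products. -/
lemma quasiIso_tensorT_map {K K' L L' : DRing.Cx A} (f : K ⟶ K') (g : L ⟶ L') [QuasiIso f]
    [QuasiIso g] (hK : KFlat.IsKFlat (TT A) K) (hK' : KFlat.IsKFlat (TT A) K') :
    QuasiIso ((DTen.tensorT A).map (Prod.mkHom f g)) := by
  have := quasiIso_whiskerRight' f hK hK' L
  have := quasiIso_whiskerLeft K' hK' g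
  exact quasiIso_comp (f ▷ L) (K' ◁ g)

lemma tensor₃_inverts : (DTen.qis₃ A).IsInvertedBy (res₃ A ⋙ DTen.tensor₃ A) := by
  rintro ⟨K, L, M⟩ ⟨K', L', M'⟩ ⟨f, g, h⟩ ⟨hf, hg, hh⟩
  have : QuasiIso f := hf
  have : QuasiIso g := hg
  have : QuasiIso h := hh
  have := quasiIso_res_map f
  have := quasiIso_res_map g
  have := quasiIso_res_map h
  have := quasiIso_tensorT_map ((res A).map g) ((res A).map h) (isKFlat_res L) (isKFlat_res L')
  exact isIso_Q_map _ (quasiIso_tensorT_map ((res A).map f)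
    ((DTen.tensorT A).map (Prod.mkHom ((res A).map g) ((res A).map h))) (isKFlat_res K) (isKFlat_res K'))

lemma tensor₃_res₃ψ (K L M : DRing.Cx A) (hK : KFlat.IsKFlat (TT A) K)
    (hL : KFlat.IsKFlat (TT A) L) :
    IsIso ((DTen.tensor₃ A).map ((res₃ψ A).app (K, (L, M)))) := by
  have := quasiIso_resψ K
  have := quasiIso_resψ L
  have := quasiIso_resψ M
  have := quasiIso_tensorT_map ((resψ A).app L) ((resψ A).app M) (isKFlat_res L) hL
  exact isIso_Q_map _ (quasiIso_tensorT_map ((resψ A).app K)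
    ((DTen.tensorT A).map (Prod.mkHom ((resψ A).app L) ((resψ A).app M))) (isKFlat_res K) hK)

/-- The triple derived tensor product exists. -/
theorem hasLTen₃ : DTen.HasLTen₃ A :=
  LeftDer.hasLeftDerivedFunctor _ inverts_res₃ψ tensor₃_inverts
    (fun X => tensor₃_res₃ψ _ _ _ (isKFlat_res X.1) (isKFlat_res X.2.1))

lemma isIso_ε₃ [DTen.HasLTen₃ A] (K L M : DRing.Cx A) (hK : KFlat.IsKFlat (TT A) K)
    (hL : KFlat.IsKFlat (TT A) L) : IsIso ((DTen.ε₃ A).app (K, (L, M))) :=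
  LeftDer.isIso_counit (DTen.qis₃ A) (DTen.QQQ A) inverts_res₃ψ tensor₃_inverts
    (fun X => tensor₃_res₃ψ _ _ _ (isKFlat_res X.1) (isKFlat_res X.2.1))
    (DTen.LTen₃ A) (DTen.ε₃ A) (K, (L, M)) (tensor₃_res₃ψ K L M hK hL)

variable [DTen.HasLTen A] [DTen.HasLTen₃ A]

lemma isIso_assocR_Q (K L M : DRing.Cx A) (hK : KFlat.IsKFlat (TT A) K)
    (hL : KFlat.IsKFlat (TT A) L) :
    IsIso ((DTen.assocR A).app ((DTen.QQQ A).obj (K, (L, M)))) := by
  haveI := isIso_ε₃ K L M hK hL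
  haveI : IsIso ((DTen.βR A).app (K, (L, M))) := by
    exact IsIso.comp_isIso' (isIso_map_pair (DTen.LTen₂ A) _ _ (Iso.refl _).isIso_hom (isIso_ε L M (Or.inl hL)))
      (isIso_ε K (L ⊗ M) (Or.inl hK))
  exact IsIso.of_isIso_fac_right (DTen.assocR_fac A (K, (L, M)))

lemma isIso_assocL_Q (K L M : DRing.Cx A) (hK : KFlat.IsKFlat (TT A) K)
    (hL : KFlat.IsKFlat (TT A) L) (hM : KFlat.IsKFlat (TT A) M) :
    IsIso ((DTen.assocL A).app ((DTen.QQQ A).obj (K, (L, M)))) := by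
  haveI := isIso_ε₃ K L M hK hL
  haveI : IsIso ((DTen.βL A).app (K, (L, M))) := by
    exact IsIso.comp_isIso' (isIso_map_pair (DTen.LTen₂ A) _ _ (isIso_ε K L (Or.inl hK)) (Iso.refl _).isIso_hom)
      (IsIso.comp_isIso' (isIso_ε (K ⊗ L) M (Or.inr hM)) (Functor.map_isIso _ _))
  exact IsIso.of_isIso_fac_right (DTen.assocL_fac A (K, (L, M)))

theorem isIso_assoc (a b c : Dual.D A) :
    IsIso ((DTen.assocL A).app (a, (b, c))) ∧ IsIso ((DTen.assocR A).app (a, (b, c))) := by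
  haveI : ∀ X, IsIso ((DTen.QQQ A).map ((res₃ψ A).app X)) := fun X =>
    Localization.inverts (DTen.QQQ A) (DTen.qis₃ A) _ (inverts_res₃ψ X)
  obtain ⟨K, ⟨eK⟩⟩ := Localization.essSurj DerivedCategory.Q (DTen.qis A) |>.mem_essImage a
  obtain ⟨L, ⟨eL⟩⟩ := Localization.essSurj DerivedCategory.Q (DTen.qis A) |>.mem_essImage b
  obtain ⟨M, ⟨eM⟩⟩ := Localization.essSurj DerivedCategory.Q (DTen.qis A) |>.mem_essImage c
  let e : (DTen.QQQ A).obj ((res₃ A).obj (K, (L, M))) ≅ (a, (b, c)) :=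
    asIso ((DTen.QQQ A).map ((res₃ψ A).app (K, (L, M)))) ≪≫ Iso.prod eK (Iso.prod eL eM)
  exact ⟨(NatTrans.isIso_app_iff_of_iso _ e).1
      (isIso_assocL_Q _ _ _ (isKFlat_res K) (isKFlat_res L) (isKFlat_res M)),
    (NatTrans.isIso_app_iff_of_iso _ e).1 (isIso_assocR_Q _ _ _ (isKFlat_res K) (isKFlat_res L))⟩

end Assoc

section Mix

variable {R A : Type u} [CommRing R] [CommRing A] (φ : R →+* A)

variable (R A) in
/-- The resolution of mixed pairs. -/
noncomputable abbrev resMix : DRing.Cx R × DRing.Cx A ⥤ DRing.Cx R × DRing.Cx A := (res R).prod (res A)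

variable (R A) in
/-- Its augmentation. -/
noncomputable abbrev resMixψ : resMix R A ⟶ 𝟭 _ := NatTrans.prod (resψ R) (resψ A)

lemma inverts_resMixψ (X : DRing.Cx R × DRing.Cx A) : DTen.qisMix R A ((resMixψ R A).app X) :=
  ⟨quasiIso_resψ X.1, quasiIso_resψ X.2⟩

lemma quasiIso_mixT_map {K K' : DRing.Cx R} {L L' : DRing.Cx A} (f : K ⟶ K') (g : L ⟶ L')
    [QuasiIso f] [QuasiIso g] (hK : KFlat.IsKFlat (TT R) K) (hK' : KFlat.IsKFlat (TT R) K') :
    QuasiIso ((DTen.mixT φ).map (Prod.mkHom f g)) :=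
  haveI := quasiIso_extCx_map φ f hK hK'
  quasiIso_tensorT_map ((DTen.extCx φ).map f) g (isKFlat_extCx φ hK) (isKFlat_extCx φ hK')

lemma isKFlat_mixT {K : DRing.Cx R} {L : DRing.Cx A} (hK : KFlat.IsKFlat (TT R) K)
    (hL : KFlat.IsKFlat (TT A) L) : KFlat.IsKFlat (TT A) ((DTen.mixT φ).obj (K, L)) :=
  isKFlat_tensor (isKFlat_extCx φ hK) hL

lemma mix₂_inverts : (DTen.qisMix R A).IsInvertedBy (resMix R A ⋙ DTen.mix₂ φ) := by
  rintro ⟨K, L⟩ ⟨K', L'⟩ ⟨f, g⟩ ⟨hf, hg⟩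
  have : QuasiIso f := hf
  have : QuasiIso g := hg
  have := quasiIso_res_map f
  have := quasiIso_res_map g
  exact isIso_Q_map _ (quasiIso_mixT_map φ ((res R).map f) ((res A).map g) (isKFlat_res K) (isKFlat_res K'))

lemma mix₂_resMixψ (K : DRing.Cx R) (L : DRing.Cx A) (hK : KFlat.IsKFlat (TT R) K) :
    IsIso ((DTen.mix₂ φ).map ((resMixψ R A).app (K, L))) :=
  haveI := quasiIso_resψ K
  haveI := quasiIso_resψ L
  isIso_Q_map _ (quasiIso_mixT_map φ ((resψ R).app K) ((resψ A).app L) (isKFlat_res K) hK)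

/-- The mixed derived tensor product exists. -/
theorem hasLTenMix : DTen.HasLTenMix φ :=
  LeftDer.hasLeftDerivedFunctor _ inverts_resMixψ (mix₂_inverts φ)
    (fun X => mix₂_resMixψ φ _ _ (isKFlat_res X.1))

lemma isIso_εMix [DTen.HasLTenMix φ] (K : DRing.Cx R) (L : DRing.Cx A)
    (hK : KFlat.IsKFlat (TT R) K) : IsIso ((DTen.εMix φ).app (K, L)) :=
  LeftDer.isIso_counit (DTen.qisMix R A) (DTen.QMix R A) inverts_resMixψ (mix₂_inverts φ)
    (fun X => mix₂_resMixψ φ _ _ (isKFlat_res X.1))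
    (DTen.LTenMix φ) (DTen.εMix φ) (K, L) (mix₂_resMixψ φ K L hK)

theorem isIso_split [DTen.HasLTen A] [DTen.HasLBase φ] [DTen.HasLTenMix φ] (E : Dual.D R)
    (N : Dual.D A) : IsIso ((DTen.split φ).app (E, N)) := by
  obtain ⟨K, ⟨eK⟩⟩ := Localization.essSurj DerivedCategory.Q (DTen.qis R) |>.mem_essImage E
  obtain ⟨L, ⟨eL⟩⟩ := Localization.essSurj DerivedCategory.Q (DTen.qis A) |>.mem_essImage N
  haveI : IsIso ((DTen.QMix R A).map ((resMixψ R A).app (K, L))) :=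
    Localization.inverts (DTen.QMix R A) (DTen.qisMix R A) _ (inverts_resMixψ _)
  let e : (DTen.QMix R A).obj ((resMix R A).obj (K, L)) ≅ (E, N) :=
    asIso ((DTen.QMix R A).map ((resMixψ R A).app (K, L))) ≪≫ Iso.prod eK eL
  refine (NatTrans.isIso_app_iff_of_iso _ e).1 ?_
  let K' := (res R).obj K
  let L' := (res A).obj L
  haveI := isIso_εMix φ K' L' (isKFlat_res K)
  haveI : IsIso ((DTen.splitβ φ).app (K', L')) := by
    exact IsIso.comp_isIso'
      (isIso_map_pair (DTen.LTen₂ A) _ _ (isIso_baseCmp φ K' (isKFlat_res K)) (Iso.refl _).isIso_hom) (isIso_ε _ L' (Or.inr (isKFlat_res L)))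
  exact IsIso.of_isIso_fac_right (DTen.split_fac φ (K', L'))

end Mix

section Mix₃

variable {A B C : Type u} [CommRing A] [CommRing B] [CommRing C] (φ : A →+* B) (ψ : B →+* C)

variable (A B C) in
/-- The resolution of mixed triples. -/
noncomputable abbrev resMix₃ : DRing.Cx A × (DRing.Cx B × DRing.Cx C) ⥤ DRing.Cx A × (DRing.Cx B × DRing.Cx C) :=
  (res A).prod (resMix B C)

variable (A B C) in
/-- Its augmentation. -/
noncomputable abbrev resMix₃ψ : resMix₃ A B C ⟶ 𝟭 _ := NatTrans.prod (resψ A) (resMixψ B C)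

lemma inverts_resMix₃ψ (X : DRing.Cx A × (DRing.Cx B × DRing.Cx C)) :
    DTen.qisMix₃ A B C ((resMix₃ψ A B C).app X) :=
  ⟨quasiIso_resψ X.1, inverts_resMixψ X.2⟩

lemma mix₃_inverts : (DTen.qisMix₃ A B C).IsInvertedBy (resMix₃ A B C ⋙ DTen.mix₃ φ ψ) := by
  rintro ⟨M, N, K⟩ ⟨M', N', K'⟩ ⟨f, g, k⟩ ⟨hf, hg, hk⟩
  have : QuasiIso f := hf
  have : QuasiIso g := hg
  have : QuasiIso k := hk
  have := quasiIso_res_map f
  have := quasiIso_res_map g
  have := quasiIso_res_map k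
  have := quasiIso_mixT_map φ ((res A).map f) ((res B).map g) (isKFlat_res M) (isKFlat_res M')
  exact isIso_Q_map _ (quasiIso_mixT_map ψ ((DTen.mixT φ).map (Prod.mkHom ((res A).map f) ((res B).map g)))
    ((res C).map k) (isKFlat_mixT φ (isKFlat_res M) (isKFlat_res N))
    (isKFlat_mixT φ (isKFlat_res M') (isKFlat_res N')))

lemma mix₃_resMix₃ψ (M : DRing.Cx A) (N : DRing.Cx B) (K : DRing.Cx C)
    (hM : KFlat.IsKFlat (TT A) M) (hN : KFlat.IsKFlat (TT B) N) :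
    IsIso ((DTen.mix₃ φ ψ).map ((resMix₃ψ A B C).app (M, (N, K)))) :=
  haveI := quasiIso_resψ M
  haveI := quasiIso_resψ N
  haveI := quasiIso_resψ K
  haveI := quasiIso_mixT_map φ ((resψ A).app M) ((resψ B).app N) (isKFlat_res M) hM
  isIso_Q_map _ (quasiIso_mixT_map ψ ((DTen.mixT φ).map (Prod.mkHom ((resψ A).app M) ((resψ B).app N)))
    ((resψ C).app K) (isKFlat_mixT φ (isKFlat_res M) (isKFlat_res N)) (isKFlat_mixT φ hM hN))

lemma isIso_εMix₃ [DTen.HasLTenMix₃ φ ψ] (M : DRing.Cx A) (N : DRing.Cx B) (K : DRing.Cx C)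
    (hM : KFlat.IsKFlat (TT A) M) (hN : KFlat.IsKFlat (TT B) N) :
    IsIso ((DTen.εMix₃ φ ψ).app (M, (N, K))) :=
  LeftDer.isIso_counit (DTen.qisMix₃ A B C) (DTen.QMix₃ A B C) inverts_resMix₃ψ (mix₃_inverts φ ψ)
    (fun X => mix₃_resMix₃ψ φ ψ _ _ _ (isKFlat_res X.1) (isKFlat_res X.2.1))
    (DTen.LTenMix₃ φ ψ) (DTen.εMix₃ φ ψ) (M, (N, K)) (mix₃_resMix₃ψ φ ψ M N K hM hN)

theorem isIso_leg₃ [DTen.HasLTenMix φ] [DTen.HasLTenMix ψ] [DTen.HasLTenMix (ψ.comp φ)]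
    [DTen.HasLTenMix₃ φ ψ] (E : Dual.D A) (F : Dual.D B) (G : Dual.D C) :
    IsIso ((DTen.leg₃L φ ψ).app (E, (F, G))) ∧ IsIso ((DTen.leg₃R φ ψ).app (E, (F, G))) := by
  obtain ⟨M₀, ⟨eM⟩⟩ := Localization.essSurj DerivedCategory.Q (DTen.qis A) |>.mem_essImage E
  obtain ⟨N₀, ⟨eN⟩⟩ := Localization.essSurj DerivedCategory.Q (DTen.qis B) |>.mem_essImage F
  obtain ⟨K₀, ⟨eK⟩⟩ := Localization.essSurj DerivedCategory.Q (DTen.qis C) |>.mem_essImage G
  haveI : IsIso ((DTen.QMix₃ A B C).map ((resMix₃ψ A B C).app (M₀, (N₀, K₀)))) :=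
    Localization.inverts (DTen.QMix₃ A B C) (DTen.qisMix₃ A B C) _ (inverts_resMix₃ψ _)
  let e : (DTen.QMix₃ A B C).obj ((resMix₃ A B C).obj (M₀, (N₀, K₀))) ≅ (E, (F, G)) :=
    asIso ((DTen.QMix₃ A B C).map ((resMix₃ψ A B C).app (M₀, (N₀, K₀)))) ≪≫
      Iso.prod eM (Iso.prod eN eK)
  let M := (res A).obj M₀
  let N := (res B).obj N₀
  let K := (res C).obj K₀
  have hM : KFlat.IsKFlat (TT A) M := isKFlat_res M₀
  have hN : KFlat.IsKFlat (TT B) N := isKFlat_res N₀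
  haveI := isIso_εMix₃ φ ψ M N K hM hN
  refine ⟨(NatTrans.isIso_app_iff_of_iso _ e).1 ?_, (NatTrans.isIso_app_iff_of_iso _ e).1 ?_⟩
  · haveI : IsIso ((DTen.β₃L φ ψ).app (M, (N, K))) := by
      exact IsIso.comp_isIso' (isIso_map_pair (DTen.LTenMix ψ) _ _ (isIso_εMix φ M N hM) (Iso.refl _).isIso_hom) (isIso_εMix ψ _ K (isKFlat_mixT φ hM hN))
    exact IsIso.of_isIso_fac_right (DTen.leg₃L_fac φ ψ (M, (N, K)))
  · haveI : IsIso ((DTen.β₃R φ ψ).app (M, (N, K))) := by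
      exact IsIso.comp_isIso'
        (isIso_map_pair (DTen.LTenMix (ψ.comp φ)) _ _ (Iso.refl _).isIso_hom (isIso_εMix ψ N K hN))
        (IsIso.comp_isIso' (isIso_εMix (ψ.comp φ) M _ hM) (Functor.map_isIso _ _))
    exact IsIso.of_isIso_fac_right (DTen.leg₃R_fac φ ψ (M, (N, K)))

end Mix₃

end Groth.Agent.H25DTen
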