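import Groth.Agent.H25DTen.Perfect
import Groth.Agent.H25DTen.Dev

/-!
# The evaluation map `K ⊗ RHom(M, L) ⟶ RHom(M, K ⊗ L)` for perfect `K` or `M`
-/

set_option autoImplicit false

universe u

open CategoryTheory CategoryTheory.Limits MonoidalCategory Pretriangulated Opposite

attribute [local instance] HasDerivedCategory.standard

namespace Groth.Agent.H25DTen

variable {A : Type u} [CommRing A]
variable [DTen.HasLTen A] [DTen.HasLTen₃ A] [DTen.IsSymMonoidal A] [DTen.HasRHom A]

/-- `X ↦ K ⊗ X`. -/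
noncomputable abbrev TL (K : Dual.D A) : Dual.D A ⥤ Dual.D A := (DTen.LTen A).obj K

/-- `X ↦ X ⊗ L`. -/
noncomputable abbrev TR (L : Dual.D A) : Dual.D A ⥤ Dual.D A := (DTen.LTen A).flip.obj L

/-- The adjunction for `K ⊗ -`. -/
noncomputable def leftAdj (K : Dual.D A) : TL K ⊣ DTen.RHomR A K :=
  (DTen.rhomAdj A K).ofNatIsoLeft (flipIso' A K).symm

instance additive_RHomR (L : Dual.D A) : (DTen.RHomR A L).Additive :=
  haveI : (DTen.RHomR A L).IsRightAdjoint := (DTen.rhomAdj A L).isRightAdjoint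
  Functor.additive_of_preserves_binary_products _

instance additive_TR (L : Dual.D A) : (TR L).Additive := (DTen.rhomAdj A L).left_adjoint_additive

instance additive_TL (K : Dual.D A) : (TL K).Additive := (leftAdj K).left_adjoint_additive

@[reassoc]
lemma interchange {X X' Y Y' : Dual.D A} (f : X ⟶ X') (g : Y ⟶ Y') :
    (TR Y).map f ≫ (TL X').map g = (TL X).map g ≫ (TR Y').map f :=
  ((DTen.LTen A).map f).naturality g |>.symm

lemma map_pair {X X' Y Y' : Dual.D A} (f : X ⟶ X') (g : Y ⟶ Y') :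
    (DTen.LTen₂ A).map (Prod.mkHom f g) = (TR Y).map f ≫ (TL X').map g := by
  change _ = (DTen.LTen₂ A).map (Prod.mkHom f (𝟙 Y)) ≫ (DTen.LTen₂ A).map (Prod.mkHom (𝟙 X') g)
  rw [← Functor.map_comp]
  congr 1
  ext <;> simp

@[reassoc]
lemma associator_naturality_first {a a' : Dual.D A} (f : a ⟶ a') (b c : Dual.D A) :
    (TR c).map ((TR b).map f) ≫ (DTen.associator a' b c).hom =
      (DTen.associator a b c).hom ≫ (TR ((DTen.LTen₂ A).obj (b, c))).map f :=
  associator_naturality_left f b c

@[reassoc]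
lemma associator_naturality_second (a : Dual.D A) {b b' : Dual.D A} (g : b ⟶ b') (c : Dual.D A) :
    (TR c).map ((TL a).map g) ≫ (DTen.associator a b' c).hom =
      (DTen.associator a b c).hom ≫ (TL a).map ((TR c).map g) :=
  associator_naturality (𝟙 a) g (𝟙 c)

lemma evalTenAux_eq (K L M : Dual.D A) :
    DTen.evalTenAux K L M =
      (DTen.associator K ((DTen.RHomR A M).obj L) M).hom ≫ (TL K).map (DTen.ev M L) := rfl

lemma evalTenAux_naturality {K K' : Dual.D A} (g : K ⟶ K') (L M : Dual.D A) :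
    (TR M).map ((TR ((DTen.RHomR A M).obj L)).map g) ≫ DTen.evalTenAux K' L M =
      DTen.evalTenAux K L M ≫ (TR L).map g := by
  rw [evalTenAux_eq, evalTenAux_eq, associator_naturality_first_assoc, interchange, Category.assoc]

lemma symm_comp_RHomMap {L L' : Dual.D A} (g : L' ⟶ L) {Y M : Dual.D A}
    (x : Y ⟶ (DTen.RHomR A L).obj M) :
    (DTen.rhomHomEquiv Y L' M).symm (x ≫ DTen.RHomMap g M) =
      (TL Y).map g ≫ (DTen.rhomHomEquiv Y L M).symm x := by
  erw [Adjunction.homEquiv_counit, Adjunction.homEquiv_counit, CategoryTheory.Functor.map_comp,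
    Category.assoc]
  erw [DTen.RHom_map_ev g M]
  exact (interchange_assoc x g _)

/-- The map `Hom(X, K ⊗ RHom(M, L)) ⟶ Hom(X ⊗ M, K ⊗ L)`. -/
noncomputable def tr (K L M X : Dual.D A) :
    (X ⟶ (DTen.LTen₂ A).obj (K, (DTen.RHomR A M).obj L)) →+
      ((DTen.LTen₂ A).obj (X, M) ⟶ (DTen.LTen₂ A).obj (K, L)) :=
  AddMonoidHom.mk' (fun f => (TR M).map f ≫ DTen.evalTenAux K L M) fun f g => by
    rw [Functor.map_add, Preadditive.add_comp]

lemma rhomHomEquiv_tr (K L M X : Dual.D A)
    (f : X ⟶ (DTen.LTen₂ A).obj (K, (DTen.RHomR A M).obj L)) :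
    DTen.rhomHomEquiv _ _ _ (tr K L M X f) = f ≫ DTen.evalTen K L M :=
  Adjunction.homEquiv_naturality_left _ _ _

theorem isIso_evalTen_of_bijective (K L M : Dual.D A)
    (h : ∀ X, Function.Bijective (tr K L M X)) : IsIso (DTen.evalTen K L M) := by
  refine (isIso_iff_yoneda_map_bijective _).2 fun X => ?_
  convert (DTen.rhomHomEquiv X M _).bijective.comp (h X) using 1
  funext f
  exact (rhomHomEquiv_tr K L M X f).symm

/-- A natural transformation of functors of `K`. -/
noncomputable def trNat (L M X : Dual.D A) :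
    TR ((DTen.RHomR A M).obj L) ⋙ preadditiveCoyoneda.obj (op X) ⟶
      TR L ⋙ preadditiveCoyoneda.obj (op ((DTen.LTen₂ A).obj (X, M))) where
  app K := AddCommGrpCat.ofHom (tr K L M X)
  naturality K K' g := by
    refine AddCommGrpCat.hom_ext (AddMonoidHom.ext fun f => ?_)
    change (TR M).map (f ≫ (TR _).map g) ≫ DTen.evalTenAux K' L M =
      ((TR M).map f ≫ DTen.evalTenAux K L M) ≫ (TR L).map g
    rw [Functor.map_comp, Category.assoc, Category.assoc, evalTenAux_naturality]

theorem isExact_coyoneda (L X : Dual.D A) :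
    Dev.IsExact (TR L ⋙ preadditiveCoyoneda.obj (op X)) := by
  intro T hT x
  constructor
  · intro hx
    exact Dev.exists_lift_map (DTen.rhomAdj A L) T hT x hx
  · rintro ⟨y, rfl⟩
    change (y ≫ (TR L).map T.mor₁) ≫ (TR L).map T.mor₂ = 0
    rw [Category.assoc, ← Functor.map_comp, comp_distTriang_mor_zero₁₂ _ hT, Functor.map_zero,
      comp_zero]

lemma tr_S_bijective (k : ℤ) (L M X : Dual.D A) : Function.Bijective (tr (S A k) L M X) := by
  haveI := isEquivalence_S (A := A) k
  let F := TL (S A k)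
  obtain ⟨X', ⟨e⟩⟩ := Functor.EssSurj.mem_essImage (F := F) X
  let q := DTen.associator (S A k) X' M
  let E := (Iso.homCongr e.symm (Iso.refl (F.obj ((DTen.RHomR A M).obj L)))).trans
    ((Functor.FullyFaithful.ofFullyFaithful F).homEquiv.symm.trans
      ((DTen.rhomHomEquiv X' M L).symm.trans
        ((Functor.FullyFaithful.ofFullyFaithful F).homEquiv.trans
          (Iso.homCongr (q.symm ≪≫ (TR M).mapIso e) (Iso.refl (F.obj L))))))
  convert E.bijective using 1
  funext f
  obtain ⟨f', hf'⟩ := F.map_surjective (e.hom ≫ f)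
  have hf : f = e.inv ≫ F.map f' := by rw [hf', Iso.inv_hom_id_assoc]
  have hE : E f = ((TR M).map e.inv ≫ q.hom) ≫ F.map ((TR M).map f' ≫ DTen.ev M L) ≫ 𝟙 _ := by
    have : (Functor.FullyFaithful.ofFullyFaithful F).preimage (e.hom ≫ f) = f' :=
      F.map_injective (by rw [Functor.FullyFaithful.map_preimage, hf'])
    simp only [E, Equiv.trans_apply, Iso.homCongr_apply, Iso.symm_inv, Iso.refl_hom, Category.comp_id,
      Functor.FullyFaithful.homEquiv_symm_apply, Functor.FullyFaithful.homEquiv_apply, Iso.trans_inv,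
      Iso.symm_hom, Functor.mapIso_inv, this]
    rw [show (DTen.rhomHomEquiv X' M L).symm f' = (TR M).map f' ≫ DTen.ev M L from
      Adjunction.homEquiv_counit _ _ _ _]
  rw [hE, Category.comp_id]
  change (TR M).map f ≫ DTen.evalTenAux (S A k) L M = _
  rw [hf, Functor.map_comp, evalTenAux_eq, Category.assoc, associator_naturality_second_assoc,
    Functor.map_comp, Category.assoc]

/-- Shifts of shifted units. -/
noncomputable def shiftSIso (k n : ℤ) : (S A k)⟦n⟧ ≅ S A (k + n) :=
  ((DerivedCategory.Q (C := ModuleCat.{u} A)).commShiftIso n).symm.app _ ≪≫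
    DerivedCategory.Q.mapIso (((shiftFunctorAdd (DRing.Cx A) k n).app (𝟙_ (DRing.Cx A))).symm)

lemma bijective_of_retract {C : Type*} [Category C] {s t : C ⥤ AddCommGrpCat} (η : s ⟶ t)
    {K L : C} (i : K ⟶ L) (r : L ⟶ K) (h : i ≫ r = 𝟙 K) (hL : Function.Bijective (η.app L)) :
    Function.Bijective (η.app K) := by
  have hs : ∀ x, s.map r (s.map i x) = x := fun x => by
    rw [← ConcreteCategory.comp_apply, ← Functor.map_comp, h, CategoryTheory.Functor.map_id, ConcreteCategory.id_apply]
  have ht : ∀ x, t.map r (t.map i x) = x := fun x => by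
    rw [← ConcreteCategory.comp_apply, ← Functor.map_comp, h, CategoryTheory.Functor.map_id, ConcreteCategory.id_apply]
  constructor
  · intro a b hab
    rw [← hs a, ← hs b, hL.1 (show η.app L (s.map i a) = η.app L (s.map i b) by
      rw [NatTrans.naturality_apply, NatTrans.naturality_apply, hab])]
  · intro y
    obtain ⟨x, hx⟩ := hL.2 (t.map i y)
    exact ⟨s.map r x, by rw [NatTrans.naturality_apply, hx, ht]⟩

theorem isIso_evalTen_of_isPerfect_left (K L M : Dual.D A) (hK : DRing.IsPerfect A K) :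
    IsIso (DTen.evalTen K L M) := by
  refine isIso_evalTen_of_bijective K L M fun X => ?_
  let η := trNat L M X
  have key : ∀ n : ℤ, Function.Bijective (η.app (K⟦n⟧)) := by
    refine perfect_induction (fun K => ∀ n : ℤ, Function.Bijective (η.app (K⟦n⟧))) ?_ ?_ ?_ hK
    · intro K K' i r h h' n
      exact bijective_of_retract η (i⟦n⟧') (r⟦n⟧')
        (by rw [← Functor.map_comp, h, CategoryTheory.Functor.map_id]) (h' n)
    · exact fun T hT h₁ h₃ n =>
        Dev.bijective_shift_ext η (isExact_coyoneda _ _) (isExact_coyoneda _ _) T hT h₁ h₃ n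
    · intro k n
      exact bijective_of_retract η (shiftSIso k n).hom (shiftSIso k n).inv (Iso.hom_inv_id _)
        (tr_S_bijective (k + n) L M X)
  exact bijective_of_retract η ((shiftFunctorZero (Dual.D A) ℤ).inv.app K)
    ((shiftFunctorZero (Dual.D A) ℤ).hom.app K) (Iso.inv_hom_id_app _ _) (key 0)

/-! ### `M` perfect -/

/-- The natural transformation of functors of `M`. -/
noncomputable def trNatOp (K L X : Dual.D A) :
    (DTen.RHom A).flip.obj L ⋙ TL K ⋙ preadditiveCoyoneda.obj (op X) ⟶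
      (TL X).op ⋙ preadditiveYoneda.obj ((DTen.LTen₂ A).obj (K, L)) where
  app M := AddCommGrpCat.ofHom (tr K L M.unop X)
  naturality M M' g := by
    refine AddCommGrpCat.hom_ext (AddMonoidHom.ext fun f => ?_)
    change (TR M'.unop).map (f ≫ (TL K).map (DTen.RHomMap g.unop L)) ≫ DTen.evalTenAux K L M'.unop =
      (TL X).map g.unop ≫ (TR M.unop).map f ≫ DTen.evalTenAux K L M.unop
    rw [Functor.map_comp, Category.assoc, evalTenAux_eq, evalTenAux_eq, associator_naturality_second_assoc,
      ← Functor.map_comp]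
    refine (congrArg (fun z => (TR M'.unop).map f ≫ _ ≫ (TL K).map z)
      (DTen.RHom_map_ev g.unop L)).trans ?_
    erw [CategoryTheory.Functor.map_comp, ← associator_naturality_third_assoc]
    exact interchange_assoc f g.unop _

theorem isExactOp_yoneda (X Z : Dual.D A) :
    Dev.IsExactOp ((TL X).op ⋙ preadditiveYoneda.obj Z) := by
  intro T hT x
  constructor
  · intro hx
    exact Dev.exists_factor_map (leftAdj X) T hT x hx
  · rintro ⟨y, rfl⟩
    change (TL X).map T.mor₁ ≫ (TL X).map T.mor₂ ≫ y = 0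
    rw [← Functor.map_comp_assoc, comp_distTriang_mor_zero₁₂ _ hT, Functor.map_zero, zero_comp]

/-- `RHom(-, L)` turns a distinguished triangle into a weak kernel. -/
lemma exists_lift_RHomMap (T : Triangle (Dual.D A)) (hT : T ∈ (distTriang _)) (L Y : Dual.D A)
    (x : Y ⟶ (DTen.RHomR A T.obj₂).obj L) (hx : x ≫ DTen.RHomMap T.mor₁ L = 0) :
    ∃ y : Y ⟶ (DTen.RHomR A T.obj₃).obj L, y ≫ DTen.RHomMap T.mor₂ L = x := by
  have h0 : (TL Y).map T.mor₁ ≫ (DTen.rhomHomEquiv Y T.obj₂ L).symm x = 0 := by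
    rw [← symm_comp_RHomMap, hx]
    erw [Adjunction.homEquiv_counit, Functor.map_zero, zero_comp]
  obtain ⟨r, hr⟩ := Dev.exists_factor_map (leftAdj Y) T hT _ h0
  refine ⟨DTen.rhomHomEquiv Y T.obj₃ L r, (DTen.rhomHomEquiv Y T.obj₂ L).symm.injective ?_⟩
  rw [symm_comp_RHomMap, Equiv.symm_apply_apply, hr]

lemma RHomMap_comp_zero (T : Triangle (Dual.D A)) (hT : T ∈ (distTriang _)) (L : Dual.D A) :
    DTen.RHomMap T.mor₂ L ≫ DTen.RHomMap T.mor₁ L = 0 := by
  apply (DTen.rhomHomEquiv _ T.obj₁ L).symm.injective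
  rw [symm_comp_RHomMap]
  conv_lhs => rw [← Category.id_comp (DTen.RHomMap T.mor₂ L), symm_comp_RHomMap,
    ← Functor.map_comp_assoc, comp_distTriang_mor_zero₁₂ _ hT, Functor.map_zero, zero_comp]
  erw [Adjunction.homEquiv_counit, Functor.map_zero, zero_comp]

theorem isExactOp_coyoneda_RHom (G : Dual.D A ⥤ Dual.D A) {G' : Dual.D A ⥤ Dual.D A} (adj : G ⊣ G')
    (L X : Dual.D A) :
    Dev.IsExactOp ((DTen.RHom A).flip.obj L ⋙ G ⋙ preadditiveCoyoneda.obj (op X)) := by
  haveI : G.IsLeftAdjoint := adj.isLeftAdjoint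
  intro T hT x
  constructor
  · intro hx
    obtain ⟨C, j, δ, hd⟩ := distinguished_cocone_triangle₁ (DTen.RHomMap T.mor₁ L)
    obtain ⟨t, ht⟩ := exists_lift_RHomMap T hT L C j (comp_distTriang_mor_zero₁₂ _ hd)
    obtain ⟨y, hy⟩ := Dev.exists_lift_map adj _ hd x hx
    refine ⟨y ≫ G.map t, ?_⟩
    change (y ≫ G.map t) ≫ G.map (DTen.RHomMap T.mor₂ L) = x
    rw [Category.assoc, ← Functor.map_comp]
    exact (congrArg (fun z => y ≫ G.map z) ht).trans hy
  · rintro ⟨y, rfl⟩
    change (y ≫ G.map (DTen.RHomMap T.mor₂ L)) ≫ G.map (DTen.RHomMap T.mor₁ L) = 0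
    rw [Category.assoc, ← Functor.map_comp]
    exact ((congrArg (fun z => y ≫ G.map z) (RHomMap_comp_zero T hT L)).trans
      ((congrArg (y ≫ ·) (Functor.map_zero _ _ _)).trans comp_zero))

lemma isIso_ev_S (k : ℤ) (L : Dual.D A) : IsIso (DTen.ev (S A k) L) := by
  haveI := isEquivalence_flip_S (A := A) k
  haveI : (DTen.RHomR A (S A k)).IsEquivalence :=
    (DTen.rhomAdj A (S A k)).isEquivalence_right_of_isEquivalence_left
  haveI : IsIso (DTen.rhomAdj A (S A k)).counit := inferInstance
  exact inferInstanceAs (IsIso ((DTen.rhomAdj A (S A k)).counit.app L))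

lemma tr_right_S_bijective (K L : Dual.D A) (k : ℤ) (X : Dual.D A) :
    Function.Bijective (tr K L (S A k) X) := by
  haveI := isEquivalence_flip_S (A := A) k
  haveI := isIso_ev_S k L
  haveI : IsIso (DTen.evalTenAux K L (S A k)) := by rw [evalTenAux_eq]; infer_instance
  convert (((Functor.FullyFaithful.ofFullyFaithful (TR (S A k))).homEquiv (X := X)
    (Y := (DTen.LTen₂ A).obj (K, (DTen.RHomR A (S A k)).obj L))).trans
    (Iso.homCongr (Iso.refl _) (asIso (DTen.evalTenAux K L (S A k))))).bijective using 1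
  funext f
  simp [tr]

theorem isIso_evalTen_of_isPerfect_right (K L M : Dual.D A) (hM : DRing.IsPerfect A M) :
    IsIso (DTen.evalTen K L M) := by
  refine isIso_evalTen_of_bijective K L M fun X => ?_
  let η := trNatOp K L X
  have key : ∀ n : ℤ, Function.Bijective (η.app (op (M⟦n⟧))) := by
    refine perfect_induction (fun M => ∀ n : ℤ, Function.Bijective (η.app (op (M⟦n⟧)))) ?_ ?_ ?_ hM
    · intro M M' i r h h' n
      exact bijective_of_retract η (r⟦n⟧').op (i⟦n⟧').op
        (by rw [← op_comp, ← Functor.map_comp, h, CategoryTheory.Functor.map_id, op_id]) (h' n)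
    · exact fun T hT h₁ h₃ n => Dev.bijective_shift_ext_op η
        (isExactOp_coyoneda_RHom _ (leftAdj K) _ _) (isExactOp_yoneda _ _) T hT h₁ h₃ n
    · intro k n
      exact bijective_of_retract η (shiftSIso k n).inv.op (shiftSIso k n).hom.op
        (by rw [← op_comp, Iso.hom_inv_id, op_id]) (tr_right_S_bijective K L (k + n) X)
  exact bijective_of_retract η ((shiftFunctorZero (Dual.D A) ℤ).hom.app M).op
    ((shiftFunctorZero (Dual.D A) ℤ).inv.app M).op
    (by rw [← op_comp, Iso.inv_hom_id_app]; exact op_id ..) (key 0)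

end Groth.Agent.H25DTen
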