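import Groth.Agent.H25DTen.Mon
import Groth.Agent.H25DTen.EvalTen

/-!
# Base change for derived hom out of a perfect complex
-/

set_option autoImplicit false

universe u

open CategoryTheory CategoryTheory.Limits MonoidalCategory Pretriangulated Opposite

attribute [local instance] HasDerivedCategory.standard

namespace Groth.Agent.H25DTen

section

variable {A : Type u} [CommRing A] [DTen.HasLTen A] [DTen.HasLTen₃ A]

/-- The symmetric monoidal binder holds. -/
theorem isSymMonoidal : DTen.IsSymMonoidal A where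
  isIso_symm := by
    haveI : ∀ X, IsIso ((DTen.symm A).app X) := fun X => isIso_symm_app X.1 X.2
    exact NatIso.isIso_of_isIso_app _
  isIso_unitL := by
    haveI : ∀ X, IsIso ((DTen.unitL A).app X) := fun X => by
      obtain ⟨K, ⟨e⟩⟩ := Localization.essSurj DerivedCategory.Q (DTen.qis A) |>.mem_essImage X
      refine (NatTrans.isIso_app_iff_of_iso _ e).1 ?_
      rw [DTen.unitL_app]
      exact IsIso.comp_isIso' (isIso_ε _ _ (Or.inl isKFlat_tensorUnit)) (Functor.map_isIso _ _)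
    exact NatIso.isIso_of_isIso_app _
  isIso_unitR := by
    haveI : ∀ X, IsIso ((DTen.unitR A).app X) := fun X => by
      obtain ⟨K, ⟨e⟩⟩ := Localization.essSurj DerivedCategory.Q (DTen.qis A) |>.mem_essImage X
      refine (NatTrans.isIso_app_iff_of_iso _ e).1 ?_
      rw [DTen.unitR_app]
      exact IsIso.comp_isIso' (isIso_ε _ _ (Or.inr isKFlat_tensorUnit)) (Functor.map_isIso _ _)
    exact NatIso.isIso_of_isIso_app _
  isIso_assocL := by
    haveI : ∀ X, IsIso ((DTen.assocL A).app X) := fun X => (isIso_assoc X.1 X.2.1 X.2.2).1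
    exact NatIso.isIso_of_isIso_app _
  isIso_assocR := by
    haveI : ∀ X, IsIso ((DTen.assocR A).app X) := fun X => (isIso_assoc X.1 X.2.1 X.2.2).2
    exact NatIso.isIso_of_isIso_app _

end

section

variable {R R' : Type u} [CommRing R] [CommRing R'] (φ : R →+* R')

/-- `A ⊗_R R[0] ≅ A[0]`. -/
noncomputable def extUnitIso : (DTen.extCx φ).obj (𝟙_ (DRing.Cx R)) ≅ 𝟙_ (DRing.Cx R') :=
  ((HomologicalComplex.singleMapHomologicalComplex (DTen.extM φ) (ComplexShape.up ℤ) 0).app
      (𝟙_ (ModuleCat.{u} R))) ≪≫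
    (HomologicalComplex.single (ModuleCat.{u} R') (ComplexShape.up ℤ) 0).mapIso
      (Functor.Monoidal.εIso (DTen.extM φ)).symm

variable [DTen.HasLTen R] [DTen.HasLTen R'] [DTen.HasLBase φ] [DTen.HasResTen φ] [DTen.ResLegIso φ]

/-- Base change preserves the unit. -/
noncomputable def baseUnitIso : (DTen.LBase φ).obj (DTen.unit R) ≅ DTen.unit R' :=
  haveI := isIso_baseCmp φ _ (isKFlat_tensorUnit (A := R))
  asIso ((DTen.baseCmp φ).app (𝟙_ (DRing.Cx R))) ≪≫ DerivedCategory.Q.mapIso (extUnitIso φ)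

variable [DTen.HasLTen₃ R'] [DTen.IsSymMonoidal R']

theorem isEquivalence_base_S (k : ℤ) :
    ((DTen.LTen R').flip.obj ((DTen.LBase φ).obj (S R k))).IsEquivalence := by
  haveI := isIso_μ φ (S R k) (S R (-k))
  haveI := isIso_μ φ (S R (-k)) (S R k)
  let L := DTen.LBase φ
  haveI : ((DTen.LTen R').obj (L.obj (S R k))).IsEquivalence :=
    (CategoryTheory.Equivalence.mk ((DTen.LTen R').obj (L.obj (S R k))) ((DTen.LTen R').obj (L.obj (S R (-k))))
      (invIso _ _ ((asIso (μ φ (S R (-k)) (S R k))).symm ≪≫ L.mapIso (SIso (-k) k (by omega)) ≪≫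
        baseUnitIso φ)).symm
      (invIso _ _ ((asIso (μ φ (S R k) (S R (-k)))).symm ≪≫ L.mapIso (SIso k (-k) (by omega)) ≪≫
        baseUnitIso φ))).isEquivalence_functor
  exact Functor.isEquivalence_of_iso (flipIso' R' _)

variable [DTen.HasLTen₃ R] [DTen.IsSymMonoidal R] [DTen.HasRHom R] [DTen.HasRHom R']

/-- The composite `μ⁻¹ ≫ L(ev)`. -/
noncomputable def bcAux (K M : Dual.D R) :
    (DTen.LTen₂ R').obj ((DTen.LBase φ).obj ((DTen.RHomR R K).obj M), (DTen.LBase φ).obj K) ⟶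
      (DTen.LBase φ).obj M :=
  haveI := isIso_μ φ ((DTen.RHomR R K).obj M) K
  inv (μ φ ((DTen.RHomR R K).obj M) K) ≫ (DTen.LBase φ).map (DTen.ev K M)

lemma μ_bcAux (K M : Dual.D R) :
    μ φ ((DTen.RHomR R K).obj M) K ≫ bcAux φ K M = (DTen.LBase φ).map (DTen.ev K M) := by
  haveI := isIso_μ φ ((DTen.RHomR R K).obj M) K
  exact IsIso.hom_inv_id_assoc _ _

theorem bcRHom_eq (K M : Dual.D R) [IsIso (DTen.rhomBC φ K ((DTen.LBase φ).obj M))] :
    DTen.bcRHom φ K M =
      DTen.rhomHomEquiv ((DTen.LBase φ).obj ((DTen.RHomR R K).obj M)) ((DTen.LBase φ).obj K)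
        ((DTen.LBase φ).obj M) (bcAux φ K M) := by
  set g := DTen.rhomHomEquiv ((DTen.LBase φ).obj ((DTen.RHomR R K).obj M)) ((DTen.LBase φ).obj K)
        ((DTen.LBase φ).obj M) (bcAux φ K M) with hg
  apply ((DTen.baseAdj φ).homEquiv _ _).injective
  rw [DTen.bcRHom, Equiv.apply_symm_apply, IsIso.comp_inv_eq, DTen.rhomBC]
  erw [← Adjunction.homEquiv_naturality_left]
  apply (DTen.rhomHomEquiv _ K _).symm.injective
  erw [Equiv.symm_apply_apply, Adjunction.homEquiv_counit, Adjunction.counit_naturality]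
  rw [Adjunction.homEquiv_unit]
  have h1 : (DTen.baseAdj φ).homEquiv _ _
      (μ φ ((DTen.RHomR R K).obj M) K ≫ (TR ((DTen.LBase φ).obj K)).map g ≫
        DTen.ev ((DTen.LBase φ).obj K) ((DTen.LBase φ).obj M)) =
      DTen.ev K M ≫ (DTen.baseAdj φ).unit.app M := by
    have : (TR ((DTen.LBase φ).obj K)).map g ≫ DTen.ev ((DTen.LBase φ).obj K) ((DTen.LBase φ).obj M) =
        bcAux φ K M := by
      rw [hg]
      exact ((DTen.rhomAdj R' _).homEquiv _ _).left_inv (bcAux φ K M)
    rw [this, μ_bcAux, Adjunction.homEquiv_unit]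
    exact (DTen.baseAdj φ).unit.naturality (DTen.ev K M) |>.symm
  rw [Adjunction.homEquiv_naturality_right, homEquiv_μ, Functor.map_comp] at h1
  have hn := (DTen.resPF φ).naturality (X := ((DTen.LBase φ).obj ((DTen.RHomR R K).obj M), (DTen.LBase φ).obj K))
    (Y := ((DTen.RHomR R' ((DTen.LBase φ).obj K)).obj ((DTen.LBase φ).obj M), (DTen.LBase φ).obj K))
    (Prod.mkHom g (𝟙 _))
  refine h1.symm.trans ?_
  dsimp only [DTen.rhomBCCore]
  simp only [Category.assoc]
  erw [← reassoc_of% hn, ← Functor.map_comp_assoc]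
  refine Eq.trans ?_ (Functor.map_comp_assoc (DTen.LTen₂ R) (Prod.mkHom _ (𝟙 K)) _ _)
  refine congrArg (fun z => (DTen.LTen₂ R).map z ≫ _) (Prod.ext (Category.comp_id _).symm ?_)
  exact (congrArg (_ ≫ ·) ((DRing.restrictD φ).map_id _)).trans
    ((Category.comp_id _).trans (Category.id_comp _).symm)

/-- `Hom(Y, RHom(K,M) ⊗_R R') ⟶ Hom(Y ⊗ (K ⊗_R R'), M ⊗_R R')`. -/
noncomputable def tb (K M : Dual.D R) (Y : Dual.D R') :
    (Y ⟶ (DTen.LBase φ).obj ((DTen.RHomR R K).obj M)) →+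
      ((DTen.LTen₂ R').obj (Y, (DTen.LBase φ).obj K) ⟶ (DTen.LBase φ).obj M) :=
  AddMonoidHom.mk' (fun f => (TR ((DTen.LBase φ).obj K)).map f ≫ bcAux φ K M) fun f g => by
    rw [Functor.map_add, Preadditive.add_comp]

/-- The natural transformation of functors of `K`. -/
noncomputable def tbNat (M : Dual.D R) (Y : Dual.D R') :
    (DTen.RHom R).flip.obj M ⋙ DTen.LBase φ ⋙ preadditiveCoyoneda.obj (op Y) ⟶
      (DTen.LBase φ ⋙ TL Y).op ⋙ preadditiveYoneda.obj ((DTen.LBase φ).obj M) where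
  app K := AddCommGrpCat.ofHom (tb φ K.unop M Y)
  naturality K K' g := by
    refine AddCommGrpCat.hom_ext (AddMonoidHom.ext fun f => ?_)
    change (TR ((DTen.LBase φ).obj K'.unop)).map (f ≫ (DTen.LBase φ).map (DTen.RHomMap g.unop M)) ≫
        bcAux φ K'.unop M =
      (TL Y).map ((DTen.LBase φ).map g.unop) ≫ (TR ((DTen.LBase φ).obj K.unop)).map f ≫ bcAux φ K.unop M
    have key : (TR ((DTen.LBase φ).obj K'.unop)).map ((DTen.LBase φ).map (DTen.RHomMap g.unop M)) ≫
        bcAux φ K'.unop M = (TL _).map ((DTen.LBase φ).map g.unop) ≫ bcAux φ K.unop M := by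
      haveI := isIso_μ φ ((DTen.RHomR R K.unop).obj M) K'.unop
      rw [← cancel_epi (μ φ ((DTen.RHomR R K.unop).obj M) K'.unop)]
      have h1 := μ_naturality φ (DTen.RHomMap g.unop M) (𝟙 K'.unop)
      have h2 := μ_naturality φ (𝟙 ((DTen.RHomR R K.unop).obj M)) g.unop
      rw [CategoryTheory.Functor.map_id] at h1 h2
      erw [← reassoc_of% h1, ← reassoc_of% h2, μ_bcAux, μ_bcAux, ← Functor.map_comp, ← Functor.map_comp,
        DTen.RHom_map_ev]
    rw [Functor.map_comp, Category.assoc]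
    refine (congrArg (fun z => (TR ((DTen.LBase φ).obj K'.unop)).map f ≫ z) key).trans ?_
    exact interchange_assoc f ((DTen.LBase φ).map g.unop) _

lemma tb_S_bijective (k : ℤ) (M : Dual.D R) (Y : Dual.D R') : Function.Bijective (tb φ (S R k) M Y) := by
  haveI := isEquivalence_base_S φ k
  haveI := isIso_ev_S k M
  haveI := isIso_μ φ ((DTen.RHomR R (S R k)).obj M) (S R k)
  haveI : IsIso (bcAux φ (S R k) M) := by rw [bcAux]; infer_instance
  convert (((Functor.FullyFaithful.ofFullyFaithful (TR ((DTen.LBase φ).obj (S R k)))).homEquiv (X := Y)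
    (Y := (DTen.LBase φ).obj ((DTen.RHomR R (S R k)).obj M))).trans
    (Iso.homCongr (Iso.refl _) (asIso (bcAux φ (S R k) M)))).bijective using 1
  funext f
  simp [tb]

theorem isIso_bcRHom_of_isPerfect' (K M : Dual.D R) [IsIso (DTen.rhomBC φ K ((DTen.LBase φ).obj M))]
    (hK : DRing.IsPerfect R K) : IsIso (DTen.bcRHom φ K M) := by
  refine (isIso_iff_yoneda_map_bijective _).2 fun Y => ?_
  let η := tbNat φ M Y
  have hs : Dev.IsExactOp ((DTen.RHom R).flip.obj M ⋙ DTen.LBase φ ⋙ preadditiveCoyoneda.obj (op Y)) := by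
    haveI : (DTen.LBase φ).IsLeftAdjoint := (DTen.baseAdj φ).isLeftAdjoint
    intro T hT x
    constructor
    · intro hx
      obtain ⟨C, j, δ, hd⟩ := distinguished_cocone_triangle₁ (DTen.RHomMap T.mor₁ M)
      obtain ⟨t, ht⟩ := exists_lift_RHomMap T hT M C j (comp_distTriang_mor_zero₁₂ _ hd)
      obtain ⟨y, hy⟩ := Dev.exists_lift_map (DTen.baseAdj φ) _ hd x hx
      refine ⟨y ≫ (DTen.LBase φ).map t, ?_⟩
      change (y ≫ _) ≫ (DTen.LBase φ).map (DTen.RHomMap T.mor₂ M) = x
      rw [Category.assoc]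
      refine (congrArg (y ≫ ·) ?_).trans hy
      exact ((DTen.LBase φ).map_comp _ _).symm.trans (congrArg _ ht)
    · rintro ⟨y, rfl⟩
      change (y ≫ (DTen.LBase φ).map (DTen.RHomMap T.mor₂ M)) ≫
        (DTen.LBase φ).map (DTen.RHomMap T.mor₁ M) = 0
      rw [Category.assoc, ← Functor.map_comp]
      refine (congrArg (fun z => y ≫ (DTen.LBase φ).map z) (RHomMap_comp_zero T hT M)).trans ?_
      exact (congrArg (y ≫ ·) ((DTen.LBase φ).map_zero _ _)).trans comp_zero
  have ht : Dev.IsExactOp ((DTen.LBase φ ⋙ TL Y).op ⋙ preadditiveYoneda.obj ((DTen.LBase φ).obj M)) := by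
    let adj := (DTen.baseAdj φ).comp (leftAdj Y)
    haveI : (DTen.LBase φ ⋙ TL Y).IsLeftAdjoint := adj.isLeftAdjoint
    intro T hT x
    constructor
    · exact fun hx => Dev.exists_factor_map adj T hT x hx
    · rintro ⟨y, rfl⟩
      change (DTen.LBase φ ⋙ TL Y).map T.mor₁ ≫ (DTen.LBase φ ⋙ TL Y).map T.mor₂ ≫ y = 0
      rw [← Functor.map_comp_assoc, comp_distTriang_mor_zero₁₂ _ hT, Functor.map_zero, zero_comp]
  have key : ∀ n : ℤ, Function.Bijective (η.app (op (K⟦n⟧))) := by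
    refine perfect_induction (fun K => ∀ n : ℤ, Function.Bijective (η.app (op (K⟦n⟧)))) ?_ ?_ ?_ hK
    · intro K K' i r h h' n
      exact bijective_of_retract η (r⟦n⟧').op (i⟦n⟧').op
        (by rw [← op_comp, ← Functor.map_comp, h, CategoryTheory.Functor.map_id, op_id]) (h' n)
    · exact fun T hT h₁ h₃ n => Dev.bijective_shift_ext_op η hs ht T hT h₁ h₃ n
    · intro k n
      exact bijective_of_retract η (shiftSIso k n).inv.op (shiftSIso k n).hom.op
        (by rw [← op_comp, Iso.hom_inv_id, op_id]) (tb_S_bijective φ (k + n) M Y)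
  have hK' : Function.Bijective (tb φ K M Y) :=
    bijective_of_retract η ((shiftFunctorZero (Dual.D R) ℤ).hom.app K).op
      ((shiftFunctorZero (Dual.D R) ℤ).inv.app K).op
      (by rw [← op_comp, Iso.inv_hom_id_app]; exact op_id ..) (key 0)
  convert (DTen.rhomHomEquiv Y ((DTen.LBase φ).obj K) ((DTen.LBase φ).obj M)).bijective.comp hK' using 1
  funext f
  exact (congrArg (f ≫ ·) (bcRHom_eq φ K M)).trans (Adjunction.homEquiv_naturality_left _ _ _).symm

end

theorem isIso_bcRHom_of_isPerfect {R R' : Type u} [CommRing R] [CommRing R'] (φ : R →+* R')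
    [DTen.HasLTen R] [DTen.HasLTen R'] [DTen.HasRHom R] [DTen.HasRHom R'] [DTen.HasLBase φ]
    [DTen.HasResTen φ] [DTen.ResLegIso φ] (K M : Dual.D R)
    [IsIso (DTen.rhomBC φ K ((DTen.LBase φ).obj M))] (hK : DRing.IsPerfect R K) :
    IsIso (DTen.bcRHom φ K M) :=
  haveI : DTen.HasLTen₃ R := hasLTen₃
  haveI : DTen.HasLTen₃ R' := hasLTen₃
  haveI : DTen.IsSymMonoidal R := isSymMonoidal
  haveI : DTen.IsSymMonoidal R' := isSymMonoidal
  isIso_bcRHom_of_isPerfect' φ K M hK

end Groth.Agent.H25DTen
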