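import Groth.Agent.H25DTen.ProKill
import Groth.Agent.H25DTen.BcRHom
import Groth.Prelude.Def_ega3
import Groth.Prelude.Def_DerCA
import Mathlib

/-!
# `K ⊗^L A/I^n` and `K/I^n K` are pro-isomorphic for bounded complexes of finite modules
-/

set_option autoImplicit false
set_option backward.isDefEq.respectTransparency false

universe u

open CategoryTheory CategoryTheory.Limits MonoidalCategory Pretriangulated Opposite

attribute [local instance] HasDerivedCategory.standard

namespace Groth.Agent.H25DTen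

open Groth.Agent.H16Derived

variable {A : Type u} [CommRing A]

/-- `M[0]` as a complex. -/
noncomputable abbrev s0 : ModuleCat.{u} A ⥤ DRing.Cx A :=
  HomologicalComplex.single (ModuleCat.{u} A) (ComplexShape.up ℤ) 0

/-- `M[0]` in the derived category, through complexes. -/
noncomputable abbrev Qs : ModuleCat.{u} A ⥤ Dual.D A := s0 ⋙ DerivedCategory.Q

variable (I : Ideal A)

/-- The inverse system `A/I^(N+1)`. -/
noncomputable abbrev adic : ℕᵒᵖ ⥤ ModuleCat.{u} A := CohIII.adicSystem I (ModuleCat.of A A)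

/-- The projection `A ⟶ A/I^(N+1)`. -/
noncomputable def qt (N : ℕ) : ModuleCat.of A A ⟶ (adic I).obj (op N) :=
  ModuleCat.ofHom (Submodule.mkQ _)

lemma qt_tr {N M : ℕ} (h : N ≤ M) : qt I M ≫ (adic I).map (homOfLE h).op = qt I N := by
  induction h with
  | refl => simp
  | @step m h ih =>
    have h1 : (adic I).map (homOfLE (Nat.le.step h)).op =
        (adic I).map (homOfLE (Nat.le_succ m)).op ≫ (adic I).map (homOfLE h).op := by
      rw [← Functor.map_comp]; rfl
    have h2 : qt I (m + 1) ≫ (adic I).map (homOfLE (Nat.le_succ m)).op = qt I m := by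
      simp only [adic, CohIII.adicSystem, Functor.ofOpSequence_map_homOfLE_succ]
      rfl
    rw [h1, reassoc_of% h2, ih]

lemma qt_shortExact (N : ℕ) :
    (ShortComplex.mk ((powι I (N + 1)).app (ModuleCat.of A A)) (qt I N)
      (ModuleCat.hom_ext (LinearMap.ext fun x => (Submodule.Quotient.mk_eq_zero _).2 x.2))).ShortExact where
  exact := (ShortComplex.ShortExact.moduleCat_exact_iff_function_exact _).2 fun x =>
    ⟨fun hx => ⟨⟨x, (Submodule.Quotient.mk_eq_zero _).1 hx⟩, rfl⟩,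
      by rintro ⟨y, rfl⟩; exact (Submodule.Quotient.mk_eq_zero _).2 y.2⟩
  mono_f := (ModuleCat.mono_iff_injective _).2 Subtype.val_injective
  epi_g := (ModuleCat.epi_iff_surjective _).2 (Submodule.mkQ_surjective _)

lemma adic_smul_eq_zero (N : ℕ) (g : A) (hg : g ∈ I ^ (N + 1)) :
    ∀ x : (adic I).obj (op N), g • x = 0 := by
  intro x
  obtain ⟨y, rfl⟩ := Submodule.mkQ_surjective _ x
  exact ((Submodule.mkQ _).map_smul g y).symm.trans
    ((Submodule.Quotient.mk_eq_zero _).2 (Submodule.smul_mem_smul hg Submodule.mem_top))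

instance linear_Qs : (Qs (A := A)).Linear A :=
  Functor.linear_of_iso _ (DerivedCategory.singleFunctorIsoCompQ (ModuleCat.{u} A) 0)

variable [DTen.HasLTen A] [DTen.HasLTen₃ A] [DTen.IsSymMonoidal A] [DTen.HasRHom A]

/-- Bounded with bounded tensor with `L`. -/
def Bdd₂ (L P : Dual.D A) : Prop :=
  ∃ a : ℤ, P.IsLE 0 ∧ P.IsGE a ∧ ((DTen.LTen₂ A).obj (L, P)).IsGE a

/-- `L ⊗ X⟦1⟧ ≅ (L ⊗ X)⟦1⟧`. -/
noncomputable def tensorShiftIso (L X : Dual.D A) :
    (TL L).obj (X⟦(1 : ℤ)⟧) ≅ ((DTen.LTen₂ A).obj (L, X))⟦(1 : ℤ)⟧ :=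
  haveI : IsIso ((DTen.symm A).app (S A 1, L)) := inferInstance
  (TL L).mapIso (shiftTensorUnitIso 1 X).symm ≪≫ (DTen.associator L (S A 1) X).symm ≪≫
    (TR X).mapIso (asIso ((DTen.symm A).app (S A 1, L))) ≪≫ DTen.associator (S A 1) L X ≪≫
    shiftTensorUnitIso 1 _

omit [DTen.HasLTen A] [DTen.HasLTen₃ A] [DTen.IsSymMonoidal A] [DTen.HasRHom A] in
lemma shift_comp_eq_zero {X X' W : Dual.D A} (f : X' ⟶ X) (w : X⟦(1 : ℤ)⟧ ⟶ W)
    (h : f ≫ (shiftFunctorCompIsoId (Dual.D A) (1 : ℤ) (-1) (by omega)).inv.app X ≫ w⟦(-1 : ℤ)⟧' = 0) :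
    f⟦(1 : ℤ)⟧' ≫ w = 0 := by
  apply (shiftFunctor (Dual.D A) (-1 : ℤ)).map_injective
  rw [Functor.map_zero, Functor.map_comp,
    ← cancel_epi ((shiftFunctorCompIsoId (Dual.D A) (1 : ℤ) (-1) (by omega)).inv.app X'), comp_zero]
  have hn := (shiftFunctorCompIsoId (Dual.D A) (1 : ℤ) (-1) (by omega)).inv.naturality f
  dsimp at hn
  rw [← reassoc_of% hn]
  exact h

omit [DTen.HasLTen A] [DTen.HasLTen₃ A] [DTen.IsSymMonoidal A] [DTen.HasRHom A] in
/-- The annihilator of an object. -/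
noncomputable def annD (P : Dual.D A) : Ideal A where
  carrier := {g | g • 𝟙 P = 0}
  add_mem' := fun {a b} (ha : a • 𝟙 P = 0) (hb : b • 𝟙 P = 0) => by
    change (a + b) • 𝟙 P = 0
    rw [add_smul, ha, hb, add_zero]
  zero_mem' := zero_smul A _
  smul_mem' := fun c {a} (ha : a • 𝟙 P = 0) => by
    change (c * a) • 𝟙 P = 0
    rw [mul_smul, ha, smul_zero]

theorem exists_koszul [IsNoetherianRing A] (L : Dual.D A) {c : ℤ} (hL : L.IsGE c) (N : ℕ) :
    ∀ l : List A, (∀ f ∈ l, f ∈ I ^ (N + 1)) → ∃ (P : Dual.D A) (u : Qs.obj (ModuleCat.of A A) ⟶ P)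
      (π : P ⟶ Qs.obj ((adic I).obj (op N))),
        u ≫ π = Qs.map (qt I N) ∧ Bdd₂ L P ∧ ∀ f ∈ l, f ∈ (annD P).radical
  | [], _ => by
    refine ⟨Qs.obj (ModuleCat.of A A), 𝟙 _, Qs.map (qt I N), Category.id_comp _, ⟨min c 0, ?_, ?_, ?_⟩, by simp⟩
    · exact DerivedCategory.TStructure.t.isLE_of_iso
        ((DerivedCategory.singleFunctorIsoCompQ (ModuleCat.{u} A) 0).app _) 0
    · haveI : DerivedCategory.TStructure.t.IsGE (Qs.obj (ModuleCat.of A A)) 0 :=
        DerivedCategory.TStructure.t.isGE_of_iso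
          ((DerivedCategory.singleFunctorIsoCompQ (ModuleCat.{u} A) 0).app (ModuleCat.of A A)) 0
      exact DerivedCategory.TStructure.t.isGE_of_ge _ (min c 0) 0 (by omega)
    · haveI := hL
      haveI : DerivedCategory.TStructure.t.IsGE ((𝟭 (Dual.D A)).obj L) (min c 0) :=
        DerivedCategory.TStructure.t.isGE_of_ge L (min c 0) c (by omega)
      exact DerivedCategory.TStructure.t.isGE_of_iso (asIso ((DTen.unitR A).app L)).symm _
  | f :: l, hl => by
    obtain ⟨P, u, π, hu, ⟨a, hle, hge, hgeL⟩, hrad⟩ :=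
      exists_koszul L hL N l fun g hg => hl g (List.mem_cons_of_mem f hg)
    obtain ⟨C, g, δ, hT⟩ := distinguished_cocone_triangle (f • 𝟙 P)
    have hz : (f • 𝟙 P) ≫ π = 0 := by
      rw [smul_id_comp, ← CategoryTheory.Functor.map_id, ← Functor.map_smul,
        show f • 𝟙 ((adic I).obj (op N)) = 0 from ModuleCat.hom_ext (LinearMap.ext fun x =>
          adic_smul_eq_zero I N f (hl f (by simp)) x), Functor.map_zero, comp_zero]
    obtain ⟨π', hπ'⟩ := Triangle.yoneda_exact₂ _ hT π hz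
    have hT' := rot_of_distTriang _ hT
    haveI := hle
    haveI := hge
    haveI := hgeL
    refine ⟨C, u ≫ g, π', ?_, ⟨a - 1, ?_, ?_, ?_⟩, ?_⟩
    · rw [Category.assoc]
      refine (congrArg (u ≫ ·) ?_).trans hu
      exact hπ'.symm
    · haveI := DerivedCategory.TStructure.t.isLE_shift P 0 1 (-1)
      exact DerivedCategory.TStructure.t.isLE₂ _ hT' 0 hle
        (DerivedCategory.TStructure.t.isLE_of_le (P⟦(1 : ℤ)⟧) (-1) 0)
    · exact DerivedCategory.TStructure.t.isGE₂ _ hT' (a - 1)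
        (DerivedCategory.TStructure.t.isGE_of_ge P (a - 1) a)
        (DerivedCategory.TStructure.t.isGE_shift P a 1 (a - 1))
    · haveI := DerivedCategory.TStructure.t.isGE_shift ((DTen.LTen₂ A).obj (L, P)) a 1 (a - 1)
      refine isGE_of_hom_S_eq_zero fun k hk x => ?_
      have hx : x ≫ (TL L).map δ = 0 := by
        rw [← cancel_mono (tensorShiftIso L P).hom, zero_comp]
        exact hom_S_eq_zero_of_isGE (c := a - 1) hk inferInstance _
      obtain ⟨y, hy⟩ := Dev.exists_lift_map (leftAdj L) _ hT' x hx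
      rw [← hy, show y = 0 from hom_S_eq_zero_of_isGE (c := a) (by omega) hgeL y]
      exact zero_comp
    · intro h hh
      rcases List.mem_cons.1 hh with rfl | hh
      · refine ⟨2, ?_⟩
        change (h ^ 2) • 𝟙 C = 0
        obtain ⟨w, hw⟩ := Triangle.yoneda_exact₃ _ hT (h • 𝟙 C) (by
          change g ≫ (h • 𝟙 C) = 0
          rw [← smul_id_comp]
          exact comp_distTriang_mor_zero₁₂ _ hT)
        have h31 : δ ≫ (h • 𝟙 P)⟦(1 : ℤ)⟧' = 0 := comp_distTriang_mor_zero₃₁ _ hT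
        rw [pow_two, mul_smul, hw]
        change h • (δ ≫ w) = 0
        rw [Functor.map_smul, CategoryTheory.Functor.map_id, Linear.comp_smul, Category.comp_id] at h31
        rw [← Linear.smul_comp, h31, zero_comp]
      · obtain ⟨s, hs⟩ := hrad h hh
        refine ⟨s + s, ?_⟩
        rw [pow_add]
        have hk : Killed (annD P) P := fun g hg => hg
        exact Killed.mul _ hT' hk (hk.shift 1) _ (Ideal.mul_mem_mul hs hs)

theorem exists_factorization [IsNoetherianRing A] (L : Dual.D A) {b c : ℤ} (hL : L.IsGE c) (hLb : L.IsLE b)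
    (N : ℕ) : ∃ (P : Dual.D A) (u : Qs.obj (ModuleCat.of A A) ⟶ P) (π : P ⟶ Qs.obj ((adic I).obj (op N))),
      u ≫ π = Qs.map (qt I N) ∧ BddKilled I P ∧ BddKilled I ((DTen.LTen₂ A).obj (L, P)) := by
  obtain ⟨s, hs⟩ := Submodule.fg_def.1 ((isNoetherianRing_iff_ideal_fg A).1 inferInstance (I ^ (N + 1)))
  obtain ⟨P, u, π, hu, ⟨a, hle, hge, hgeL⟩, hrad⟩ := exists_koszul I L hL N hs.1.toFinset.toList
    fun f hf => by
      rw [← hs.2]
      exact Ideal.subset_span (hs.1.mem_toFinset.1 (Finset.mem_toList.1 hf))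
  have hI : I ≤ (annD P).radical := by
    intro x hx
    refine (annD P).radical_idem ▸ ⟨N + 1, ?_⟩
    have hx' : x ^ (N + 1) ∈ Ideal.span s := by
      change x ^ (N + 1) ∈ Submodule.span A s
      rw [hs.2]
      exact Ideal.pow_mem_pow hx _
    exact Ideal.span_le.2 (fun f hf => hrad f (Finset.mem_toList.2 (hs.1.mem_toFinset.2 hf))) hx'
  obtain ⟨n, hn⟩ := Ideal.exists_pow_le_of_le_radical_of_fg hI
    ((isNoetherianRing_iff_ideal_fg A).1 inferInstance I)
  have hk : Killed (I ^ n) P := fun g hg => hn hg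
  refine ⟨P, u, π, hu, ⟨a, 0, n, hge, hle, hk⟩, ⟨a, b, n, hgeL, ?_, hk.map (TL L)⟩⟩
  exact isLE_tensor (le_of_eq (add_zero b)) hLb hle

theorem Killed.rhom {J : Ideal A} {Y : Dual.D A} (h : Killed J Y) (L : Dual.D A) :
    Killed J ((DTen.RHomR A L).obj Y) := fun g hg => by
  apply ((leftAdj L).homEquiv _ _).symm.injective
  rw [Adjunction.homEquiv_counit, Adjunction.homEquiv_counit, Functor.map_smul,
    CategoryTheory.Functor.map_id, Linear.smul_comp, Category.id_comp, h.eq_zero_of_comp _ hg,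
    Functor.map_zero, zero_comp]

variable [IsNoetherianRing A]

omit [DTen.HasLTen A] [DTen.HasLTen₃ A] [DTen.IsSymMonoidal A] [DTen.HasRHom A] in
/-- A module version of the vanishing statement. -/
theorem exists_pow_Qs (M : ModuleCat.{u} A) [Module.Finite A M] {Y : Dual.D A} (hY : BddKilled I Y)
    (e : Qs.obj M ⟶ Y) : ∃ m, Qs.map ((powι I m).app M) ≫ e = 0 := by
  obtain ⟨m, hm⟩ := exists_pow_comp_eq_zero I (s0.obj M) 0 0
    (fun q hq => HomologicalComplex.isZero_single_obj_X (ComplexShape.up ℤ) 0 _ q (by omega))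
    (fun q => by
      by_cases hq : q = 0
      · subst hq
        exact Module.Finite.equiv (HomologicalComplex.singleObjXSelf (ComplexShape.up ℤ) 0 M).toLinearEquiv.symm
      · haveI := ModuleCat.subsingleton_of_isZero
          (HomologicalComplex.isZero_single_obj_X (ComplexShape.up ℤ) 0 M q hq)
        infer_instance) hY e
  refine ⟨m, ?_⟩
  have h := congrArg DerivedCategory.Q.map (powCxι_single I m M 0)
  rw [Functor.map_comp] at h
  rw [← cancel_epi (DerivedCategory.Q.map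
    ((HomologicalComplex.singleMapHomologicalComplex (powF I m) (ComplexShape.up ℤ) 0).app M).hom),
    comp_zero]
  exact ((reassoc_of% h) e).trans hm

omit [DTen.HasLTen A] [DTen.HasLTen₃ A] [DTen.IsSymMonoidal A] [DTen.HasRHom A] [IsNoetherianRing A] in
lemma powF_step_ι (M : ModuleCat.{u} A) {a m c : ℕ} (h : a + m ≤ c) :
    (((powT I h).app M ≫ (powAdd I a m).app M) ≫ (powι I m).app ((powF I a).obj M)) ≫
      (powι I a).app M = (powι I c).app M := by
  have h1 : (powAdd I a m).app M ≫ (powι I m).app ((powF I a).obj M) ≫ (powι I a).app M =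
      (powι I (a + m)).app M := NatTrans.congr_app (powAdd_ι I a m) M
  have h2 : (powT I h).app M ≫ (powι I (a + m)).app M = (powι I c).app M :=
    NatTrans.congr_app (powT_ι I h) M
  exact (Category.assoc _ _ _).trans ((Category.assoc _ _ _).trans
    ((congrArg ((powT I h).app M ≫ ·) h1).trans h2))

/-- Maps `L ⊗ A/I^(N+1) ⟶ Y` vanishing on `L` vanish further up the system. -/
theorem exists_tr_comp_eq_zero (L : Dual.D A) {b : ℤ} (hLb : L.IsLE b) {Y : Dual.D A} (hY : BddKilled I Y)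
    (N : ℕ) (d : (TL L).obj (Qs.obj ((adic I).obj (op N))) ⟶ Y)
    (hd : (TL L).map (Qs.map (qt I N)) ≫ d = 0) :
    ∃ (M : ℕ) (h : N ≤ M), (TL L).map (Qs.map ((adic I).map (homOfLE h).op)) ≫ d = 0 := by
  obtain ⟨a, b', s, hge, hle, hk⟩ := hY
  let W := (DTen.RHomR A L).obj Y
  let v := (leftAdj L).homEquiv _ _ d
  let Sq (N : ℕ) : ShortComplex (DRing.Cx A) :=
    (ShortComplex.mk ((powι I (N + 1)).app (ModuleCat.of A A)) (qt I N)
      (ModuleCat.hom_ext (LinearMap.ext fun x => (Submodule.Quotient.mk_eq_zero _).2 x.2))).map s0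
  have hSq (N : ℕ) : (Sq N).ShortExact := (qt_shortExact I N).map_of_exact s0
  obtain ⟨w, hw⟩ := Triangle.yoneda_exact₃ _ (DerivedCategory.triangleOfSES_distinguished (hSq N)) v (by
    change Qs.map (qt I N) ≫ (leftAdj L).homEquiv _ _ d = 0
    rw [← Adjunction.homEquiv_naturality_left, hd, Adjunction.homEquiv_unit, Functor.map_zero, comp_zero])
  have hWge : W.IsGE (a - b) := isGE_RHom (c := a - b) (by omega) hLb hge
  have hWk : Killed (I ^ s) W := hk.rhom L
  let T := (DerivedCategory.TStructure.t.triangleLTGE 0).obj W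
  have hT : T ∈ (distTriang _) := DerivedCategory.TStructure.t.triangleLTGE_distinguished 0 W
  have hT₁ : (T.obj₁).IsLE (0 - 1) :=
    inferInstanceAs (((DerivedCategory.TStructure.t.triangleLTGE 0).obj W).obj₁.IsLE (0 - 1))
  have hT₁' : (T.obj₁).IsGE (a - b) := by
    haveI := hWge
    exact inferInstanceAs (((DerivedCategory.TStructure.t.truncLT 0).obj W).IsGE (a - b))
  have hT₃ : (T.obj₃).IsGE 0 :=
    inferInstanceAs (((DerivedCategory.TStructure.t.triangleLTGE 0).obj W).obj₃.IsGE 0)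
  let J := DerivedCategory.Q.obj (Sq N).X₁
  have hJle : (J⟦(1 : ℤ)⟧).IsLE (-1) := by
    haveI : J.IsLE 0 := DerivedCategory.TStructure.t.isLE_of_iso
      ((DerivedCategory.singleFunctorIsoCompQ (ModuleCat.{u} A) 0).app _) 0
    exact DerivedCategory.TStructure.t.isLE_shift J 0 1 (-1)
  obtain ⟨w', hw'⟩ := Triangle.coyoneda_exact₂ T hT (X := J⟦(1 : ℤ)⟧) w
    (DerivedCategory.TStructure.t.zero_of_isLE_of_isGE _ (-1) 0 (by omega) hJle hT₃)
  have hbk : BddKilled I (T.obj₁⟦(-1 : ℤ)⟧) := by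
    haveI := hT₁
    haveI := hT₁'
    exact ⟨a - b + 1, 0, s, DerivedCategory.TStructure.t.isGE_shift T.obj₁ (a - b) (-1) (a - b + 1),
      DerivedCategory.TStructure.t.isLE_shift T.obj₁ (0 - 1) (-1) 0,
      (hWk.of_truncation T hT 0 hT₁ hT₃).1.shift (-1)⟩
  obtain ⟨m, hm⟩ := exists_pow_Qs I ((powF I (N + 1)).obj (ModuleCat.of A A)) hbk
    ((shiftFunctorCompIsoId (Dual.D A) (1 : ℤ) (-1) (by omega)).inv.app J ≫ w'⟦(-1 : ℤ)⟧')
  refine ⟨N + m, Nat.le_add_right N m, ((leftAdj L).homEquiv _ _).injective ?_⟩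
  rw [Adjunction.homEquiv_naturality_left]
  change Qs.map _ ≫ v = _
  rw [hw, (leftAdj L).homEquiv_unit (f := (0 : (TL L).obj _ ⟶ Y)), Functor.map_zero, comp_zero]
  let τ : (powF I (N + m + 1)).obj (ModuleCat.of A A) ⟶ (powF I m).obj ((powF I (N + 1)).obj (ModuleCat.of A A)) :=
    (powT I (show N + 1 + m ≤ N + m + 1 by omega)).app _ ≫ (powAdd I (N + 1) m).app _
  let Φ : Sq (N + m) ⟶ Sq N :=
    { τ₁ := s0.map (τ ≫ (powι I m).app _)
      τ₂ := 𝟙 _
      τ₃ := s0.map ((adic I).map (homOfLE (Nat.le_add_right N m)).op)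
      comm₁₂ := ((s0.map_comp _ _).symm.trans
        (congrArg s0.map (powF_step_ι I (ModuleCat.of A A) _))).trans (Category.comp_id _).symm
      comm₂₃ := by
        refine (Category.id_comp _).trans ?_
        exact (congrArg s0.map (qt_tr I (Nat.le_add_right N m))).symm.trans (s0.map_comp _ _) }
  have hnat := DerivedCategory.triangleOfSESδ_naturality (hSq (N + m)) (hSq N) Φ
  change DerivedCategory.Q.map Φ.τ₃ ≫ DerivedCategory.triangleOfSESδ (hSq N) ≫ w = 0
  rw [← reassoc_of% hnat]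
  have hz : (Qs.map ((powι I m).app ((powF I (N + 1)).obj (ModuleCat.of A A))))⟦(1 : ℤ)⟧' ≫ w = 0 := by
    rw [hw']
    have hz' : (Qs.map ((powι I m).app ((powF I (N + 1)).obj (ModuleCat.of A A))))⟦(1 : ℤ)⟧' ≫ w' = 0 :=
      shift_comp_eq_zero _ _ hm
    exact (reassoc_of% hz') T.mor₁ |>.trans zero_comp
  change DerivedCategory.triangleOfSESδ (hSq (N + m)) ≫ (Qs.map (τ ≫ (powι I m).app _))⟦(1 : ℤ)⟧' ≫ w = 0
  rw [Functor.map_comp Qs, Functor.map_comp, Category.assoc, hz, comp_zero, comp_zero]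

section Quot

variable (K : DRing.Cx A)

/-- `K ⟶ K/I^(N+1) K`. -/
noncomputable def qK (N : ℕ) : K ⟶ (tenL K).obj (s0.obj ((adic I).obj (op N))) :=
  (ρ_ K).inv ≫ (tenL K).map (s0.map (qt I N))

omit [DTen.HasLTen A] [DTen.HasLTen₃ A] [DTen.IsSymMonoidal A] [DTen.HasRHom A] [IsNoetherianRing A] in
lemma qK_tr {N M : ℕ} (h : N ≤ M) :
    qK I K M ≫ (tenL K).map (s0.map ((adic I).map (homOfLE h).op)) = qK I K N := by
  rw [qK, Category.assoc, ← Functor.map_comp, ← Functor.map_comp, qt_tr]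
  rfl

omit [DTen.HasLTen A] [DTen.HasLTen₃ A] [DTen.IsSymMonoidal A] [DTen.HasRHom A] [IsNoetherianRing A] in
lemma isIso_ι_single (X : ModuleCat.{u} A) (q : ℤ) :
    IsIso (HomologicalComplex.ιMapBifunctor K (s0.obj X) (TT A) (ComplexShape.up ℤ) q 0 q (add_zero q)) := by
  classical
  let r : ((tenL K).obj (s0.obj X)).X q ⟶ ((TT A).obj (K.X q)).obj ((s0.obj X).X 0) :=
    HomologicalComplex.mapBifunctorDesc fun p' q' h' =>
      if hq : q' = 0 then eqToHom (by
        have h2 : p' + q' = q := h'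
        rw [hq, show p' = q by omega])
      else 0
  refine ⟨r, (HomologicalComplex.ι_mapBifunctorDesc _ q 0 (add_zero q)).trans (by simp), ?_⟩
  refine HomologicalComplex.mapBifunctor.hom_ext fun p' q' h' => ?_
  by_cases hq : q' = 0
  · subst hq
    obtain rfl : p' = q := by
      have h2 : p' + (0 : ℤ) = q := h'
      omega
    refine (Category.assoc _ _ _).symm.trans ?_
    refine (congrArg (· ≫ _) (HomologicalComplex.ι_mapBifunctorDesc _ p' 0 h')).trans ?_
    simp
  · exact (((TT A).obj (K.X p')).map_isZero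
      (HomologicalComplex.isZero_single_obj_X (ComplexShape.up ℤ) 0 X q' hq)).eq_of_src _ _

omit [DTen.HasLTen A] [DTen.HasLTen₃ A] [DTen.IsSymMonoidal A] [DTen.HasRHom A] [IsNoetherianRing A] in
lemma qK_f (N : ℕ) (q : ℤ) :
    (qK I K N).f q = (ρ_ (K.X q)).inv ≫ ((TT A).obj (K.X q)).map
        (qt I N ≫ (HomologicalComplex.singleObjXSelf (ComplexShape.up ℤ) 0 _).inv) ≫
      HomologicalComplex.ιMapBifunctor K (s0.obj ((adic I).obj (op N))) (TT A) (ComplexShape.up ℤ) q 0 q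
        (add_zero q) := by
  rw [qK, HomologicalComplex.comp_f]
  change (HomologicalComplex.rightUnitor' K).inv q ≫ _ = _
  rw [HomologicalComplex.rightUnitor'_inv, Category.assoc, Category.assoc]
  erw [KFlat.ι_tot_map (F := TT A) K (s0.map (qt I N)) q 0 q (add_zero q)]
  rw [HomologicalComplex.single_map_f_self]
  simp
  exact (whiskerLeftIso (K.X q) (HomologicalComplex.singleObjXSelf (ComplexShape.up ℤ) 0
    (ModuleCat.of A A))).inv_hom_id_assoc _

omit [DTen.HasLTen A] [DTen.HasLTen₃ A] [DTen.IsSymMonoidal A] [DTen.HasRHom A] [IsNoetherianRing A] in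
lemma tensor_mkQ_eq_zero_iff (J : Ideal A) (M : Type u) [AddCommGroup M] [Module A M] (x : M) :
    x ⊗ₜ[A] (Submodule.mkQ (J • (⊤ : Submodule A A)) 1) = 0 ↔ x ∈ J • (⊤ : Submodule A M) := by
  have hJ : J • (⊤ : Submodule A A) = J := Ideal.mul_top J
  constructor
  · intro h
    obtain ⟨z, hz⟩ := (lTensor_exact M (LinearMap.exact_subtype_mkQ (J • (⊤ : Submodule A A)))
      (Submodule.mkQ_surjective _) (x ⊗ₜ[A] (1 : A))).1 h
    have hx : TensorProduct.rid A M (x ⊗ₜ[A] (1 : A)) = x := by simp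
    rw [← hx, ← hz]
    clear hz hx
    induction z using TensorProduct.induction_on with
    | zero => simp
    | add a b ha hb => rw [map_add, map_add]; exact Submodule.add_mem _ ha hb
    | tmul m j =>
      rw [LinearMap.lTensor_tmul, TensorProduct.rid_tmul]
      exact Submodule.smul_mem_smul (hJ.le j.2) Submodule.mem_top
  · intro hx
    refine Submodule.smul_induction_on hx (fun g hg y _ => ?_) fun a b ha hb => by
      rw [TensorProduct.add_tmul, ha, hb, add_zero]
    rw [TensorProduct.smul_tmul, ← map_smul, show g • (1 : A) = g from mul_one g,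
      show Submodule.mkQ (J • (⊤ : Submodule A A)) g = 0 from (Submodule.Quotient.mk_eq_zero _).2 (hJ.ge hg),
      TensorProduct.tmul_zero]

omit [DTen.HasLTen A] [DTen.HasLTen₃ A] [DTen.IsSymMonoidal A] [DTen.HasRHom A] [IsNoetherianRing A] in
lemma qK_shortExact (N : ℕ) :
    ∃ h : (powCxι I (N + 1)).app K ≫ qK I K N = 0,
      (ShortComplex.mk ((powCxι I (N + 1)).app K) (qK I K N) h).ShortExact := by
  classical
  have hf : ∀ q (x : K.X q), (qK I K N).f q x = 0 ↔ x ∈ I ^ (N + 1) • (⊤ : Submodule A (K.X q)) := by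
    intro q x
    haveI := isIso_ι_single K ((adic I).obj (op N)) q
    let e := (HomologicalComplex.singleObjXSelf (ComplexShape.up ℤ) 0 ((adic I).obj (op N))).symm
    let E := (((TT A).obj (K.X q)).mapIso e ≪≫ asIso (HomologicalComplex.ιMapBifunctor K
      (s0.obj ((adic I).obj (op N))) (TT A) (ComplexShape.up ℤ) q 0 q (add_zero q))).toLinearEquiv
    refine Iff.trans ?_ (tensor_mkQ_eq_zero_iff (I ^ (N + 1)) (K.X q) x)
    have : (qK I K N).f q x = E (x ⊗ₜ[A] (Submodule.mkQ (I ^ (N + 1) • (⊤ : Submodule A A)) 1)) := by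
      rw [qK_f, Functor.map_comp, Category.assoc]
      rfl
    rw [this]
    exact E.map_eq_zero_iff
  have h0 : (powCxι I (N + 1)).app K ≫ qK I K N = 0 :=
    HomologicalComplex.hom_ext _ _ fun q => ModuleCat.hom_ext (LinearMap.ext fun y => (hf q _).2 y.2)
  refine ⟨h0, HomologicalComplex.shortExact_of_degreewise_shortExact _ fun q => ?_⟩
  exact
    { exact := (ShortComplex.ShortExact.moduleCat_exact_iff_function_exact _).2 fun x =>
        ⟨fun hx => ⟨⟨x, (hf q x).1 hx⟩, rfl⟩, by rintro ⟨y, rfl⟩; exact (hf q _).2 y.2⟩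
      mono_f := (ModuleCat.mono_iff_injective _).2 Subtype.val_injective
      epi_g := by
        haveI := isIso_ι_single K ((adic I).obj (op N)) q
        haveI : Epi (qt I N) := (qt_shortExact I N).epi_g
        haveI : Epi (((TT A).obj (K.X q)).map
            (qt I N ≫ (HomologicalComplex.singleObjXSelf (ComplexShape.up ℤ) 0 _).inv)) :=
          (ModuleCat.epi_iff_surjective _).2 (LinearMap.lTensor_surjective _
            ((ModuleCat.epi_iff_surjective _).1 (epi_comp (qt I N) _)))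
        change Epi ((qK I K N).f q)
        rw [qK_f]
        infer_instance }

end Quot

section Main

variable (K : DRing.Cx A)

/-- `K ⊗^L A/I^(N+1)`. -/
noncomputable abbrev Xsys (N : ℕ) : Dual.D A :=
  (DTen.LTen₂ A).obj (DerivedCategory.Q.obj K, Qs.obj ((adic I).obj (op N)))

/-- `K/I^(N+1) K`. -/
noncomputable abbrev Zsys (N : ℕ) : Dual.D A :=
  DerivedCategory.Q.obj ((tenL K).obj (s0.obj ((adic I).obj (op N))))

/-- The comparison map. -/
noncomputable abbrev aSys (N : ℕ) : Xsys I K N ⟶ Zsys I K N :=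
  (DTen.εLeft A K).app (s0.obj ((adic I).obj (op N)))

/-- `K ⟶ K ⊗^L A/I^(N+1)`. -/
noncomputable def unitX : DerivedCategory.Q.obj K ⟶ (TL (DerivedCategory.Q.obj K)).obj (Qs.obj (ModuleCat.of A A)) :=
  inv ((DTen.unitR A).app (DerivedCategory.Q.obj K))

lemma unitX_εLeft :
    unitX K ≫ (DTen.εLeft A K).app (s0.obj (ModuleCat.of A A)) = DerivedCategory.Q.map (ρ_ K).inv := by
  rw [unitX, IsIso.inv_comp_eq, DTen.unitR_app, Category.assoc, ← Functor.map_comp, Iso.hom_inv_id,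
    CategoryTheory.Functor.map_id]
  exact (Category.comp_id _).symm

lemma unitX_aSys (N : ℕ) :
    unitX K ≫ (TL (DerivedCategory.Q.obj K)).map (Qs.map (qt I N)) ≫ aSys I K N =
      DerivedCategory.Q.map (qK I K N) := by
  have h := (DTen.εLeft A K).naturality (s0.map (qt I N))
  dsimp at h
  erw [h, reassoc_of% unitX_εLeft K, ← Functor.map_comp]
  rfl

variable {K}

theorem bddKilled_Zsys {a b : ℤ} (hK : DRing.VanishesOutside K a b) (N : ℕ) : BddKilled I (Zsys I K N) := by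
  have hz : ∀ q, q < a ∨ b < q → IsZero (((tenL K).obj (s0.obj ((adic I).obj (op N)))).X q) := fun q hq => by
    haveI := isIso_ι_single K ((adic I).obj (op N)) q
    exact (((TT A).map_isZero (hK q hq)).obj _).of_iso (asIso (HomologicalComplex.ιMapBifunctor K
      (s0.obj ((adic I).obj (op N))) (TT A) (ComplexShape.up ℤ) q 0 q (add_zero q))).symm
  haveI := (CochainComplex.isStrictlyGE_iff ((tenL K).obj (s0.obj ((adic I).obj (op N)))) a).2
    fun q hq => hz q (Or.inl hq)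
  haveI := (CochainComplex.isStrictlyLE_iff ((tenL K).obj (s0.obj ((adic I).obj (op N)))) b).2
    fun q hq => hz q (Or.inr hq)
  refine ⟨a, b, N + 1, inferInstance, inferInstance, fun g hg => ?_⟩
  haveI : (tenL K).Additive := inferInstance
  have h0 : g • 𝟙 (s0.obj ((adic I).obj (op N))) = 0 := HomologicalComplex.hom_ext _ _ fun q => by
    by_cases hq : q = 0
    · subst hq
      ext x
      let e := (HomologicalComplex.singleObjXSelf (ComplexShape.up ℤ) 0 ((adic I).obj (op N))).toLinearEquiv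
      exact e.injective (((e.map_smul g x).trans (adic_smul_eq_zero I N g hg _)).trans e.map_zero.symm)
    · exact (HomologicalComplex.isZero_single_obj_X (ComplexShape.up ℤ) 0 _ q hq).eq_of_src _ _
  rw [← CategoryTheory.Functor.map_id, ← Functor.map_smul, ← CategoryTheory.Functor.map_id,
    ← Functor.map_smul, h0]
  exact (congrArg DerivedCategory.Q.map ((tenL K).map_zero _ _)).trans (Functor.map_zero _ _ _)

/-- The transition maps of `K/I^(N+1) K`. -/
noncomputable abbrev tZ (K : DRing.Cx A) {N M : ℕ} (h : N ≤ M) : Zsys I K M ⟶ Zsys I K N :=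
  DerivedCategory.Q.map ((tenL K).map (s0.map ((adic I).map (homOfLE h).op)))

/-- The transition maps of `L ⊗ A/I^(N+1)`. -/
noncomputable abbrev tX (L : Dual.D A) {N M : ℕ} (h : N ≤ M) :
    (TL L).obj (Qs.obj ((adic I).obj (op M))) ⟶ (TL L).obj (Qs.obj ((adic I).obj (op N))) :=
  (TL L).map (Qs.map ((adic I).map (homOfLE h).op))

omit [IsNoetherianRing A] in
lemma tX_trans (L : Dual.D A) {k N M : ℕ} (h : N ≤ M) (h' : k ≤ N) :
    tX I L h ≫ tX I L h' = tX I L (h'.trans h) := by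
  rw [tX, tX, ← Functor.map_comp, ← Functor.map_comp, ← Functor.map_comp]
  rfl

omit [DTen.HasLTen A] [DTen.HasLTen₃ A] [DTen.IsSymMonoidal A] [DTen.HasRHom A] [IsNoetherianRing A] in
lemma tZ_trans {k N M : ℕ} (h : N ≤ M) (h' : k ≤ N) :
    tZ I K h ≫ tZ I K h' = tZ I K (h'.trans h) := by
  rw [tZ, tZ, ← Functor.map_comp, ← Functor.map_comp, ← Functor.map_comp, ← Functor.map_comp]
  rfl

omit [IsNoetherianRing A] in
lemma aSys_tr {N M : ℕ} (h : N ≤ M) :
    aSys I K M ≫ tZ I K h = tX I (DerivedCategory.Q.obj K) h ≫ aSys I K N :=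
  ((DTen.εLeft A K).naturality (s0.map ((adic I).map (homOfLE h).op))).symm

omit [DTen.HasLTen A] [DTen.HasLTen₃ A] [DTen.IsSymMonoidal A] [DTen.HasRHom A] in
/-- Factoring a map killed on a power of `I` through a quotient. -/
theorem exists_desc_single {P : Dual.D A} (hP : BddKilled I P) (u : Qs.obj (ModuleCat.of A A) ⟶ P) (n : ℕ) :
    ∃ (M : ℕ) (_ : n ≤ M) (γ : Qs.obj ((adic I).obj (op M)) ⟶ P), u = Qs.map (qt I M) ≫ γ := by
  obtain ⟨m₀, hm₀⟩ := exists_pow_Qs I (ModuleCat.of A A) hP u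
  obtain ⟨γ, hγ⟩ := Triangle.yoneda_exact₂ _
    (DerivedCategory.triangleOfSES_distinguished ((qt_shortExact I (max n m₀)).map_of_exact s0)) u (by
      change Qs.map ((powι I (max n m₀ + 1)).app (ModuleCat.of A A)) ≫ u = 0
      rw [← powT_ι I (show m₀ ≤ max n m₀ + 1 by omega), NatTrans.comp_app, Functor.map_comp, Category.assoc,
        hm₀, comp_zero])
  exact ⟨max n m₀, le_max_left _ _, γ, hγ⟩

omit [DTen.HasLTen A] [DTen.HasLTen₃ A] [DTen.IsSymMonoidal A] [DTen.HasRHom A] [IsNoetherianRing A] in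
lemma Qs_hom_ext {N : ℕ} {X : ModuleCat.{u} A}
    {f g : Qs.obj ((adic I).obj (op N)) ⟶ Qs.obj X}
    (h : Qs.map (qt I N) ≫ f = Qs.map (qt I N) ≫ g) : f = g := by
  haveI : (Qs (A := A)).Full := Functor.Full.of_iso
    (DerivedCategory.singleFunctorIsoCompQ (ModuleCat.{u} A) 0)
  haveI : (Qs (A := A)).Faithful := Functor.Faithful.of_iso
    (DerivedCategory.singleFunctorIsoCompQ (ModuleCat.{u} A) 0)
  obtain ⟨f, rfl⟩ := (Qs (A := A)).map_surjective f
  obtain ⟨g, rfl⟩ := (Qs (A := A)).map_surjective g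
  rw [← Functor.map_comp, ← Functor.map_comp] at h
  haveI : Epi (qt I N) := (qt_shortExact I N).epi_g
  rw [(cancel_epi (qt I N)).1 ((Qs (A := A)).map_injective h)]

/-- Factoring a map killed on a power of `I` through a quotient, for complexes. -/
theorem exists_desc_cx {a b : ℤ} (hK : DRing.VanishesOutside K a b) (hf : ∀ i, Module.Finite A (K.X i))
    {Y : Dual.D A} (hY : BddKilled I Y) (e : DerivedCategory.Q.obj K ⟶ Y) (n : ℕ) :
    ∃ (M : ℕ) (_ : n ≤ M) (β : Zsys I K M ⟶ Y), e = DerivedCategory.Q.map (qK I K M) ≫ β := by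
  obtain ⟨m₁, hm₁⟩ := exists_pow_comp_eq_zero I K a b hK hf hY e
  obtain ⟨h0, hSK⟩ := qK_shortExact I K (max n m₁)
  obtain ⟨β, hβ⟩ := Triangle.yoneda_exact₂ _ (DerivedCategory.triangleOfSES_distinguished hSK) e (by
    change DerivedCategory.Q.map ((powCxι I (max n m₁ + 1)).app K) ≫ e = 0
    rw [← powCxT_ι I (show m₁ ≤ max n m₁ + 1 by omega), NatTrans.comp_app, Functor.map_comp, Category.assoc,
      hm₁, comp_zero])
  exact ⟨max n m₁, le_max_left _ _, β, hβ⟩

omit [DTen.HasLTen A] [DTen.HasLTen₃ A] [DTen.IsSymMonoidal A] [DTen.HasRHom A] [IsNoetherianRing A] in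
lemma powCx_step_ι (K : DRing.Cx A) {a m c : ℕ} (h : a + m ≤ c) :
    (((powCxT I h).app K ≫ (powCxAdd I a m).app K) ≫ (powCxι I m).app ((powCx I a).obj K)) ≫
      (powCxι I a).app K = (powCxι I c).app K := by
  have h1 : (powCxAdd I a m).app K ≫ (powCxι I m).app ((powCx I a).obj K) ≫ (powCxι I a).app K =
      (powCxι I (a + m)).app K := NatTrans.congr_app (powCxAdd_ι I a m) K
  have h2 : (powCxT I h).app K ≫ (powCxι I (a + m)).app K = (powCxι I c).app K :=
    NatTrans.congr_app (powCxT_ι I h) K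
  exact (Category.assoc _ _ _).trans ((Category.assoc _ _ _).trans
    ((congrArg ((powCxT I h).app K ≫ ·) h1).trans h2))

/-- Maps `K/I^(M+1) K ⟶ Y` vanishing on `K` vanish further up the system. -/
theorem exists_tZ_comp_eq_zero {a b : ℤ} (hK : DRing.VanishesOutside K a b) (hf : ∀ i, Module.Finite A (K.X i))
    {Y : Dual.D A} (hY : BddKilled I Y) (N : ℕ) (d : Zsys I K N ⟶ Y)
    (hd : DerivedCategory.Q.map (qK I K N) ≫ d = 0) :
    ∃ (M : ℕ) (h : N ≤ M), tZ I K h ≫ d = 0 := by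
  obtain ⟨h0, hS⟩ := qK_shortExact I K N
  obtain ⟨w, hw⟩ := Triangle.yoneda_exact₃ _ (DerivedCategory.triangleOfSES_distinguished hS) d hd
  obtain ⟨m, hm⟩ := exists_pow_comp_eq_zero I ((powCx I (N + 1)).obj K) a b
    (fun q hq => (powF I (N + 1)).map_isZero (hK q hq))
    (fun q => haveI := hf q; finite_powF I (N + 1) (K.X q))
    (Y := Y⟦(-1 : ℤ)⟧) (by
      obtain ⟨a', b', s, hg, hl, hk⟩ := hY
      exact ⟨a' + 1, b' + 1, s, DerivedCategory.TStructure.t.isGE_shift Y a' (-1) (a' + 1),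
        DerivedCategory.TStructure.t.isLE_shift Y b' (-1) (b' + 1), hk.shift (-1)⟩)
    ((shiftFunctorCompIsoId (Dual.D A) (1 : ℤ) (-1) (by omega)).inv.app _ ≫ w⟦(-1 : ℤ)⟧')
  have hz : (DerivedCategory.Q.map ((powCxι I m).app ((powCx I (N + 1)).obj K)))⟦(1 : ℤ)⟧' ≫ w = 0 :=
    shift_comp_eq_zero _ _ hm
  refine ⟨N + m, Nat.le_add_right _ _, ?_⟩
  obtain ⟨h0', hS'⟩ := qK_shortExact I K (N + m)
  let τ : (powCx I (N + m + 1)).obj K ⟶ (powCx I m).obj ((powCx I (N + 1)).obj K) :=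
    (powCxT I (show N + 1 + m ≤ N + m + 1 by omega)).app K ≫ (powCxAdd I (N + 1) m).app K
  let Φ : ShortComplex.mk _ _ h0' ⟶ ShortComplex.mk _ _ h0 :=
    { τ₁ := τ ≫ (powCxι I m).app _
      τ₂ := 𝟙 _
      τ₃ := (tenL K).map (s0.map ((adic I).map (homOfLE (Nat.le_add_right N m)).op))
      comm₁₂ := (powCx_step_ι I K _).trans (Category.comp_id _).symm
      comm₂₃ := (Category.id_comp _).trans (qK_tr I K (Nat.le_add_right N m)).symm }
  have hδ := DerivedCategory.triangleOfSESδ_naturality hS' hS Φ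
  rw [hw]
  change DerivedCategory.Q.map Φ.τ₃ ≫ DerivedCategory.triangleOfSESδ hS ≫ w = 0
  rw [← reassoc_of% hδ]
  change DerivedCategory.triangleOfSESδ hS' ≫
    (DerivedCategory.Q.map (τ ≫ (powCxι I m).app _))⟦(1 : ℤ)⟧' ≫ w = 0
  rw [Functor.map_comp DerivedCategory.Q, Functor.map_comp, Category.assoc, hz, comp_zero, comp_zero]

/-- A candidate inverse, correct on the derived side. -/
theorem exists_back₁ {a b : ℤ} (hK : DRing.VanishesOutside K a b) (hf : ∀ i, Module.Finite A (K.X i)) (n : ℕ) :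
    ∃ (M : ℕ) (h : n ≤ M) (β : Zsys I K M ⟶ Xsys I K n),
      aSys I K M ≫ β = tX I (DerivedCategory.Q.obj K) h ∧
      DerivedCategory.Q.map (qK I K M) ≫ β =
        unitX K ≫ (TL (DerivedCategory.Q.obj K)).map (Qs.map (qt I n)) := by
  haveI : K.IsStrictlyGE a := (CochainComplex.isStrictlyGE_iff K a).2 fun q hq => hK q (Or.inl hq)
  haveI : K.IsStrictlyLE b := (CochainComplex.isStrictlyLE_iff K b).2 fun q hq => hK q (Or.inr hq)
  have hLg : (DerivedCategory.Q.obj K).IsGE a := inferInstance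
  have hLl : (DerivedCategory.Q.obj K).IsLE b := inferInstance
  obtain ⟨P, u, π, hu, hP, hLP⟩ := exists_factorization I (DerivedCategory.Q.obj K) hLg hLl n
  obtain ⟨M₁, hn₁, γ₀, hγ₀⟩ := exists_desc_single I hP u n
  have hγπ : γ₀ ≫ π = Qs.map ((adic I).map (homOfLE hn₁).op) := Qs_hom_ext I (by
    rw [← Category.assoc, ← hγ₀, hu, ← Functor.map_comp, qt_tr])
  obtain ⟨M₂, h₁₂, β₀, hβ₀⟩ :=
    exists_desc_cx I hK hf hLP (unitX K ≫ (TL (DerivedCategory.Q.obj K)).map u) M₁
  let L := DerivedCategory.Q.obj K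
  let γ : (TL (DerivedCategory.Q.obj K)).obj (Qs.obj ((adic I).obj (op M₂))) ⟶
      (DTen.LTen₂ A).obj (DerivedCategory.Q.obj K, P) :=
    tX I (DerivedCategory.Q.obj K) h₁₂ ≫ (TL (DerivedCategory.Q.obj K)).map γ₀
  let α : (TL (DerivedCategory.Q.obj K)).obj (Qs.obj ((adic I).obj (op M₂))) ⟶
      (DTen.LTen₂ A).obj (DerivedCategory.Q.obj K, P) := aSys I K M₂ ≫ β₀
  haveI : IsIso (unitX K) := by
    unfold unitX
    infer_instance
  obtain ⟨M₃, h₂₃, hd⟩ := exists_tr_comp_eq_zero I (DerivedCategory.Q.obj K) hLl hLP M₂ (α - γ) (by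
    rw [Preadditive.comp_sub, sub_eq_zero]
    refine (cancel_epi (unitX K)).1 ?_
    dsimp only [α, γ, tX]
    erw [reassoc_of% (unitX_aSys I K M₂)]
    rw [← hβ₀, ← Functor.map_comp, ← Functor.map_comp,
      ← Category.assoc (Qs.map _), ← Functor.map_comp, qt_tr, ← hγ₀])
  rw [Preadditive.comp_sub, sub_eq_zero] at hd
  let h₁₃ : n ≤ M₃ := (hn₁.trans h₁₂).trans h₂₃
  refine ⟨M₃, h₁₃, tZ I K h₂₃ ≫ β₀ ≫ (TL (DerivedCategory.Q.obj K)).map π, ?_, ?_⟩
  · rw [reassoc_of% (aSys_tr I (K := K) h₂₃)]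
    change tX I (DerivedCategory.Q.obj K) h₂₃ ≫ aSys I K M₂ ≫ β₀ ≫ _ = _
    dsimp only [α] at hd
    erw [reassoc_of% hd]
    dsimp only [γ]
    rw [Category.assoc, ← Functor.map_comp, hγπ]
    change tX I _ h₂₃ ≫ tX I _ h₁₂ ≫ tX I _ hn₁ = _
    rw [tX_trans, tX_trans]
  · rw [← Functor.map_comp_assoc, qK_tr, ← Category.assoc, ← hβ₀, Category.assoc, ← Functor.map_comp, hu]

theorem exists_back {a b : ℤ} (hK : DRing.VanishesOutside K a b) (hf : ∀ i, Module.Finite A (K.X i)) (n : ℕ) :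
    ∃ (M : ℕ) (h : n ≤ M) (β : Zsys I K M ⟶ Xsys I K n),
      aSys I K M ≫ β = tX I (DerivedCategory.Q.obj K) h ∧ β ≫ aSys I K n = tZ I K h := by
  obtain ⟨M₃, h₁₃, β₁, hA, hB⟩ := exists_back₁ I hK hf n
  obtain ⟨M, h₃, hz⟩ := exists_tZ_comp_eq_zero I hK hf (bddKilled_Zsys I hK n) M₃
    (β₁ ≫ aSys I K n - tZ I K h₁₃) (by
      rw [Preadditive.comp_sub, sub_eq_zero, reassoc_of% hB]
      erw [unitX_aSys]
      rw [← Functor.map_comp, qK_tr])
  rw [Preadditive.comp_sub, sub_eq_zero] at hz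
  refine ⟨M, h₁₃.trans h₃, tZ I K h₃ ≫ β₁, ?_, ?_⟩
  · rw [reassoc_of% (aSys_tr I (K := K) h₃), hA, tX_trans]
  · rw [Category.assoc, hz, tZ_trans]

omit [DTen.HasRHom A] [IsNoetherianRing A] in
lemma isIso_symmUnit (L : Dual.D A) :
    IsIso ((DTen.symm A).app (Qs.obj (ModuleCat.of A A), L) ≫ (DTen.unitL A).app L) := by
  haveI : IsIso ((DTen.symm A).app (Qs.obj (ModuleCat.of A A), L)) := inferInstance
  haveI : IsIso ((DTen.unitL A).app L) := inferInstance
  exact IsIso.comp_isIso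

/-- For a finite module, `I ^ n • M ⟶ M` factors through `I ⊗ M ⟶ M`. -/
theorem exists_pow_factor (M : ModuleCat.{u} A) [Module.Finite A M] :
    ∃ (n : ℕ) (_ : 0 < n) (g : Qs.obj ((powF I n).obj M) ⟶
        (DTen.LTen₂ A).obj (Qs.obj (ModuleCat.of A ↥I), Qs.obj M)),
      g ≫ (DTen.LTen₂ A).map (Prod.mkHom (Qs.map (ModuleCat.ofHom I.subtype)) (𝟙 _)) ≫
          (DTen.unitL A).app (Qs.obj M) = Qs.map ((powι I n).app M) := by
  haveI hge : DerivedCategory.TStructure.t.IsGE (Qs.obj M) 0 :=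
    DerivedCategory.TStructure.t.isGE_of_iso
      ((DerivedCategory.singleFunctorIsoCompQ (ModuleCat.{u} A) 0).app M) 0
  haveI hle : DerivedCategory.TStructure.t.IsLE (Qs.obj M) 0 :=
    DerivedCategory.TStructure.t.isLE_of_iso
      ((DerivedCategory.singleFunctorIsoCompQ (ModuleCat.{u} A) 0).app M) 0
  haveI := isIso_symmUnit (A := A) (Qs.obj M)
  obtain ⟨P, u, π, hu, hP, hLP⟩ := exists_factorization I (Qs.obj M) hge hle 0
  let e₀ : Qs.obj M ⟶ (TL (Qs.obj M)).obj (Qs.obj (ModuleCat.of A A)) :=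
    inv ((DTen.symm A).app (Qs.obj (ModuleCat.of A A), Qs.obj M) ≫ (DTen.unitL A).app (Qs.obj M))
  obtain ⟨m, hm⟩ := exists_pow_Qs I M hLP (e₀ ≫ (TL (Qs.obj M)).map u)
  let S₁ : ShortComplex (ModuleCat.{u} A) := ShortComplex.mk (X₁ := ModuleCat.of A ↥I)
    (ModuleCat.ofHom (X := ↥I) (Y := A) I.subtype) (qt I 0)
    (ModuleCat.hom_ext (LinearMap.ext fun (x : I) => (Submodule.Quotient.mk_eq_zero _).2
      (by rw [zero_add, pow_one]; exact (Ideal.mul_top I).ge x.2)))
  have hS₁ : S₁.ShortExact :=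
    { exact := (ShortComplex.ShortExact.moduleCat_exact_iff_function_exact _).2 fun x =>
        ⟨fun hx => ⟨⟨x, by
            have h := (Submodule.Quotient.mk_eq_zero _).1 hx
            rw [zero_add, pow_one] at h
            exact (Ideal.mul_top I).le h⟩, rfl⟩,
          by
            rintro ⟨y, rfl⟩
            refine (Submodule.Quotient.mk_eq_zero _).2 ?_
            rw [zero_add, pow_one]
            exact (Ideal.mul_top I).ge y.2⟩
      mono_f := (ModuleCat.mono_iff_injective _).2 Subtype.val_injective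
      epi_g := (ModuleCat.epi_iff_surjective _).2 (Submodule.mkQ_surjective _) }
  have hx : (Qs.map ((powι I (max 1 m)).app M) ≫ e₀) ≫ (TL (Qs.obj M)).map (Qs.map (qt I 0)) = 0 := by
    rw [← powT_ι I (le_max_right 1 m), NatTrans.comp_app, Functor.map_comp, ← hu, Functor.map_comp,
      Category.assoc, Category.assoc]
    erw [reassoc_of% hm]
    simp
  obtain ⟨g', hg'⟩ := Dev.exists_lift_map (leftAdj (Qs.obj M)) _
    (DerivedCategory.triangleOfSES_distinguished (hS₁.map_of_exact s0)) _ hx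
  refine ⟨max 1 m, lt_of_lt_of_le Nat.one_pos (le_max_left 1 m),
    g' ≫ (DTen.symm A).app (Qs.obj (ModuleCat.of A ↥I), Qs.obj M), ?_⟩
  have hn : (TL (Qs.obj M)).map (Qs.map (ModuleCat.ofHom I.subtype)) ≫
      (DTen.symm A).app (Qs.obj (ModuleCat.of A A), Qs.obj M) =
      (DTen.symm A).app (Qs.obj (ModuleCat.of A ↥I), Qs.obj M) ≫
        (DTen.LTen₂ A).map (Prod.mkHom (Qs.map (ModuleCat.ofHom I.subtype)) (𝟙 _)) :=
    (DTen.symm A).naturality
      (X := (Qs.obj (ModuleCat.of A ↥I), Qs.obj M)) (Y := (Qs.obj (ModuleCat.of A A), Qs.obj M))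
      (Prod.mkHom (Qs.map (ModuleCat.ofHom I.subtype)) (𝟙 _))
  replace hg' : g' ≫ (TL (Qs.obj M)).map (Qs.map (ModuleCat.ofHom I.subtype)) =
      Qs.map ((powι I (max 1 m)).app M) ≫ e₀ := hg'
  refine (Category.assoc _ _ _).trans ((congrArg (g' ≫ ·) ((Category.assoc _ _ _).symm.trans
    ((congrArg (· ≫ _) hn.symm).trans (Category.assoc _ _ _)))).trans ?_)
  refine (Category.assoc _ _ _).symm.trans ((congrArg (· ≫ _) hg').trans ((Category.assoc _ _ _).trans ?_))
  exact (congrArg (Qs.map ((powι I (max 1 m)).app M) ≫ ·) (IsIso.inv_hom_id _)).trans (Category.comp_id _)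

/-- The comparison is a pro-isomorphism. -/
theorem isProIso_εLeft {a b : ℤ} (hK : DRing.VanishesOutside K a b) (hf : ∀ i, Module.Finite A (K.X i)) :
    DerCA.IsProIso (Functor.whiskerLeft (adic I ⋙ s0) (DTen.εLeft A K)) := fun n => by
  obtain ⟨M, h, β, h1, h2⟩ := exists_back I hK hf n
  exact ⟨M, h, β, h1, h2⟩

end Main

end Groth.Agent.H25DTen
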