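import Groth.Agent.H25DTen.Generate
import Groth.Agent.H25DTen.EvalTen
import Groth.Agent.H16Derived.QCoprod
import Groth.Agent.H16Derived.Compact
import Mathlib

/-!
# Finitely supported maps into coproducts, and comparison of coproduct-preserving functors on `D(A)`
-/

set_option autoImplicit false

universe u

open CategoryTheory CategoryTheory.Limits MonoidalCategory Pretriangulated Opposite

attribute [local instance] HasDerivedCategory.standard

namespace Groth.Agent.H25DTen

open Groth.Agent.H16Derived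

variable {A : Type u} [CommRing A]

/-- Every map from `Z` to a coproduct of complexes is supported on finitely many summands. -/
def FiniteSupport (Z : Dual.D A) : Prop :=
  ∀ (ι : Type u) (K : ι → DRing.Cx A) (f : Z ⟶ DerivedCategory.Q.obj (∐ K)),
    ∃ s : Finset ι, f ≫ DerivedCategory.Q.map (𝟙 _ - Compact.idem K s) = 0

open Classical in
lemma exists_idem_eq {ι : Type u} (M : ι → ModuleCat.{u} A) (x : (∐ M : ModuleCat.{u} A)) :
    ∃ s : Finset ι, Compact.idem M s x = x := by
  let e := ModuleCat.coprodIsoDirectSum M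
  have mono : ∀ (s t : Finset ι) (y : (∐ M : ModuleCat.{u} A)), s ⊆ t →
      Compact.idem M s y = y → Compact.idem M t y = y := by
    intro s t y hst hy
    have h : Compact.idem M s ≫ Compact.idem M t = Compact.idem M s := by
      refine Sigma.hom_ext _ _ fun k => ?_
      rw [← Category.assoc, Compact.ι_idem]
      split_ifs with hk
      · rw [Compact.ι_idem, if_pos (hst hk)]
      · rw [zero_comp]
    rw [← hy, ← ConcreteCategory.comp_apply, h]
  obtain ⟨y, rfl⟩ := e.toLinearEquiv.symm.surjective x
  induction y using DirectSum.induction_on with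
  | zero => exact ⟨∅, by simp⟩
  | of i m =>
    refine ⟨{i}, ?_⟩
    have h1 : e.toLinearEquiv.symm (DirectSum.of (fun i => M i) i m) = Sigma.ι M i m :=
      ConcreteCategory.congr_hom (ModuleCat.lof_coprodIsoDirectSum_inv M i) m
    rw [h1, ← ConcreteCategory.comp_apply, Compact.ι_idem, if_pos (Finset.mem_singleton_self i)]
  | add a b ha hb =>
    obtain ⟨s, hs⟩ := ha
    obtain ⟨t, ht⟩ := hb
    refine ⟨s ∪ t, ?_⟩
    rw [map_add, map_add, mono s _ _ Finset.subset_union_left hs, mono t _ _ Finset.subset_union_right ht]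

lemma finiteSupport_single_zero (k : ℤ) :
    FiniteSupport (DerivedCategory.Q.obj
      ((HomologicalComplex.single (ModuleCat.{u} A) (ComplexShape.up ℤ) k).obj (ModuleCat.of A A))) := by
  classical
  intro ι K f
  let E : DRing.Cx A := (HomologicalComplex.single (ModuleCat.{u} A) (ComplexShape.up ℤ) k).obj (ModuleCat.of A A)
  haveI : E.IsStrictlyLE k := (CochainComplex.isStrictlyLE_iff E k).2 fun q hq =>
    HomologicalComplex.isZero_single_obj_X (ComplexShape.up ℤ) k _ q (by omega)
  haveI : ∀ n, CategoryTheory.Projective (E.X n) := fun n => by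
    by_cases hn : n = k
    · subst hn
      haveI : CategoryTheory.Projective (ModuleCat.of A A) :=
        (IsProjective.iff_projective A).1 inferInstance
      exact Projective.of_iso (HomologicalComplex.singleObjXSelf (ComplexShape.up ℤ) n _).symm inferInstance
    · haveI := ModuleCat.subsingleton_of_isZero
        (HomologicalComplex.isZero_single_obj_X (ComplexShape.up ℤ) k (ModuleCat.of A A) n hn)
      exact (IsProjective.iff_projective (E.X n)).1 inferInstance
  haveI := CochainComplex.isKProjective_of_projective E k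
  obtain ⟨g', hg'⟩ := (CochainComplex.IsKProjective.Qh_map_bijective E
    ((HomotopyCategory.quotient _ _).obj (∐ K))).2
      ((DerivedCategory.quotientCompQhIso _).hom.app E ≫ f ≫ (DerivedCategory.quotientCompQhIso _).inv.app _)
  obtain ⟨g, rfl⟩ := (HomotopyCategory.quotient _ _).map_surjective g'
  have hf : f = DerivedCategory.Q.map g := by
    rw [← cancel_epi ((DerivedCategory.quotientCompQhIso _).hom.app E),
      ← DerivedCategory.quotientCompQhIso_hom_naturality, hg', Category.assoc, Category.assoc,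
      Iso.inv_hom_id_app]
    exact congrArg (_ ≫ ·) (Category.comp_id _).symm
  let ev := HomologicalComplex.eval (ModuleCat.{u} A) (ComplexShape.up ℤ) k
  let c := sigmaComparison ev K
  haveI : IsIso c := by
    exact (PreservesCoproduct.iso ev K).isIso_inv
  let one := (HomologicalComplex.singleObjXSelf (ComplexShape.up ℤ) k (ModuleCat.of A A)).inv (1 : A)
  obtain ⟨s, hs⟩ := exists_idem_eq (fun i => (K i).X k) (inv c (g.f k one))
  refine ⟨s, ?_⟩
  have hcomm : c ≫ (Compact.idem K s).f k = Compact.idem (fun i => (K i).X k) s ≫ c := by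
    refine Sigma.hom_ext _ _ fun i => ?_
    refine ((Category.assoc _ _ _).symm.trans (congrArg (· ≫ _) (ι_comp_sigmaComparison ev K i))).trans ?_
    refine Eq.trans ?_ (Category.assoc _ _ _)
    erw [Compact.ι_idem]
    change (Sigma.ι K i).f k ≫ _ = _
    rw [← HomologicalComplex.comp_f, Compact.ι_idem]
    split_ifs with hi
    · exact (ι_comp_sigmaComparison ev K i).symm
    · exact zero_comp.symm
  have hzero : g ≫ (𝟙 _ - Compact.idem K s) = 0 := by
    refine HomologicalComplex.from_single_hom_ext ?_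
    rw [← cancel_epi (HomologicalComplex.singleObjXSelf (ComplexShape.up ℤ) k (ModuleCat.of A A)).inv]
    refine ModuleCat.hom_ext (LinearMap.ext_ring ?_)
    have hy : c (inv c (g.f k one)) = g.f k one := by
      rw [← ConcreteCategory.comp_apply, IsIso.inv_hom_id, ConcreteCategory.id_apply]
    have key : (Compact.idem K s).f k (g.f k one) = g.f k one := by
      conv_lhs => rw [← hy]
      erw [← ConcreteCategory.comp_apply, hcomm, ConcreteCategory.comp_apply, hs]
      exact hy
    simp only [Preadditive.comp_sub, Category.comp_id, HomologicalComplex.sub_f_apply,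
      HomologicalComplex.comp_f, HomologicalComplex.zero_f, comp_zero]
    simp only [Preadditive.comp_sub, ModuleCat.hom_sub, LinearMap.sub_apply, ModuleCat.hom_zero,
      LinearMap.zero_apply, ModuleCat.hom_comp, LinearMap.comp_apply]
    exact sub_eq_zero.2 key.symm
  rw [hf, ← Functor.map_comp, hzero, Functor.map_zero]

lemma FiniteSupport.of_retract {Z Z' : Dual.D A} (i : Z ⟶ Z') (r : Z' ⟶ Z) (h : i ≫ r = 𝟙 Z)
    (hZ : FiniteSupport Z') : FiniteSupport Z := fun ι K f => by
  obtain ⟨s, hs⟩ := hZ ι K (r ≫ f)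
  refine ⟨s, ?_⟩
  rw [Category.assoc] at hs
  rw [← Category.id_comp f, ← h, Category.assoc, Category.assoc, hs, comp_zero]

lemma finiteSupport_S (k : ℤ) : FiniteSupport (S A k) :=
  let e : S A k ≅ DerivedCategory.Q.obj
      ((HomologicalComplex.single (ModuleCat.{u} A) (ComplexShape.up ℤ) (-k)).obj (ModuleCat.of A A)) :=
    DerivedCategory.Q.mapIso (eqToIso (by rw [neg_neg]) ≪≫ (singleUnitIso (A := A) (-k)).symm)
  FiniteSupport.of_retract e.hom e.inv e.hom_inv_id (finiteSupport_single_zero (-k))

lemma finiteSupport_ext (T : Triangle (Dual.D A)) (hT : T ∈ (distTriang _))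
    (h₁ : FiniteSupport T.obj₁) (h₃ : FiniteSupport T.obj₃) : FiniteSupport T.obj₂ := by
  classical
  intro ι K f
  obtain ⟨s, hs⟩ := h₁ ι K (T.mor₁ ≫ f)
  obtain ⟨γ, hγ⟩ := Triangle.yoneda_exact₂ T hT (f ≫ DerivedCategory.Q.map (𝟙 _ - Compact.idem K s))
    (by rw [← Category.assoc]; exact hs)
  obtain ⟨t, ht⟩ := h₃ ι K γ
  refine ⟨s ∪ t, ?_⟩
  rw [← Compact.idem_union, Functor.map_comp, reassoc_of% hγ, ht, comp_zero]

theorem finiteSupport_of_isPerfect {Z : Dual.D A} (hZ : DRing.IsPerfect A Z) : FiniteSupport Z :=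
  perfect_induction _ (fun i r h h' => FiniteSupport.of_retract i r h h') finiteSupport_ext
    finiteSupport_S hZ

variable {B : Type u} [CommRing B]

/-- A left adjoint functor also has finitely supported maps out of such objects. -/
theorem exists_support {G : Dual.D A ⥤ Dual.D B} {G' : Dual.D B ⥤ Dual.D A} (adj : G ⊣ G')
    {Z : Dual.D B} (hZ : FiniteSupport Z) {ι : Type u} (K : ι → DRing.Cx A)
    (f : Z ⟶ G.obj (DerivedCategory.Q.obj (∐ K))) :
    ∃ s : Finset ι, f ≫ G.map (DerivedCategory.Q.map (𝟙 _ - Compact.idem K s)) = 0 := by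
  classical
  haveI : G.IsLeftAdjoint := adj.isLeftAdjoint
  haveI : G'.IsRightAdjoint := adj.isRightAdjoint
  haveI : G'.Additive := Functor.additive_of_preserves_binary_products _
  haveI : G.Additive := adj.left_adjoint_additive
  have hN : ∀ i, ∃ N, Nonempty (DerivedCategory.Q.obj N ≅ G.obj (DerivedCategory.Q.obj (K i))) := fun i => by
    obtain ⟨N, e⟩ := Localization.essSurj DerivedCategory.Q (DTen.qis B) |>.mem_essImage
      (G.obj (DerivedCategory.Q.obj (K i)))
    exact ⟨N, e⟩
  choose N e using hN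
  haveI := Groth.Agent.H16Derived.QCoprod.preservesColimit_Q K
  haveI := Groth.Agent.H16Derived.QCoprod.preservesColimit_Q N
  let cA : IsColimit (Cofan.mk (G.obj (DerivedCategory.Q.obj (∐ K)))
      fun i => G.map (DerivedCategory.Q.map (Sigma.ι K i))) :=
    isColimitCofanMkObjOfIsColimit G _ _
      (isColimitCofanMkObjOfIsColimit DerivedCategory.Q _ _ (coproductIsCoproduct K))
  let cB : IsColimit (Cofan.mk (DerivedCategory.Q.obj (∐ N)) fun i => DerivedCategory.Q.map (Sigma.ι N i)) :=
    isColimitCofanMkObjOfIsColimit DerivedCategory.Q _ _ (coproductIsCoproduct N)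
  let θ : G.obj (DerivedCategory.Q.obj (∐ K)) ⟶ DerivedCategory.Q.obj (∐ N) :=
    Cofan.IsColimit.desc cA fun i => (e i).some.inv ≫ DerivedCategory.Q.map (Sigma.ι N i)
  let θ' : DerivedCategory.Q.obj (∐ N) ⟶ G.obj (DerivedCategory.Q.obj (∐ K)) :=
    Cofan.IsColimit.desc cB fun i => (e i).some.hom ≫ G.map (DerivedCategory.Q.map (Sigma.ι K i))
  have fA : ∀ i, G.map (DerivedCategory.Q.map (Sigma.ι K i)) ≫ θ =
      (e i).some.inv ≫ DerivedCategory.Q.map (Sigma.ι N i) := fun i => Cofan.IsColimit.fac cA _ i
  have fB : ∀ i, DerivedCategory.Q.map (Sigma.ι N i) ≫ θ' =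
      (e i).some.hom ≫ G.map (DerivedCategory.Q.map (Sigma.ι K i)) := fun i => Cofan.IsColimit.fac cB _ i
  have hθ : θ ≫ θ' = 𝟙 _ := Cofan.IsColimit.hom_ext cA _ _ fun i => by
    dsimp
    rw [reassoc_of% fA i, fB i, Iso.inv_hom_id_assoc, Category.comp_id]
  obtain ⟨s, hs⟩ := hZ ι N (f ≫ θ)
  refine ⟨s, ?_⟩
  have hc : G.map (DerivedCategory.Q.map (𝟙 _ - Compact.idem K s)) =
      θ ≫ DerivedCategory.Q.map (𝟙 _ - Compact.idem N s) ≫ θ' := Cofan.IsColimit.hom_ext cA _ _ fun i => by
    dsimp
    rw [← Functor.map_comp, ← Functor.map_comp, reassoc_of% fA i, ← Functor.map_comp_assoc]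
    simp only [Preadditive.comp_sub, Category.comp_id, Compact.ι_idem]
    split_ifs
    · simp
    · rw [sub_zero, sub_zero, fB i, Iso.inv_hom_id_assoc]
  rw [hc, ← Category.assoc f θ, ← Category.assoc, hs, zero_comp]

variable {C : Type u} [CommRing C]

section Compare

variable {G : Dual.D A ⥤ Dual.D B} {G' : Dual.D B ⥤ Dual.D A} (adj : G ⊣ G')
  {H : Dual.D A ⥤ Dual.D C} {H' : Dual.D C ⥤ Dual.D A} (adjH : H ⊣ H')
  {Z : Dual.D B} (hZ : FiniteSupport Z) {W : Dual.D C} (hW : FiniteSupport W)
  (η : G ⋙ preadditiveCoyoneda.obj (op Z) ⟶ H ⋙ preadditiveCoyoneda.obj (op W))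

include adj adjH hZ hW in
theorem bijective_coprod {ι : Type u} (K : ι → DRing.Cx A)
    (h : ∀ i, Function.Bijective (η.app (DerivedCategory.Q.obj (K i)))) :
    Function.Bijective (η.app (DerivedCategory.Q.obj (∐ K))) := by
  classical
  haveI : G.IsLeftAdjoint := adj.isLeftAdjoint
  haveI : H.IsLeftAdjoint := adjH.isLeftAdjoint
  haveI : G'.IsRightAdjoint := adj.isRightAdjoint
  haveI : H'.IsRightAdjoint := adjH.isRightAdjoint
  haveI : G'.Additive := Functor.additive_of_preserves_binary_products _
  haveI : H'.Additive := Functor.additive_of_preserves_binary_products _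
  haveI : G.Additive := adj.left_adjoint_additive
  haveI : H.Additive := adjH.left_adjoint_additive
  let p (i : ι) := DerivedCategory.Q.map (Compact.proj K i)
  let j (i : ι) := DerivedCategory.Q.map (Sigma.ι K i)
  have nat : ∀ {X Y : Dual.D A} (g : X ⟶ Y) (x : Z ⟶ G.obj X),
      η.app Y (x ≫ G.map g) = η.app X x ≫ H.map g := fun g x => NatTrans.naturality_apply η g x
  have dec : ∀ s : Finset ι, DerivedCategory.Q.map (𝟙 _ - Compact.idem K s) =
      𝟙 _ - ∑ i ∈ s, p i ≫ j i := fun s => by
    rw [Functor.map_sub, CategoryTheory.Functor.map_id, Compact.idem, Functor.map_sum]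
    simp only [Functor.map_comp, p, j]
  constructor
  · rw [injective_iff_map_eq_zero]
    intro (x : Z ⟶ G.obj _) hx
    obtain ⟨s, hs⟩ := exists_support adj hZ K x
    rw [dec, Functor.map_sub, CategoryTheory.Functor.map_id, Functor.map_sum, Preadditive.comp_sub,
      Preadditive.comp_sum] at hs
    erw [Category.comp_id, sub_eq_zero] at hs
    rw [hs]
    refine Finset.sum_eq_zero fun i _ => ?_
    have h0 : x ≫ G.map (p i) = 0 := (h i).1 (by
      rw [nat (p i) x, hx]
      exact zero_comp.trans (map_zero _).symm)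
    rw [Functor.map_comp, reassoc_of% h0]
    exact zero_comp
  · intro (y : W ⟶ H.obj _)
    obtain ⟨s, hs⟩ := exists_support adjH hW K y
    choose x hx using fun i => (h i).2 (y ≫ H.map (p i))
    refine ⟨∑ i ∈ s, (show Z ⟶ G.obj _ from x i) ≫ G.map (j i), ?_⟩
    rw [dec, Functor.map_sub, CategoryTheory.Functor.map_id, Functor.map_sum, Preadditive.comp_sub,
      Preadditive.comp_sum] at hs
    erw [Category.comp_id, sub_eq_zero] at hs
    refine (map_sum (η.app _).hom _ s).trans (Eq.trans ?_ hs.symm)
    refine Finset.sum_congr rfl fun i _ => ?_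
    rw [Functor.map_comp, ← Category.assoc]
    exact (nat (j i) (x i)).trans (congrArg (· ≫ H.map (j i)) (hx i))

include adj adjH hZ hW in
/-- A comparison of coproduct preserving functors which is bijective at the shifts of the unit is bijective
everywhere. -/
theorem bijective_all (h : ∀ k : ℤ, Function.Bijective (η.app (S A k))) (X : Dual.D A) :
    Function.Bijective (η.app X) := by
  haveI : G.IsLeftAdjoint := adj.isLeftAdjoint
  haveI : H.IsLeftAdjoint := adjH.isLeftAdjoint
  have hs : Dev.IsExact (G ⋙ preadditiveCoyoneda.obj (op Z)) := fun T hT x =>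
    ⟨fun hx => Dev.exists_lift_map adj T hT x hx, by
      rintro ⟨y, rfl⟩
      change (y ≫ G.map T.mor₁) ≫ G.map T.mor₂ = 0
      rw [Category.assoc, ← Functor.map_comp, comp_distTriang_mor_zero₁₂ _ hT, Functor.map_zero,
        comp_zero]⟩
  have ht : Dev.IsExact (H ⋙ preadditiveCoyoneda.obj (op W)) := fun T hT x =>
    ⟨fun hx => Dev.exists_lift_map adjH T hT x hx, by
      rintro ⟨y, rfl⟩
      change (y ≫ H.map T.mor₁) ≫ H.map T.mor₂ = 0
      rw [Category.assoc, ← Functor.map_comp, comp_distTriang_mor_zero₁₂ _ hT, Functor.map_zero,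
        comp_zero]⟩
  have key : ∀ Y n, Function.Bijective (η.app ((shiftFunctor (Dual.D A) (n : ℤ)).obj Y)) := by
    intro Y
    refine localizing_induction (fun Y => ∀ n : ℤ, Function.Bijective (η.app (Y⟦n⟧))) ?_ ?_ ?_ ?_ Y
    · intro K L i r hir h' n
      exact bijective_of_retract η (i⟦n⟧') (r⟦n⟧')
        (by rw [← Functor.map_comp, hir, CategoryTheory.Functor.map_id]) (h' n)
    · exact fun T hT h₁ h₃ n => Dev.bijective_shift_ext η hs ht T hT h₁ h₃ n
    · intro ι K hK n
      let eQ := (DerivedCategory.Q (C := ModuleCat.{u} A)).commShiftIso n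
      let e := (eQ.app (∐ K)).symm ≪≫ DerivedCategory.Q.mapIso
        (PreservesCoproduct.iso (shiftFunctor (DRing.Cx A) n) K)
      exact bijective_of_retract η e.hom e.inv e.hom_inv_id
        (bijective_coprod adj adjH hZ hW η _ fun i =>
          bijective_of_retract η (eQ.app (K i)).hom (eQ.app (K i)).inv (Iso.hom_inv_id _) (hK i n))
    · intro k n
      exact bijective_of_retract η (shiftSIso k n).hom (shiftSIso k n).inv (Iso.hom_inv_id _) (h (k + n))
  exact bijective_of_retract η ((shiftFunctorZero (Dual.D A) ℤ).inv.app X)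
    ((shiftFunctorZero (Dual.D A) ℤ).hom.app X) (Iso.inv_hom_id_app _ _) (key X 0)

end Compare

end Groth.Agent.H25DTen
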