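import Groth.Agent.H25DTen.BcRHom
import Groth.Agent.H16Derived.KFlat.Colim
import Groth.Agent.H16Derived.KInjRes.Main
import Mathlib

/-!
# `RHom` exists on `D(A)`

For `K` K-flat, `K ⊗ -` has a right adjoint on complexes which preserves K-injective complexes.
-/

set_option autoImplicit false
set_option backward.isDefEq.respectTransparency false

universe u

open CategoryTheory CategoryTheory.Limits MonoidalCategory Pretriangulated Opposite

attribute [local instance] HasDerivedCategory.standard

namespace Groth.Agent.H25DTen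

open Groth.Agent.H16Derived

variable {A : Type u} [CommRing A]

/-- `K ⊗ -` on complexes. -/
noncomputable abbrev tenL (K : DRing.Cx A) : DRing.Cx A ⥤ DRing.Cx A := KFlat.tot (TT A) K

instance isLeftAdjoint_tenL (K : DRing.Cx A) : (tenL K).IsLeftAdjoint := by
  haveI : ∀ (J : Type u) [Category.{u} J], PreservesColimitsOfShape J (tenL K) := fun J _ => by
    haveI : ∀ a : ModuleCat.{u} A, PreservesColimitsOfShape J ((TT A).obj a) := fun a => inferInstance
    exact ⟨fun {D} => ⟨fun {c} hc => ⟨KFlat.isColimitTot (F := TT A) K hc⟩⟩⟩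
  haveI : PreservesColimitsOfSize.{u, u} (tenL K) := ⟨fun {J} _ => this J⟩
  exact isLeftAdjoint_of_preservesColimits_of_isSeparating (isSeparator_separator (DRing.Cx A)) _

/-- The cone of an identity is contractible. -/
lemma nonempty_homotopy_cone_id (X : DRing.Cx A) :
    Nonempty (Homotopy (𝟙 (CochainComplex.mappingCone (𝟙 X))) 0) := by
  let q := HomotopyCategory.quotient (ModuleCat.{u} A) (ComplexShape.up ℤ)
  haveI : IsIso (CochainComplex.mappingCone.triangleh (𝟙 X)).mor₁ := inferInstanceAs (IsIso (q.map (𝟙 X)))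
  have h : IsZero (q.obj (CochainComplex.mappingCone (𝟙 X))) :=
    Triangle.isZero₃_of_isIso₁ _ (HomotopyCategory.mappingCone_triangleh_distinguished (𝟙 X)) this
  exact ⟨HomotopyCategory.homotopyOfEq _ _ (h.eq_of_src _ _)⟩

variable (K : DRing.Cx A) {X I : DRing.Cx A}

/-- The retraction of `K ⊗ (X ⟶ cone 𝟙)` in each degree. -/
noncomputable def tenRetr (X : DRing.Cx A) (n : ℤ) :
    ((tenL K).obj (CochainComplex.mappingCone (𝟙 X))).X n ⟶ ((tenL K).obj X).X n :=
  HomologicalComplex.mapBifunctorDesc fun p q h =>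
    ((TT A).obj (K.X p)).map ((CochainComplex.mappingCone.snd (𝟙 X)).v q q (add_zero q)) ≫
      HomologicalComplex.ιMapBifunctor K X (TT A) (ComplexShape.up ℤ) p q n h

lemma tenRetr_spec (X : DRing.Cx A) (n : ℤ) :
    ((tenL K).map (CochainComplex.mappingCone.inr (𝟙 X))).f n ≫ tenRetr K X n = 𝟙 _ := by
  refine HomologicalComplex.mapBifunctor.hom_ext fun p q h => ?_
  erw [reassoc_of% (KFlat.ι_tot_map (F := TT A) K (CochainComplex.mappingCone.inr (𝟙 X)) p q n h),
    HomologicalComplex.ι_mapBifunctorDesc]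
  rw [← Category.assoc, ← Functor.map_comp, CochainComplex.mappingCone.inr_f_snd_v,
    CategoryTheory.Functor.map_id, Category.id_comp]
  exact (Category.comp_id _).symm

/-- The adjunction `K ⊗ - ⊣ ihom K`. -/
noncomputable abbrev tenAdj : tenL K ⊣ (tenL K).rightAdjoint := Adjunction.ofIsLeftAdjoint _

/-- Being null-homotopic is invariant under the adjunction. -/
theorem nonempty_homotopy_homEquiv (f : X ⟶ (tenL K).rightAdjoint.obj I) :
    Nonempty (Homotopy f 0) ↔ Nonempty (Homotopy (((tenAdj K).homEquiv _ _).symm f) 0) := by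
  constructor
  · rintro ⟨h⟩
    haveI : (tenL K).Additive := inferInstance
    have h' : Homotopy ((tenL K).map f) ((tenL K).map 0) :=
      HomologicalComplex.mapBifunctorMapHomotopy₂ (𝟙 K) h (TT A) (ComplexShape.up ℤ)
    rw [Adjunction.homEquiv_counit]
    exact ⟨(h'.compRight _).trans (Homotopy.ofEq (by rw [Functor.map_zero, zero_comp]))⟩
  · rintro ⟨h⟩
    let i := CochainComplex.mappingCone.inr (𝟙 X)
    let hm : ∀ a b, (ComplexShape.up ℤ).Rel b a →
        (((tenL K).obj (CochainComplex.mappingCone (𝟙 X))).X a ⟶ I.X b) :=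
      fun a b _ => tenRetr K X a ≫ h.hom a b
    let m := Homotopy.nullHomotopicMap' hm
    have hfac : (tenL K).map i ≫ m = ((tenAdj K).homEquiv _ _).symm f := by
      rw [Homotopy.comp_nullHomotopicMap']
      refine HomologicalComplex.hom_ext _ _ fun n => ?_
      rw [Homotopy.nullHomotopicMap'_f (show (ComplexShape.up ℤ).Rel (n - 1) n from sub_add_cancel n 1)
        (show (ComplexShape.up ℤ).Rel n (n + 1) from rfl)]
      have hn := h.comm n
      rw [dNext_eq _ (show (ComplexShape.up ℤ).Rel n (n + 1) from rfl),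
        prevD_eq _ (show (ComplexShape.up ℤ).Rel (n - 1) n from sub_add_cancel n 1),
        HomologicalComplex.zero_f, add_zero] at hn
      rw [hn]
      simp only [hm, ← Category.assoc, i, tenRetr_spec]
      simp
    obtain ⟨hc⟩ := nonempty_homotopy_cone_id X
    have hf : f = i ≫ (tenAdj K).homEquiv _ _ m := by
      rw [← Adjunction.homEquiv_naturality_left, hfac, Equiv.apply_symm_apply]
    rw [hf]
    exact ⟨(Homotopy.ofEq (by rw [Category.id_comp])).trans
      (((hc.compRight _).compLeft i).trans (Homotopy.ofEq (by rw [zero_comp, comp_zero])))⟩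

variable [I.IsKInjective]

/-- `ihom K I` is K-injective. -/
theorem isKInjective_ihom (hK : KFlat.IsKFlat (TT A) K) :
    ((tenL K).rightAdjoint.obj I).IsKInjective where
  nonempty_homotopy_zero {W} f hW :=
    (nonempty_homotopy_homEquiv K f).2 (CochainComplex.IsKInjective.nonempty_homotopy_zero _
      (KFlat.acyclic_tot_of_isKFlat_flip ((isKFlat_flip_iff K).2 hK) hW))

omit K in
lemma Q_map_surjective {X : DRing.Cx A} (g : DerivedCategory.Q.obj X ⟶ DerivedCategory.Q.obj I) :
    ∃ m : X ⟶ I, DerivedCategory.Q.map m = g := by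
  obtain ⟨ψ', hψ'⟩ := (CochainComplex.IsKInjective.Qh_map_bijective
      ((HomotopyCategory.quotient _ _).obj X) I).2
    ((DerivedCategory.quotientCompQhIso _).hom.app X ≫ g ≫
      (DerivedCategory.quotientCompQhIso _).inv.app I)
  obtain ⟨ψ, rfl⟩ := (HomotopyCategory.quotient _ _).map_surjective ψ'
  exact ⟨ψ, by
    rw [← cancel_epi ((DerivedCategory.quotientCompQhIso _).hom.app X),
      ← DerivedCategory.quotientCompQhIso_hom_naturality, hψ', Category.assoc, Category.assoc,
      Iso.inv_hom_id_app]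
    exact congrArg (_ ≫ ·) (Category.comp_id _)⟩

omit K in
lemma Q_map_eq_zero_iff {X : DRing.Cx A} (m : X ⟶ I) :
    DerivedCategory.Q.map m = 0 ↔ Nonempty (Homotopy m 0) := by
  constructor
  · intro e
    refine ⟨HomotopyCategory.homotopyOfEq _ _ ((CochainComplex.IsKInjective.Qh_map_bijective
      ((HomotopyCategory.quotient _ _).obj X) I).1 ?_)⟩
    rw [← cancel_mono ((DerivedCategory.quotientCompQhIso _).hom.app I),
      DerivedCategory.quotientCompQhIso_hom_naturality,
      DerivedCategory.quotientCompQhIso_hom_naturality, e, Functor.map_zero]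
  · rintro ⟨h⟩
    rw [← cancel_epi ((DerivedCategory.quotientCompQhIso _).hom.app X),
      ← DerivedCategory.quotientCompQhIso_hom_naturality, HomotopyCategory.eq_of_homotopy _ _ h]
    simp

variable [DTen.HasLTen A] [DTen.HasLTen₃ A] [DTen.IsSymMonoidal A]

/-- The representing map. -/
noncomputable def repMap (I : DRing.Cx A) :
    (DTen.LTen₂ A).obj (DerivedCategory.Q.obj K, DerivedCategory.Q.obj ((tenL K).rightAdjoint.obj I)) ⟶
      DerivedCategory.Q.obj I :=
  (DTen.ε A).app (K, (tenL K).rightAdjoint.obj I) ≫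
    DerivedCategory.Q.map ((tenAdj K).counit.app I)

omit [I.IsKInjective] in
lemma rep_apply (hX : X ⟶ (tenL K).rightAdjoint.obj I) :
    (TL (DerivedCategory.Q.obj K)).map (DerivedCategory.Q.map hX) ≫ repMap K I =
      (DTen.ε A).app (K, X) ≫ DerivedCategory.Q.map (((tenAdj K).homEquiv _ _).symm hX) := by
  have hn := (DTen.ε A).naturality (Prod.mkHom (𝟙 K) hX)
  rw [repMap, Adjunction.homEquiv_counit, Functor.map_comp]
  dsimp at hn ⊢
  rw [CategoryTheory.Functor.map_id] at hn
  erw [reassoc_of% hn]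
  congr 2
  refine congrArg DerivedCategory.Q.map ?_
  rw [MonoidalCategory.id_whiskerRight, Category.id_comp]
  rfl

theorem isLeftAdjoint_TL (L : Dual.D A) : (TL L).IsLeftAdjoint := by
  obtain ⟨K₀, ⟨e₀⟩⟩ := Localization.essSurj DerivedCategory.Q (DTen.qis A) |>.mem_essImage L
  haveI := isIso_Q_map _ (quasiIso_resψ K₀)
  let K := (res A).obj K₀
  let e : DerivedCategory.Q.obj K ≅ L := asIso (DerivedCategory.Q.map ((resψ A).app K₀)) ≪≫ e₀
  suffices h : (TL (DerivedCategory.Q.obj K)).IsLeftAdjoint from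
    Functor.isLeftAdjoint_of_iso ((DTen.LTen A).mapIso e)
  have hK : KFlat.IsKFlat (TT A) K := isKFlat_res K₀
  obtain ⟨N, j, hN⟩ := KInjRes.exists_resolution_functor (A := ModuleCat.{u} A)
  apply Functor.isLeftAdjoint_of_rightAdjointObjIsDefined_eq_top
  ext Y
  simp only [Pi.top_apply, Prop.top_eq_true, iff_true]
  rw [Functor.rightAdjointObjIsDefined_iff]
  obtain ⟨M, ⟨eM⟩⟩ := Localization.essSurj DerivedCategory.Q (DTen.qis A) |>.mem_essImage Y
  haveI := isIso_Q_map _ (hN M).2.1
  haveI := (hN M).2.2.1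
  let eY : DerivedCategory.Q.obj (N.obj M) ≅ Y := (asIso (DerivedCategory.Q.map (j.app M))).symm ≪≫ eM
  let F := TL (DerivedCategory.Q.obj K)
  let G := (tenL K).rightAdjoint.obj (N.obj M)
  haveI hG : G.IsKInjective := isKInjective_ihom K hK
  have bij : ∀ Z, Function.Bijective
      (fun x : Z ⟶ DerivedCategory.Q.obj G => F.map x ≫ repMap K (N.obj M) ≫ eY.hom) := by
    intro Z
    obtain ⟨X, ⟨eZ⟩⟩ := Localization.essSurj DerivedCategory.Q (DTen.qis A) |>.mem_essImage Z
    haveI := isIso_ε K X (Or.inl hK)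
    constructor
    · intro x y hxy
      replace hxy := congrArg (F.map eZ.hom ≫ · ≫ eY.inv) hxy
      simp only [Category.assoc, Iso.hom_inv_id, Category.comp_id, ← Functor.map_comp_assoc] at hxy
      obtain ⟨m, hm⟩ := Q_map_surjective (eZ.hom ≫ x)
      obtain ⟨m', hm'⟩ := Q_map_surjective (eZ.hom ≫ y)
      rw [← cancel_epi eZ.hom, ← hm, ← hm', ← sub_eq_zero, ← Functor.map_sub, Q_map_eq_zero_iff,
        nonempty_homotopy_homEquiv, ← Q_map_eq_zero_iff]
      haveI : (tenL K).Additive := inferInstance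
      rw [Adjunction.homEquiv_counit, Functor.map_sub, Preadditive.sub_comp, Functor.map_sub, sub_eq_zero,
        ← cancel_epi ((DTen.ε A).app (K, X)), ← Adjunction.homEquiv_counit, ← Adjunction.homEquiv_counit,
        ← rep_apply, ← rep_apply, hm, hm']
      exact hxy
    · intro g
      obtain ⟨m, hm⟩ := Q_map_surjective (inv ((DTen.ε A).app (K, X)) ≫ F.map eZ.hom ≫ g ≫ eY.inv)
      refine ⟨eZ.inv ≫ DerivedCategory.Q.map ((tenAdj K).homEquiv _ _ m), ?_⟩
      dsimp only
      erw [Functor.map_comp, Category.assoc, reassoc_of% (rep_apply K ((tenAdj K).homEquiv _ _ m))]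
      rw [Equiv.symm_apply_apply, hm]
      simp
  exact Functor.RepresentableBy.isRepresentable
    { homEquiv := fun {Z} => Equiv.ofBijective _ (bij Z)
      homEquiv_comp := fun f x => by
        change F.map (f ≫ x) ≫ _ = F.map f ≫ F.map x ≫ _
        rw [Functor.map_comp, Category.assoc] }

/-- `RHom` exists. -/
theorem hasRHom : DTen.HasRHom A :=
  ⟨fun L => haveI := isLeftAdjoint_TL L; Functor.isLeftAdjoint_of_iso (flipIso' A L)⟩

end Groth.Agent.H25DTen
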