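import Groth.Agent.H25DTen.Proj
import Groth.Agent.H25DTen.Compact
import Groth.Agent.H25DTen.BcRHom
import Groth.Agent.H25DTen.HomExists

/-!
# The right adjoint of restriction along a perfect ring map is a tensor product
-/

set_option autoImplicit false
set_option backward.isDefEq.respectTransparency false

universe u

open CategoryTheory CategoryTheory.Limits MonoidalCategory Pretriangulated Opposite

attribute [local instance] HasDerivedCategory.standard

namespace Groth.Agent.H25DTen

variable {R : Type u} [CommRing R]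

/-- Finite support is inherited by the shifts of a perfect complex. -/
theorem finiteSupport_shift_of_isPerfect {Z : Dual.D R} (hZ : DRing.IsPerfect R Z) (n : ℤ) :
    FiniteSupport (Z⟦n⟧) := by
  refine perfect_induction (fun Z => ∀ n : ℤ, FiniteSupport (Z⟦n⟧)) ?_ ?_ ?_ hZ n
  · exact fun i r h h' n => FiniteSupport.of_retract (i⟦n⟧') (r⟦n⟧')
      (by rw [← Functor.map_comp, h, CategoryTheory.Functor.map_id]) (h' n)
  · exact fun T hT h₁ h₃ n => finiteSupport_ext _ (Triangle.shift_distinguished T hT n) (h₁ n) (h₃ n)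
  · exact fun k n => FiniteSupport.of_retract (shiftSIso k n).hom (shiftSIso k n).inv (Iso.hom_inv_id _)
      (finiteSupport_S (k + n))

theorem isExactOp_preadditiveYoneda (X : Dual.D R) : Dev.IsExactOp (preadditiveYoneda.obj X) := by
  intro T hT x
  constructor
  · intro hx
    obtain ⟨y, hy⟩ := Triangle.yoneda_exact₂ T hT x hx
    exact ⟨y, hy.symm⟩
  · rintro ⟨y, rfl⟩
    change T.mor₁ ≫ T.mor₂ ≫ y = 0
    rw [← Category.assoc, comp_distTriang_mor_zero₁₂ _ hT, zero_comp]

/-- A morphism inducing bijections on maps out of the shifts of the unit is an isomorphism. -/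
theorem isIso_of_bijective_S {X Y : Dual.D R} (f : X ⟶ Y)
    (h : ∀ k : ℤ, Function.Bijective (fun x : S R k ⟶ X => x ≫ f)) : IsIso f := by
  refine (isIso_iff_yoneda_map_bijective _).2 fun Z => ?_
  let η : preadditiveYoneda.obj X ⟶ preadditiveYoneda.obj Y := preadditiveYoneda.map f
  have key : ∀ n : ℤ, Function.Bijective (η.app (op (Z⟦n⟧))) := by
    refine localizing_induction (fun Z => ∀ n : ℤ, Function.Bijective (η.app (op (Z⟦n⟧)))) ?_ ?_ ?_ ?_ Z
    · intro K L i r hir h' n
      exact bijective_of_retract η (r⟦n⟧').op (i⟦n⟧').op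
        (by rw [← op_comp, ← Functor.map_comp, hir, CategoryTheory.Functor.map_id, op_id]) (h' n)
    · exact fun T hT h₁ h₃ n => Dev.bijective_shift_ext_op η (isExactOp_preadditiveYoneda X)
        (isExactOp_preadditiveYoneda Y) T hT h₁ h₃ n
    · intro ι K hK n
      haveI := Groth.Agent.H16Derived.QCoprod.preservesColimit_Q K
      let c : IsColimit (Cofan.mk ((DerivedCategory.Q.obj (∐ K))⟦n⟧)
          fun i => (DerivedCategory.Q.map (Sigma.ι K i))⟦n⟧') :=
        isColimitCofanMkObjOfIsColimit (shiftFunctor (Dual.D R) n) _ _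
          (isColimitCofanMkObjOfIsColimit DerivedCategory.Q _ _ (coproductIsCoproduct K))
      constructor
      · intro (x : _ ⟶ X) (y : _ ⟶ X) hxy
        replace hxy : x ≫ f = y ≫ f := hxy
        refine Cofan.IsColimit.hom_ext c _ _ fun i => (hK i n).1 ?_
        exact ((Category.assoc _ _ _).trans (congrArg (_ ≫ ·) hxy)).trans (Category.assoc _ _ _).symm
      · intro y
        choose x hx using fun i => (hK i n).2 ((DerivedCategory.Q.map (Sigma.ι K i))⟦n⟧' ≫ y)
        refine ⟨Cofan.IsColimit.desc c x, Cofan.IsColimit.hom_ext c _ _ fun i => ?_⟩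
        exact ((Category.assoc _ _ _).symm.trans
          (congrArg (· ≫ f) (Cofan.IsColimit.fac c x i))).trans (hx i)
    · intro k n
      exact bijective_of_retract η (shiftSIso k n).inv.op (shiftSIso k n).hom.op
        (by rw [← op_comp, Iso.hom_inv_id, op_id]) (h (k + n))
  exact bijective_of_retract η ((shiftFunctorZero (Dual.D R) ℤ).hom.app Z).op
    ((shiftFunctorZero (Dual.D R) ℤ).inv.app Z).op
    (by rw [← op_comp, Iso.inv_hom_id_app]; exact op_id ..) (key 0)

variable {A : Type u} [CommRing A] (φ : R →+* A) [DTen.HasRHomRel φ]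
  [DTen.HasLTen R] [DTen.HasLTen A] [DTen.HasLBase φ] [DTen.HasResTen φ] [DTen.ResLegIso φ]
  [DTen.HasLTen₃ R] [DTen.IsSymMonoidal R] [DTen.HasLTen₃ A] [DTen.IsSymMonoidal A]

/-- `RHom(A, R)`. -/
noncomputable abbrev relDual : Dual.D A := (DTen.RHomRel φ).obj (DTen.unit R)

/-- The evaluation `res (M ⊗ LK) ⟶ K`. -/
noncomputable def relτ (K : Dual.D R) :
    (DRing.restrictD φ).obj ((DTen.LTen₂ A).obj (relDual φ, (DTen.LBase φ).obj K)) ⟶ K :=
  haveI := isIso_projPF φ (relDual φ) K
  inv (DTen.projPF φ (relDual φ) K) ≫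
    (DTen.LTen₂ R).map (Prod.mkHom (DTen.relEv φ (DTen.unit R)) (𝟙 K)) ≫ (DTen.unitL R).app K

lemma projPF_relτ (X : Dual.D A) (g : X ⟶ relDual φ) (K : Dual.D R) :
    DTen.projPF φ X K ≫ (DRing.restrictD φ).map ((TR ((DTen.LBase φ).obj K)).map g) ≫ relτ φ K =
      (TR K).map (((DTen.relAdj φ).homEquiv _ _).symm g) ≫ (DTen.unitL R).app K := by
  haveI := isIso_projPF φ (relDual φ) K
  have h := projPF_naturality φ g (𝟙 K)
  rw [CategoryTheory.Functor.map_id] at h
  erw [← reassoc_of% h]
  rw [relτ, IsIso.hom_inv_id_assoc, Adjunction.homEquiv_counit, Functor.map_comp, Category.assoc]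
  rfl

lemma relτ_naturality {K K' : Dual.D R} (f : K ⟶ K') :
    (DRing.restrictD φ).map ((TL (relDual φ)).map ((DTen.LBase φ).map f)) ≫ relτ φ K' =
      relτ φ K ≫ f := by
  haveI := isIso_projPF φ (relDual φ) K
  haveI := isIso_projPF φ (relDual φ) K'
  rw [← cancel_epi (DTen.projPF φ (relDual φ) K)]
  have h := projPF_naturality φ (𝟙 (relDual φ)) f
  rw [CategoryTheory.Functor.map_id] at h
  erw [← reassoc_of% h]
  rw [relτ, relτ, IsIso.hom_inv_id_assoc, Category.assoc, IsIso.hom_inv_id_assoc, Category.assoc]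
  erw [← (DTen.unitL R).naturality f]
  erw [← Functor.map_comp_assoc, ← Functor.map_comp_assoc]
  refine congrArg (fun z => (DTen.LTen₂ R).map z ≫ _) (Prod.ext ?_ ?_) <;> simp

/-- The comparison `M ⊗ LK ⟶ RHom(A, K)`. -/
noncomputable def relNat : DTen.LBase φ ⋙ TL (relDual φ) ⟶ DTen.RHomRel φ where
  app K := (DTen.relAdj φ).homEquiv _ _ (relτ φ K)
  naturality K K' f := by
    dsimp only [Functor.comp_obj, Functor.comp_map]
    rw [← Adjunction.homEquiv_naturality_left, ← Adjunction.homEquiv_naturality_right, relτ_naturality]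

/-- `(Z ⟶ M ⊗ LK) ⟶ (res Z ⟶ K)`. -/
noncomputable def relEta (Z : Dual.D A) :
    (DTen.LBase φ ⋙ TL (relDual φ)) ⋙ preadditiveCoyoneda.obj (op Z) ⟶
      (𝟭 (Dual.D R)) ⋙ preadditiveCoyoneda.obj (op ((DRing.restrictD φ).obj Z)) where
  app K := AddCommGrpCat.ofHom (AddMonoidHom.mk'
    (fun x : Z ⟶ (TL (relDual φ)).obj ((DTen.LBase φ).obj K) => (DRing.restrictD φ).map x ≫ relτ φ K)
    fun x y => by rw [Functor.map_add, Preadditive.add_comp])
  naturality K K' f := by
    refine AddCommGrpCat.hom_ext (AddMonoidHom.ext fun x => ?_)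
    change (DRing.restrictD φ).map (x ≫ (TL (relDual φ)).map ((DTen.LBase φ).map f)) ≫ relτ φ K' =
      ((DRing.restrictD φ).map x ≫ relτ φ K) ≫ f
    rw [Functor.map_comp, Category.assoc, Category.assoc, relτ_naturality]

lemma relEta_S_bijective (k : ℤ) (Z : Dual.D A) : Function.Bijective ((relEta φ Z).app (S R k)) := by
  haveI := isEquivalence_base_S φ k
  haveI := isEquivalence_flip_S (A := R) k
  obtain ⟨X, ⟨e⟩⟩ := Functor.EssSurj.mem_essImage (F := TR ((DTen.LBase φ).obj (S R k))) Z
  haveI := isIso_projPF φ X (S R k)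
  haveI : IsIso ((DTen.unitL R).app (S R k)) := inferInstance
  let T := ((DTen.relAdj φ).homEquiv X (DTen.unit R)).symm.trans
    (((Functor.FullyFaithful.ofFullyFaithful (TR (S R k))).homEquiv).trans
      (Iso.homCongr (asIso (DTen.projPF φ X (S R k)) ≪≫ (DRing.restrictD φ).mapIso e)
        (asIso ((DTen.unitL R).app (S R k)))))
  let P := ((Functor.FullyFaithful.ofFullyFaithful (TR ((DTen.LBase φ).obj (S R k)))).homEquiv
    (X := X) (Y := relDual φ)).trans (Iso.homCongr e (Iso.refl _))
  convert (P.symm.trans T).bijective using 1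
  funext x
  obtain ⟨g, rfl⟩ := P.surjective x
  refine Eq.trans ?_ (congrArg T (P.symm_apply_apply g)).symm
  change (DRing.restrictD φ).map (P g) ≫ relτ φ (S R k) = _
  simp only [P, T, Equiv.trans_apply, Iso.homCongr_apply, Iso.refl_hom, Category.comp_id,
    Functor.FullyFaithful.homEquiv_apply, Iso.trans_inv, Functor.mapIso_inv, asIso_inv, asIso_hom,
    Functor.map_comp, Category.assoc]
  rw [← projPF_relτ, IsIso.inv_hom_id_assoc]

variable [DTen.HasRHom A] [DTen.HasRHom R]

theorem isIso_relNat (hA : DRing.IsPerfect R ((DRing.restrictD φ).obj (DTen.unit A))) (K : Dual.D R) :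
    IsIso ((relNat φ).app K) := by
  have key : ∀ (k : ℤ), Function.Bijective ((relEta φ (S A k)).app K) := fun k => by
    have e : (DRing.restrictD φ).obj (S A k) ≅ ((DRing.restrictD φ).obj (DTen.unit A))⟦k⟧ :=
      (DRing.restrictD φ).mapIso (((DerivedCategory.Q (C := ModuleCat.{u} A)).commShiftIso k).app _) ≪≫
        ((DRing.restrictD φ).commShiftIso k).app _
    exact bijective_all ((DTen.baseAdj φ).comp (leftAdj (relDual φ))) Adjunction.id
      (finiteSupport_S k) (FiniteSupport.of_retract e.hom e.inv e.hom_inv_id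
        (finiteSupport_shift_of_isPerfect hA k)) (relEta φ (S A k)) (fun j => relEta_S_bijective φ j _) K
  refine isIso_of_bijective_S _ fun k => ?_
  convert (((DTen.relAdj φ).homEquiv (S A k) K).bijective.comp (key k)) using 1
  funext x
  exact (Adjunction.homEquiv_naturality_left _ _ _).symm


/-- `RHom(A, -) ≅ - ⊗^L_R RHom(A, R)` for `A` perfect over `R`. -/
theorem nonempty_RHomRel_iso {R A : Type u} [CommRing R] [CommRing A] (φ : R →+* A)
    [DTen.HasRHomRel φ] [DTen.HasLTenMix φ]
    (hA : DRing.IsPerfect R ((DRing.restrictD φ).obj (DTen.unit A))) :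
    Nonempty (DTen.RHomRel φ ≅
      (Functor.curry.obj (DTen.LTenMix φ)).flip.obj ((DTen.RHomRel φ).obj (DTen.unit R))) := by
  haveI : DTen.HasLTen R := hasLTen
  haveI : DTen.HasLTen A := hasLTen
  haveI : DTen.HasLBase φ := hasLBase φ
  haveI : DTen.HasResTen φ := hasResTen φ
  haveI : DTen.ResLegIso φ := resLegIso φ
  haveI : DTen.HasLTen₃ R := hasLTen₃
  haveI : DTen.HasLTen₃ A := hasLTen₃
  haveI : DTen.IsSymMonoidal R := isSymMonoidal
  haveI : DTen.IsSymMonoidal A := isSymMonoidal
  haveI : DTen.HasRHom R := hasRHom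
  haveI : DTen.HasRHom A := hasRHom
  haveI : ∀ K, IsIso ((relNat φ).app K) := isIso_relNat φ hA
  haveI : ∀ X, IsIso ((DTen.split φ).app X) := fun X => isIso_split φ X.1 X.2
  refine ⟨(NatIso.ofComponents (fun K => asIso ((relNat φ).app K))
    (fun f => (relNat φ).naturality f)).symm ≪≫
    Functor.isoWhiskerLeft (DTen.LBase φ) (flipIso' A (relDual φ)) ≪≫
    NatIso.ofComponents (fun K => asIso ((DTen.split φ).app (K, relDual φ))) fun {K K'} f => ?_⟩
  have h := (DTen.split φ).naturality (X := (K, relDual φ)) (Y := (K', relDual φ)) (Prod.mkHom f (𝟙 _))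
  refine Eq.trans ?_ h
  dsimp

end Groth.Agent.H25DTen
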