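import Groth.Agent.H25DTen.PerfectPoint
import Groth.Agent.H25DTen.ProTor
import Groth.Agent.H25DTen.RelRep
import Mathlib

/-!
# Auto-equivalences of `D^b_Coh(A)` send the unit to an invertible object
-/

set_option autoImplicit false
set_option backward.isDefEq.respectTransparency false

universe u

open CategoryTheory CategoryTheory.Limits MonoidalCategory Pretriangulated Opposite

attribute [local instance] HasDerivedCategory.standard

namespace Groth.Agent.H25DTen.AutoDb

open Groth.Agent.H16Derived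

variable {A : Type u} [CommRing A]

lemma eq_zero_of_shift {X Y : Dual.D A} (i : ℤ) (h : ∀ x : X ⟶ Y⟦-i⟧, x = 0) (x : X⟦i⟧ ⟶ Y) : x = 0 := by
  apply (shiftFunctor (Dual.D A) (-i)).map_injective
  rw [Functor.map_zero, ← cancel_epi ((shiftFunctorCompIsoId (Dual.D A) i (-i) (add_neg_cancel i)).inv.app X),
    comp_zero]
  exact h _

lemma eq_zero_of_shift_iso {X Y : Dual.D A} (a b d : ℤ) (hd : a + b = d) (h : ∀ x : X ⟶ Y⟦d⟧, x = 0)
    (x : X ⟶ (Y⟦a⟧)⟦b⟧) : x = 0 := by
  rw [← cancel_mono ((shiftFunctorAdd' (Dual.D A) a b d hd).app Y).inv, zero_comp]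
  exact h _

section Sub

variable {P : ObjectProperty (Dual.D A)} [P.IsTriangulated]
  (F : P.FullSubcategory ⥤ P.FullSubcategory) [F.CommShift ℤ] [F.Full]

lemma eq_zero_transfer [F.Additive] (X Y : P.FullSubcategory) (i : ℤ)
    (h : ∀ z : X.obj ⟶ Y.obj⟦i⟧, z = 0) (x : (F.obj X).obj ⟶ (F.obj Y).obj⟦i⟧) : x = 0 := by
  let y : F.obj X ⟶ (F.obj Y)⟦i⟧ := ObjectProperty.homMk (x ≫ ((P.ι.commShiftIso i).app (F.obj Y)).inv)
  obtain ⟨z, hz⟩ := F.map_surjective (y ≫ ((F.commShiftIso i).app Y).inv)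
  have hz0 : z.hom ≫ ((P.ι.commShiftIso i).app Y).hom = 0 := h _
  have hz1 : z = 0 := by
    apply ObjectProperty.hom_ext
    rw [← cancel_mono ((P.ι.commShiftIso i).app Y).hom]
    exact hz0.trans zero_comp.symm
  rw [hz1, Functor.map_zero, eq_comm, ← cancel_mono ((F.commShiftIso i).app Y).hom, Category.assoc,
    Iso.inv_hom_id, Category.comp_id, zero_comp] at hz
  have h2 : x ≫ ((P.ι.commShiftIso i).app (F.obj Y)).inv = 0 := congrArg (fun f => f.hom) hz
  rw [← cancel_mono ((P.ι.commShiftIso i).app (F.obj Y)).inv, zero_comp]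
  exact h2

lemma killed_transfer [F.Additive] [F.Linear A] {J : Ideal A} (X : P.FullSubcategory) (h : Killed J X.obj) :
    Killed J (F.obj X).obj := fun g hg => by
  have h1 : g • 𝟙 X = 0 := ObjectProperty.hom_ext _ (h g hg)
  have h2 := congrArg F.map h1
  rw [Functor.map_smul, CategoryTheory.Functor.map_id, Functor.map_zero] at h2
  exact congrArg (fun f => f.hom) h2

lemma end_transfer [F.Additive] [F.Linear A] (X : P.FullSubcategory)
    (h : ∀ f : X.obj ⟶ X.obj, ∃ g : A, f = g • 𝟙 X.obj) (f : (F.obj X).obj ⟶ (F.obj X).obj) :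
    ∃ g : A, f = g • 𝟙 (F.obj X).obj := by
  obtain ⟨z, hz⟩ := F.map_surjective (ObjectProperty.homMk f : F.obj X ⟶ F.obj X)
  obtain ⟨g, hg⟩ := h z.hom
  obtain rfl : z = g • 𝟙 X := ObjectProperty.hom_ext _ hg
  rw [Functor.map_smul, CategoryTheory.Functor.map_id] at hz
  exact ⟨g, (congrArg (fun f => f.hom) hz).symm⟩

lemma smul_eq_zero_transfer [F.Additive] [F.Linear A] [F.Faithful] (X : P.FullSubcategory) (g : A)
    (h : g • 𝟙 (F.obj X).obj = 0) : g • 𝟙 X.obj = 0 := by
  have h1 : F.map (g • 𝟙 X) = 0 := by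
    rw [Functor.map_smul, CategoryTheory.Functor.map_id]
    exact ObjectProperty.hom_ext _ h
  exact congrArg (fun f => f.hom) ((F.map_eq_zero_iff).1 h1)

end Sub

/-- The unit is `A[0]`. -/
noncomputable def inDUnitIso : Dual.inD A A ≅ DTen.unit A :=
  (DerivedCategory.singleFunctorIsoCompQ (ModuleCat.{u} A) 0).app (ModuleCat.of A A)

lemma unit_hom_inD_eq_zero (M : ModuleCat.{u} A) {i : ℤ} (hi : i ≠ 0)
    (x : DTen.unit A ⟶ (Dual.inD A M)⟦i⟧) : x = 0 := by
  rw [← cancel_epi (inDUnitIso (A := A)).hom, comp_zero]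
  exact sgl_hom_shift_eq_zero (P := ModuleCat.of A A) (Y := M) hi _

lemma unit_hom_unit_eq_zero {i : ℤ} (hi : i ≠ 0) (x : DTen.unit A ⟶ (DTen.unit A)⟦i⟧) : x = 0 := by
  rw [← cancel_mono ((shiftFunctor (Dual.D A) i).map (inDUnitIso (A := A)).inv), zero_comp]
  exact unit_hom_inD_eq_zero (ModuleCat.of A A) hi _

lemma unit_end (f : DTen.unit A ⟶ DTen.unit A) : ∃ g : A, f = g • 𝟙 (DTen.unit A) := by
  obtain ⟨φ, hφ⟩ := (sgl A).map_surjective (inDUnitIso.hom ≫ f ≫ inDUnitIso.inv)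
  haveI : (sgl A).Linear A :=
    Functor.linear_of_iso _ (DerivedCategory.singleFunctorIsoCompQ (ModuleCat.{u} A) 0).symm
  have hφ' : φ = φ.hom (1 : A) • 𝟙 (ModuleCat.of A A) :=
    ModuleCat.hom_ext (LinearMap.ext_ring (mul_one _).symm)
  refine ⟨φ.hom (1 : A), ?_⟩
  rw [hφ', Functor.map_smul, CategoryTheory.Functor.map_id] at hφ
  rw [← cancel_epi inDUnitIso.hom, ← cancel_mono inDUnitIso.inv, Category.assoc, ← hφ,
    Linear.comp_smul, Category.comp_id, Linear.smul_comp, Iso.hom_inv_id]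

lemma finite_HD_inD (M : ModuleCat.{u} A) [Module.Finite A M] (i : ℤ) :
    Module.Finite A (Dual.HD A (Dual.inD A M) i) := by
  by_cases hi : i = 0
  · subst hi
    exact Module.Finite.equiv (Groth.Agent.H4DR.PCoh.HDinD M).symm
  · haveI := Groth.Agent.H4DR.PCoh.subsingleton_HD_inD M i hi
    infer_instance

lemma exists_splitting (m : Ideal A) [m.IsMaximal] {Y : ModuleCat.{u} A}
    (hY : ∀ g ∈ m, ∀ y : Y, g • y = 0) (hne : ¬ Subsingleton Y) :
    ∃ (i : ModuleCat.of A (A ⧸ m) ⟶ Y) (r : Y ⟶ ModuleCat.of A (A ⧸ m)), i ≫ r = 𝟙 _ := by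
  letI : Field (A ⧸ m) := Ideal.Quotient.field m
  haveI : Nontrivial Y := not_subsingleton_iff_nontrivial.1 hne
  let W := Y ⧸ m • (⊤ : Submodule A Y)
  have hbot : m • (⊤ : Submodule A Y) = ⊥ :=
    (Submodule.eq_bot_iff _).2 fun y hy => Submodule.smul_induction_on hy (fun g hg z _ => hY g hg z)
      fun a b ha hb => by rw [ha, hb, add_zero]
  obtain ⟨y, hy⟩ := exists_ne (0 : Y)
  let b := Module.Free.chooseBasis (A ⧸ m) W
  have hw : Submodule.mkQ (m • (⊤ : Submodule A Y)) y ≠ 0 := fun h => hy (by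
    have := (Submodule.Quotient.mk_eq_zero _).1 h
    rw [hbot] at this
    exact this)
  obtain ⟨j, hj⟩ : ∃ j, b.coord j (Submodule.mkQ (m • (⊤ : Submodule A Y)) y) ≠ 0 := by
    by_contra! h
    exact hw (b.forall_coord_eq_zero_iff.1 h)
  let κv := b.coord j (Submodule.mkQ (m • (⊤ : Submodule A Y)) y)
  let r : Y →ₗ[A] A ⧸ m := ((κv⁻¹ • b.coord j).restrictScalars A) ∘ₗ Submodule.mkQ _
  let i : A ⧸ m →ₗ[A] Y := m.liftQ (LinearMap.toSpanSingleton A Y y) fun g hg => hY g hg y
  refine ⟨ModuleCat.ofHom i, ModuleCat.ofHom r, ModuleCat.hom_ext (Submodule.linearMap_qext m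
    (LinearMap.ext_ring ?_))⟩
  change r ((1 : A) • y) = 1
  rw [one_smul]
  exact inv_mul_cancel₀ hj

/-- Objects killed by a maximal ideal without negative self-extensions are concentrated in one degree. -/
theorem exists_iso_single (m : Ideal A) [m.IsMaximal] {N : Dual.D A} {a b : ℤ}
    (ha : N.IsGE a) (hb : N.IsLE b) (hk : Killed m N) (h0 : ¬ IsZero N)
    (hneg : ∀ i : ℤ, i < 0 → ∀ x : N ⟶ N⟦i⟧, x = 0) :
    ∃ (d : ℤ) (Y : ModuleCat.{u} A), Nonempty (N ≅ (DerivedCategory.singleFunctor (ModuleCat.{u} A) d).obj Y) ∧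
      (∀ g ∈ m, ∀ y : Y, g • y = 0) ∧ ¬ Subsingleton Y := by
  have key : ∀ {M : Dual.D A} (d : ℤ) (Y : ModuleCat.{u} A)
      (_ : M ≅ (DerivedCategory.singleFunctor (ModuleCat.{u} A) d).obj Y), Killed m M → ∀ g ∈ m, ∀ y : Y, g • y = 0 := by
    intro M d Y e hM g hg y
    have h := hM.of_iso e g hg
    haveI : (DerivedCategory.singleFunctor (ModuleCat.{u} A) d).Linear A :=
      Functor.linear_of_iso _ (DerivedCategory.singleFunctorIsoCompQ (ModuleCat.{u} A) d).symm
    rw [← CategoryTheory.Functor.map_id, ← Functor.map_smul] at h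
    exact congr($((Functor.map_eq_zero_iff _).1 h).hom y)
  have hab : ∀ p q : ℤ, N.IsGE p → N.IsLE q → p ≤ q := fun p q hp hq => by
    by_contra hlt
    haveI := hp
    haveI := hq
    exact h0 ((IsZero.iff_id_eq_zero N).2
      (DerivedCategory.TStructure.t.zero_of_isLE_of_isGE _ q p (by omega) inferInstance inferInstance))
  obtain ⟨a', ha', hamax⟩ := Int.exists_greatest_of_bdd (P := fun p => N.IsGE p)
    ⟨b, fun p hp => hab p b hp hb⟩ ⟨a, ha⟩
  obtain ⟨b', hb', hbmin⟩ := Int.exists_least_of_bdd (P := fun q => N.IsLE q)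
    ⟨a, fun q hq => hab a q ha hq⟩ ⟨b, hb⟩
  obtain hlt | heq := (hab a' b' ha' hb').lt_or_eq
  · exfalso
    let T := (DerivedCategory.TStructure.t.triangleLTGE b').obj N
    have hT : T ∈ (distTriang _) := DerivedCategory.TStructure.t.triangleLTGE_distinguished b' N
    have hT₁ : (T.obj₁).IsLE (b' - 1) :=
      inferInstanceAs (((DerivedCategory.TStructure.t.triangleLTGE b').obj N).obj₁.IsLE (b' - 1))
    have hT₃ : (T.obj₃).IsGE b' :=
      inferInstanceAs (((DerivedCategory.TStructure.t.triangleLTGE b').obj N).obj₃.IsGE b')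
    have hT₃' : (T.obj₃).IsLE b' := by
      haveI := hb'
      exact inferInstanceAs (((DerivedCategory.TStructure.t.truncGE b').obj N).IsLE b')
    let M := N⟦a' - b'⟧
    have hM : M.IsGE b' := by
      haveI := ha'
      exact DerivedCategory.TStructure.t.isGE_shift N a' (a' - b') b'
    let T' := (DerivedCategory.TStructure.t.triangleLTGE (b' + 1)).obj M
    have hT' : T' ∈ (distTriang _) := DerivedCategory.TStructure.t.triangleLTGE_distinguished (b' + 1) M
    have hU₁ : (T'.obj₁).IsLE b' := DerivedCategory.TStructure.t.isLE_truncLT_obj M (b' + 1) b'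
    have hU₁' : (T'.obj₁).IsGE b' := by
      haveI := hM
      exact inferInstanceAs (((DerivedCategory.TStructure.t.truncLT (b' + 1)).obj M).IsGE b')
    have hU₃ : (T'.obj₃).IsGE (b' + 1) :=
      inferInstanceAs (((DerivedCategory.TStructure.t.triangleLTGE (b' + 1)).obj M).obj₃.IsGE (b' + 1))
    obtain ⟨Y, ⟨e⟩⟩ := @DerivedCategory.exists_iso_singleFunctor_obj_of_isGE_of_isLE _ _ _ _ T.obj₃ b' hT₃ hT₃'
    obtain ⟨Y', ⟨e'⟩⟩ := @DerivedCategory.exists_iso_singleFunctor_obj_of_isGE_of_isLE _ _ _ _ T'.obj₁ b' hU₁' hU₁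
    have hY : ∀ g ∈ m, ∀ y : Y, g • y = 0 := key b' Y e (hk.of_truncation T hT b' hT₁ hT₃).2
    have hY' : ∀ g ∈ m, ∀ y : Y', g • y = 0 := key b' Y' e'
      ((hk.shift (a' - b')).of_truncation T' hT' (b' + 1) (by rw [add_sub_cancel_right]; exact hU₁) hU₃).1
    have hne : ¬ Subsingleton Y := fun h => by
      have hz : IsZero T.obj₃ :=
        ((DerivedCategory.singleFunctor (ModuleCat.{u} A) b').map_isZero (ModuleCat.isZero_of_iff_subsingleton.2 h)).of_iso e
      haveI : IsIso T.mor₁ := (Triangle.isZero₃_iff_isIso₁ T hT).1 hz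
      haveI := hT₁
      have := hbmin (b' - 1) (DerivedCategory.TStructure.t.isLE_of_iso (asIso T.mor₁) (b' - 1))
      omega
    have hne' : ¬ Subsingleton Y' := fun h => by
      have hz : IsZero T'.obj₁ :=
        ((DerivedCategory.singleFunctor (ModuleCat.{u} A) b').map_isZero (ModuleCat.isZero_of_iff_subsingleton.2 h)).of_iso e'
      haveI : IsIso T'.mor₂ := (Triangle.isZero₁_iff_isIso₂ T' hT').1 hz
      haveI := hU₃
      have h1 : (N⟦a' - b'⟧).IsGE (b' + 1) :=
        DerivedCategory.TStructure.t.isGE_of_iso (asIso T'.mor₂).symm (b' + 1)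
      have := hamax (a' + 1) (@Triangulated.TStructure.isGE_of_shift _ _ _ _ _ _ _
        DerivedCategory.TStructure.t N (a' + 1) (a' - b') (b' + 1) (by omega) h1)
      omega
    obtain ⟨i₁, r₁, hir₁⟩ := exists_splitting m hY hne
    obtain ⟨i₂, r₂, hir₂⟩ := exists_splitting m hY' hne'
    have hf : r₁ ≫ i₂ ≠ 0 := fun h => by
      have h2 : i₁ ≫ (r₁ ≫ i₂) ≫ r₂ = 0 := by rw [h, zero_comp, comp_zero]
      rw [Category.assoc, hir₂, Category.comp_id, hir₁] at h2
      haveI : Nontrivial (A ⧸ m) := Ideal.Quotient.nontrivial_iff.2 (Ideal.IsMaximal.ne_top ‹_›)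
      exact not_subsingleton (A ⧸ m) (ModuleCat.subsingleton_of_isZero ((IsZero.iff_id_eq_zero _).2 h2))
    let f : T.obj₃ ⟶ T'.obj₁ :=
      e.hom ≫ (DerivedCategory.singleFunctor (ModuleCat.{u} A) b').map (r₁ ≫ i₂) ≫ e'.inv
    have hx : T.mor₂ ≫ f ≫ T'.mor₁ = 0 := hneg (a' - b') (by omega) _
    obtain ⟨w, hw⟩ := Triangle.yoneda_exact₃ T hT (f ≫ T'.mor₁) hx
    haveI := hT₁
    have hw0 : f ≫ T'.mor₁ = 0 := by
      haveI := DerivedCategory.TStructure.t.isLE_shift T.obj₁ (b' - 1) 1 (b' - 2)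
      rw [hw, DerivedCategory.TStructure.t.zero_of_isLE_of_isGE w (b' - 2) b' (by omega) inferInstance hM,
        comp_zero]
    obtain ⟨v, hv⟩ := Triangle.coyoneda_exact₂ _ (inv_rot_of_distTriang _ hT') f hw0
    haveI := hU₃
    haveI := DerivedCategory.TStructure.t.isGE_shift T'.obj₃ (b' + 1) (-1) (b' + 2)
    haveI := hT₃'
    have hv0 : v = 0 := DerivedCategory.TStructure.t.zero_of_isLE_of_isGE v b' (b' + 2) (by omega)
      hT₃' (DerivedCategory.TStructure.t.isGE_shift T'.obj₃ (b' + 1) (-1) (b' + 2))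
    have hf0 : f = 0 := hv.trans (by rw [hv0]; exact zero_comp)
    refine hf ((DerivedCategory.singleFunctor (ModuleCat.{u} A) b').map_injective ?_)
    rw [Functor.map_zero, ← cancel_epi e.hom, ← cancel_mono e'.inv, Category.assoc, comp_zero, zero_comp]
    exact hf0
  · subst heq
    obtain ⟨Y, ⟨e⟩⟩ := @DerivedCategory.exists_iso_singleFunctor_obj_of_isGE_of_isLE _ _ _ _ N a' ha' hb'
    refine ⟨a', Y, ⟨e⟩, key a' Y e hk, fun h => h0 ?_⟩
    exact ((DerivedCategory.singleFunctor (ModuleCat.{u} A) a').map_isZero (ModuleCat.isZero_of_iff_subsingleton.2 h)).of_iso e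

/-- A single module in degree `n` is a shift of `M[0]`. -/
noncomputable def sgIso (M : ModuleCat.{u} A) (n : ℤ) :
    (DerivedCategory.singleFunctor (ModuleCat.{u} A) n).obj M ≅ (Dual.inD A M)⟦-n⟧ :=
  (DerivedCategory.singleFunctorIsoCompQ (ModuleCat.{u} A) n).app M ≪≫ Groth.Agent.H4DR.PCoh.singleIso M n

/-- No maps to a residue field in low degrees. -/
theorem exists_residue_bound [IsNoetherianRing A] {P : ObjectProperty (Dual.D A)}
    (hP : ∀ K : Dual.D A, P K ↔
      ((∀ i : ℤ, Module.Finite A (Dual.HD A K i)) ∧ ∃ a b : ℤ, ∀ i : ℤ, (i < a ∨ b < i) → Subsingleton (Dual.HD A K i)))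
    [P.IsTriangulated]
    (F : P.FullSubcategory ⥤ P.FullSubcategory) [F.CommShift ℤ] [F.Full] [F.Faithful]
    [F.Additive] [F.Linear A] (hA : P (DTen.unit A)) (m : Ideal A) [hm : m.IsMaximal] :
    ∃ c₀ : ℤ, ∀ c, c ≤ c₀ → ∀ x : (F.obj ⟨DTen.unit A, hA⟩).obj ⟶ DerivedCategory.Q.obj
      ((HomologicalComplex.single (ModuleCat.{u} A) (ComplexShape.up ℤ) c).obj (ModuleCat.of A (A ⧸ m))), x = 0 := by
  let κ := ModuleCat.of A (A ⧸ m)
  have hκ : P (Dual.inD A κ) := (hP _).2 ⟨fun i => finite_HD_inD κ i, 0, 0, fun i hi =>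
    Groth.Agent.H4DR.PCoh.subsingleton_HD_inD κ i (by omega)⟩
  let X : P.FullSubcategory := ⟨Dual.inD A κ, hκ⟩
  let N := (F.obj X).obj
  have hk : Killed m N := killed_transfer F X (killed_single (fun g hg y => by
    obtain ⟨y, rfl⟩ := Submodule.mkQ_surjective m y
    exact (Submodule.Quotient.mk_eq_zero _).2 (m.mul_mem_right y hg)) 0)
  obtain ⟨-, a, b, hab⟩ := (hP N).1 (F.obj X).property
  have h0 : ¬ IsZero N := fun h => by
    have h1 : (1 : A) • 𝟙 X.obj = 0 := smul_eq_zero_transfer F X 1 (by rw [one_smul]; exact (IsZero.iff_id_eq_zero _).1 h)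
    rw [one_smul] at h1
    haveI : Nontrivial (A ⧸ m) := Ideal.Quotient.nontrivial_iff.2 hm.ne_top
    have h2 : IsZero κ := (IsZero.iff_id_eq_zero κ).2 ((sgl A).map_injective (by
      rw [CategoryTheory.Functor.map_id, Functor.map_zero]; exact h1))
    exact not_subsingleton (A ⧸ m) (ModuleCat.subsingleton_of_isZero h2)
  obtain ⟨d, Y, ⟨e⟩, hY, hne⟩ := exists_iso_single m (N := N) (a := a) (b := b)
    ((DerivedCategory.isGE_iff N a).2 fun i hi => ModuleCat.isZero_of_iff_subsingleton.2 (hab i (Or.inl hi)))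
    ((DerivedCategory.isLE_iff N b).2 fun i hi => ModuleCat.isZero_of_iff_subsingleton.2 (hab i (Or.inr hi)))
    hk h0 fun i hi x => eq_zero_transfer F X X i (fun z => by
      haveI : DerivedCategory.TStructure.t.IsLE X.obj 0 :=
        inferInstanceAs (DerivedCategory.TStructure.t.IsLE ((DerivedCategory.singleFunctor (ModuleCat.{u} A) 0).obj κ) 0)
      haveI : DerivedCategory.TStructure.t.IsGE X.obj 0 :=
        inferInstanceAs (DerivedCategory.TStructure.t.IsGE ((DerivedCategory.singleFunctor (ModuleCat.{u} A) 0).obj κ) 0)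
      haveI := DerivedCategory.TStructure.t.isGE_shift X.obj 0 i (-i)
      exact DerivedCategory.TStructure.t.zero_of_isLE_of_isGE z 0 (-i) (by omega) inferInstance inferInstance) x
  obtain ⟨ι, r, hιr⟩ := exists_splitting m hY hne
  refine ⟨d - 1, fun c hc x => ?_⟩
  rw [← cancel_mono (Groth.Agent.H4DR.PCoh.singleIso κ c).hom, zero_comp]
  set y := x ≫ (Groth.Agent.H4DR.PCoh.singleIso κ c).hom
  have hret : ((sgl A).map ι)⟦-c⟧' ≫ ((sgl A).map r)⟦-c⟧' = 𝟙 _ := by
    rw [← Functor.map_comp, ← Functor.map_comp, hιr, CategoryTheory.Functor.map_id, CategoryTheory.Functor.map_id]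
  have hz : y ≫ ((sgl A).map ι)⟦-c⟧' = 0 := by
    let eY : (Dual.inD A Y)⟦-d⟧ ≅ N := (sgIso Y d).symm ≪≫ e.symm
    let ψ : (Dual.inD A Y)⟦-c⟧ ≅ N⟦d - c⟧ :=
      (shiftFunctorAdd' (Dual.D A) (-d) (d - c) (-c) (by omega)).app _ ≪≫
        (shiftFunctor (Dual.D A) (d - c)).mapIso eY
    rw [← cancel_mono ψ.hom, zero_comp]
    exact eq_zero_transfer F ⟨DTen.unit A, hA⟩ X (d - c)
      (fun z => unit_hom_inD_eq_zero κ (by omega) z) _
  calc y = y ≫ ((sgl A).map ι)⟦-c⟧' ≫ ((sgl A).map r)⟦-c⟧' := by rw [hret]; exact (Category.comp_id _).symm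
    _ = 0 := by rw [reassoc_of% hz, zero_comp]

/-- The image of the unit under a linear triangulated autoequivalence is invertible. -/
theorem isInvertible_map_unit [IsNoetherianRing A] [DTen.HasLTen A] [DTen.HasLTen₃ A] [DTen.IsSymMonoidal A]
    [DTen.HasRHom A] {P : ObjectProperty (Dual.D A)}
    (hP : ∀ K : Dual.D A, P K ↔
      ((∀ i : ℤ, Module.Finite A (Dual.HD A K i)) ∧ ∃ a b : ℤ, ∀ i : ℤ, (i < a ∨ b < i) → Subsingleton (Dual.HD A K i)))
    [P.IsTriangulated]
    (F : P.FullSubcategory ⥤ P.FullSubcategory) [F.CommShift ℤ] [F.Full] [F.Faithful]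
    [F.Additive] [F.Linear A] (hA : P (DTen.unit A)) :
    DTen.IsInvertible A (F.obj ⟨DTen.unit A, hA⟩).obj := by
  let U : P.FullSubcategory := ⟨DTen.unit A, hA⟩
  let E := (F.obj U).obj
  change DTen.IsInvertible A E
  obtain ⟨hf, a, b, hab⟩ := (hP E).1 (F.obj U).property
  have hperf : DRing.IsPerfect A E := PerfectPoint.isPerfect_of_hom_residue hab hf fun m hm => by
    haveI := hm
    exact exists_residue_bound hP F hA m
  let η : DTen.unit A ⟶ (DTen.RHomR A E).obj E :=
    (DTen.rhomAdj A E).homEquiv _ _ ((DTen.unitL A).app E)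
  haveI : (DTen.tensorRightD A E).Linear A := Functor.linear_of_iso _ (flipIso' A E)
  haveI : (DTen.tensorRightD A E).Additive := Functor.additive_of_iso (flipIso' A E)
  have hhom : ∀ g : A, ((DTen.rhomAdj A E).homEquiv _ _).symm (g • η) = g • (DTen.unitL A).app E := by
    intro g
    rw [Adjunction.homEquiv_counit, Functor.map_smul, Linear.smul_comp, ← Adjunction.homEquiv_counit,
      Equiv.symm_apply_apply]
  let eU : ∀ k : ℤ, S A k ≅ (DTen.unit A)⟦k⟧ := fun k =>
    (asIso ((DTen.unitR A).app (S A k))).symm ≪≫ shiftTensorUnitIso k (DTen.unit A)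
  haveI hη : IsIso η := isIso_of_bijective_S η fun k => by
    by_cases hk : k = 0
    · subst hk
      let e₀ : S A 0 ≅ DTen.unit A := eU 0 ≪≫ (shiftFunctorZero (Dual.D A) ℤ).app _
      constructor
      · intro x y (hxy : x ≫ η = y ≫ η)
        obtain ⟨g, hg⟩ := unit_end (e₀.inv ≫ (x - y))
        rw [← sub_eq_zero, ← cancel_epi e₀.inv, comp_zero, hg]
        refine smul_eq_zero_transfer F U g ?_
        have h2 : g • η = 0 := by
          rw [← Category.id_comp η, ← Linear.smul_comp, ← hg, Category.assoc, Preadditive.sub_comp, hxy,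
            sub_self, comp_zero]
        have h3 := hhom g
        rw [h2, Adjunction.homEquiv_counit, Functor.map_zero, zero_comp] at h3
        rw [← cancel_epi ((DTen.unitL A).app E), comp_zero, Linear.comp_smul]
        exact ((congrArg (g • ·) (Category.comp_id _)).trans h3.symm)
      · intro y
        obtain ⟨g, hg⟩ := end_transfer F U (fun f => unit_end f)
          (inv ((DTen.unitL A).app E) ≫ ((DTen.rhomAdj A E).homEquiv _ _).symm (e₀.inv ≫ y))
        refine ⟨g • e₀.hom, ?_⟩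
        dsimp only
        rw [IsIso.inv_comp_eq, Linear.comp_smul] at hg
        rw [Linear.smul_comp, ← cancel_epi e₀.inv, Linear.comp_smul, Iso.inv_hom_id_assoc]
        apply ((DTen.rhomAdj A E).homEquiv _ _).symm.injective
        rw [hhom, hg]
        exact congrArg (g • ·) (Category.comp_id _).symm
    · have hsrc : ∀ x : S A k ⟶ DTen.unit A, x = 0 := fun x => by
        rw [← cancel_epi (eU k).inv, comp_zero]
        exact eq_zero_of_shift k (fun z => unit_hom_unit_eq_zero (by omega) z) _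
      have htgt : ∀ y : S A k ⟶ (DTen.RHomR A E).obj E, y = 0 := fun y => by
        apply ((DTen.rhomAdj A E).homEquiv _ _).symm.injective
        rw [Adjunction.homEquiv_counit, Adjunction.homEquiv_counit, Functor.map_zero, zero_comp]
        rw [← cancel_epi (shiftTensorUnitIso k E).inv, comp_zero]
        exact eq_zero_of_shift k
          (fun z => eq_zero_transfer F U U (-k) (fun w => unit_hom_unit_eq_zero (by omega) w) z) _
      exact ⟨fun x y _ => (hsrc x).trans (hsrc y).symm, fun y => ⟨0, zero_comp.trans (htgt y).symm⟩⟩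
  haveI := isIso_evalTen_of_isPerfect_right E (DTen.unit A) E hperf
  let L := (DTen.RHomR A E).obj (DTen.unit A)
  let e₁ : (DTen.LTen₂ A).obj (E, L) ≅ DTen.unit A :=
    asIso (DTen.evalTen E (DTen.unit A) E) ≪≫
      (DTen.RHomR A E).mapIso (asIso ((DTen.unitR A).app E)) ≪≫ (asIso η).symm
  exact ⟨L, ⟨e₁⟩, ⟨(asIso ((DTen.symm A).app (L, E))).symm ≪≫ e₁⟩⟩

end Groth.Agent.H25DTen.AutoDb
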