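import Groth.Prelude.Def_DTen3

/-! Formal facts about the derived tensor product and internal hom of `Def_DTen`. -/

set_option autoImplicit false

universe u
open CategoryTheory CategoryTheory.Limits MonoidalCategory
attribute [local instance] HasDerivedCategory.standard

namespace Groth.Agent.H25DTen

variable {A : Type u} [CommRing A]

lemma braidCx_braidCx (K L : DRing.Cx A) :
    (DTen.braidCx K L).hom ≫ (DTen.braidCx L K).hom = 𝟙 _ := by
  refine HomologicalComplex.hom_ext _ _ fun n => HomologicalComplex.mapBifunctor.hom_ext fun p q h => ?_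
  rw [HomologicalComplex.comp_f, HomologicalComplex.id_f]
  erw [DTen.ι_braidCx_hom_assoc K L p q n h]
  rw [Linear.units_smul_comp, Category.assoc]
  erw [DTen.ι_braidCx_hom L K q p n (by dsimp at h; omega)]
  rw [Linear.comp_units_smul, smul_smul, mul_comm q p, ← Int.negOnePow_add,
    Int.negOnePow_even _ ⟨_, rfl⟩, one_smul, SymmetricCategory.symmetry_assoc]
  exact (Category.comp_id _).symm

lemma symm_symm [DTen.HasLTen A] (K L : DRing.Cx A) :
    ((DTen.symm A).app (DerivedCategory.Q.obj L, DerivedCategory.Q.obj K) ≫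
      (DTen.symm A).app (DerivedCategory.Q.obj K, DerivedCategory.Q.obj L)) ≫ (DTen.ε A).app (K, L) =
      (DTen.ε A).app (K, L) := by
  rw [Category.assoc, DTen.symm_fac]
  erw [reassoc_of% (DTen.symm_fac A L K)]
  rw [← Functor.map_comp, braidCx_braidCx]
  erw [CategoryTheory.Functor.map_id, Category.comp_id]

theorem isIso_symm_app [DTen.HasLTen A] (K L : Dual.D A) : IsIso ((DTen.symm A).app (K, L)) := by
  let τ : DTen.LTen₂ A ⟶ DTen.LTen₂ A :=
    { app := fun X => (DTen.symm A).app (X.2, X.1) ≫ (DTen.symm A).app (X.1, X.2)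
      naturality := fun X Y f => by
        have h1 := (DTen.symm A).naturality (X := (X.2, X.1)) (Y := (Y.2, Y.1)) (Prod.mkHom f.2 f.1)
        have h2 := (DTen.symm A).naturality f
        simp only [Functor.comp_map, Prod.swap_map] at h1 h2
        change (DTen.LTen₂ A).map (Prod.mkHom f.1 f.2) ≫ _ ≫ _ = (_ ≫ _) ≫ _
        erw [reassoc_of% h1, h2, Category.assoc] }
  have hτ : τ = 𝟙 _ := by
    refine (DTen.LTen₂ A).leftDerived_ext (DTen.ε A) (DTen.qis₂ A) _ τ (𝟙 _) ?_
    ext ⟨K, L⟩
    simpa [τ] using symm_symm K L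
  refine ⟨(DTen.symm A).app (L, K), ?_, ?_⟩
  · exact congr_app hτ (L, K)
  · exact congr_app hτ (K, L)

lemma associator_naturality_left [DTen.HasLTen A] [DTen.HasLTen₃ A] [DTen.IsSymMonoidal A]
    {X X' : Dual.D A} (g : X ⟶ X') (K L : Dual.D A) :
    (DTen.LTen₂ A).map (Prod.mkHom ((DTen.LTen₂ A).map (Prod.mkHom g (𝟙 K))) (𝟙 L)) ≫
        (DTen.associator X' K L).hom =
      (DTen.associator X K L).hom ≫ (DTen.LTen₂ A).map (Prod.mkHom g (𝟙 ((DTen.LTen₂ A).obj (K, L)))) := by
  have nL := (DTen.assocL A).naturality (X := (X, (K, L))) (Y := (X', (K, L))) (Prod.mkHom g (𝟙 (K, L)))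
  have nR := (DTen.assocR A).naturality (X := (X, (K, L))) (Y := (X', (K, L))) (Prod.mkHom g (𝟙 (K, L)))
  have e : (DTen.LTenR A).map (Prod.mkHom g (𝟙 (K, L))) =
      (DTen.LTen₂ A).map (Prod.mkHom g (𝟙 ((DTen.LTen₂ A).obj (K, L)))) := by
    change (DTen.LTen₂ A).map (Prod.mkHom g ((DTen.LTen₂ A).map (𝟙 (K, L)))) = _
    rw [CategoryTheory.Functor.map_id]
  rw [← cancel_mono ((DTen.assocR A).app (X', (K, L))), Category.assoc, Category.assoc,
    DTen.associator_hom_assocR]
  rw [e] at nR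
  erw [nR, DTen.associator_hom_assocR_assoc]
  exact nL

theorem isIso_curryHom [DTen.HasLTen A] [DTen.HasLTen₃ A] [DTen.IsSymMonoidal A] [DTen.HasRHom A]
    (K L M : Dual.D A) : IsIso (DTen.curryHom K L M) := by
  refine (isIso_iff_yoneda_map_bijective _).2 fun X => ?_
  let e : (X ⟶ (DTen.RHomR A ((DTen.LTen₂ A).obj (K, L))).obj M) ≃
      (X ⟶ (DTen.RHomR A K).obj ((DTen.RHomR A L).obj M)) :=
    (DTen.rhomHomEquiv _ _ _).symm.trans
      ((Iso.homCongr (DTen.associator X K L).symm (Iso.refl M)).trans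
        ((DTen.rhomHomEquiv _ _ _).trans (DTen.rhomHomEquiv _ _ _)))
  convert e.bijective using 1
  funext g
  change g ≫ DTen.rhomHomEquiv _ _ _ (DTen.rhomHomEquiv _ _ _ (DTen.curryHomAux K L M)) = _
  erw [← Adjunction.homEquiv_naturality_left, ← Adjunction.homEquiv_naturality_left]
  simp only [e, Equiv.trans_apply, Iso.homCongr_apply, Iso.refl_hom, Category.comp_id, Iso.symm_inv]
  congr 2
  rw [DTen.curryHomAux, Adjunction.homEquiv_counit]
  erw [reassoc_of% (associator_naturality_left g K L)]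
  rfl

end Groth.Agent.H25DTen
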