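import Groth.Agent.H25DTen.RelRep

/-!
# Base change for derived hom along a ring map of perfect source
-/

set_option autoImplicit false
set_option backward.isDefEq.respectTransparency false

universe u

open CategoryTheory CategoryTheory.Limits MonoidalCategory Pretriangulated Opposite

attribute [local instance] HasDerivedCategory.standard

namespace Groth.Agent.H25DTen

variable {R : Type u} [CommRing R] [DTen.HasLTen R] [DTen.HasLTen₃ R] [DTen.IsSymMonoidal R]
  [DTen.HasRHom R]

section Products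

variable {ι : Type u} (Z : Dual.D R) (Zs : ι → Dual.D R) (π : ∀ i, Z ⟶ Zs i) (j : ℤ)

/-- `P ↦ ∏ Hom(S_j, P ⊗ Z_i)`. -/
noncomputable def piHom : Dual.D R ⥤ AddCommGrpCat.{u + 1} where
  obj P := AddCommGrpCat.of (∀ i, (S R j ⟶ (DTen.LTen₂ R).obj (P, Zs i)))
  map {P Q} g := AddCommGrpCat.ofHom (AddMonoidHom.mk' (fun x i => x i ≫ (TR (Zs i)).map g)
    fun x y => funext fun i => Preadditive.add_comp _ _ _ _ _ _)
  map_id P := AddCommGrpCat.hom_ext (AddMonoidHom.ext fun x => funext fun i =>
    (congrArg (x i ≫ ·) ((TR (Zs i)).map_id P)).trans (Category.comp_id _))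
  map_comp f g := AddCommGrpCat.hom_ext (AddMonoidHom.ext fun x => funext fun i =>
    (congrArg (x i ≫ ·) ((TR (Zs i)).map_comp f g)).trans (Category.assoc _ _ _).symm)

/-- `Hom(S_j, P ⊗ Z) ⟶ ∏ Hom(S_j, P ⊗ Z_i)`. -/
noncomputable def piNat : TR Z ⋙ preadditiveCoyoneda.obj (op (S R j)) ⟶ piHom Zs j where
  app P := AddCommGrpCat.ofHom (AddMonoidHom.mk' (fun x i => x ≫ (TL P).map (π i))
    fun x y => funext fun i => Preadditive.add_comp _ _ _ _ _ _)
  naturality P Q g := AddCommGrpCat.hom_ext (AddMonoidHom.ext fun x => funext fun i =>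
    ((Category.assoc _ _ _).trans
      ((congrArg (x ≫ ·) (interchange g (π i)).symm).trans (Category.assoc _ _ _).symm)).symm)

lemma isExact_piHom : Dev.IsExact (piHom Zs j) := by
  intro T hT x
  constructor
  · intro hx
    choose y hy using fun i => (isExact_coyoneda (Zs i) (S R j) T hT (x i)).1 (congrFun hx i)
    exact ⟨fun i => y i, funext hy⟩
  · rintro ⟨y, rfl⟩
    exact funext fun i => (isExact_coyoneda (Zs i) (S R j) T hT _).2 ⟨y i, rfl⟩

variable (hπ : ∀ X : Dual.D R, Function.Bijective (fun (x : X ⟶ Z) i => x ≫ π i))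

include hπ in
theorem piNat_bijective {P : Dual.D R} (hP : DRing.IsPerfect R P) :
    Function.Bijective ((piNat Z Zs π j).app P) := by
  let η := piNat Z Zs π j
  have key : ∀ n : ℤ, Function.Bijective (η.app (P⟦n⟧)) := by
    refine perfect_induction (fun P => ∀ n : ℤ, Function.Bijective (η.app (P⟦n⟧))) ?_ ?_ ?_ hP
    · intro P P' i r h h' n
      exact bijective_of_retract η (i⟦n⟧') (r⟦n⟧')
        (by rw [← Functor.map_comp, h, CategoryTheory.Functor.map_id]) (h' n)
    · exact fun T hT h₁ h₃ n => Dev.bijective_shift_ext η (isExact_coyoneda _ _) (isExact_piHom Zs j)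
        T hT h₁ h₃ n
    · intro k n
      refine bijective_of_retract η (shiftSIso k n).hom (shiftSIso k n).inv (Iso.hom_inv_id _) ?_
      haveI := isEquivalence_S (A := R) (k + n)
      obtain ⟨X, ⟨e⟩⟩ := Functor.EssSurj.mem_essImage (F := TL (S R (k + n))) (S R j)
      let E := fun Y => ((Functor.FullyFaithful.ofFullyFaithful (TL (S R (k + n)))).homEquiv
        (X := X) (Y := Y)).trans (Iso.homCongr e (Iso.refl _))
      change Function.Bijective (fun (x : S R j ⟶ (TL (S R (k + n))).obj Z) (i : ι) =>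
        x ≫ (TL (S R (k + n))).map (π i))
      convert ((Equiv.piCongrRight fun i => E (Zs i)).bijective.comp ((hπ X).comp (E Z).symm.bijective))
        using 1
      funext x
      obtain ⟨x', rfl⟩ := (E Z).surjective x
      funext i
      simp only [Function.comp_apply, Equiv.symm_apply_apply, Equiv.piCongrRight_apply, Pi.map_apply]
      change E Z x' ≫ (TL (S R (k + n))).map (π i) = E (Zs i) (x' ≫ π i)
      simp [E]
      exact ((TL (S R (k + n))).map_comp x' (π i)).symm
  exact bijective_of_retract η ((shiftFunctorZero (Dual.D R) ℤ).inv.app P)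
    ((shiftFunctorZero (Dual.D R) ℤ).hom.app P) (Iso.inv_hom_id_app _ _) (key 0)

variable {A : Type u} [CommRing A] (φ : R →+* A) [DTen.HasLTen A] [DTen.HasLBase φ] [DTen.HasResTen φ]
  [DTen.ResLegIso φ] [DTen.HasLTen₃ A] [DTen.IsSymMonoidal A]

/-- `A|_R ⊗ Z ⟶ (Z ⊗ A)|_R`. -/
noncomputable def projUnit (Z : Dual.D R) :
    (DTen.LTen₂ R).obj ((DRing.restrictD φ).obj (DTen.unit A), Z) ⟶
      (DRing.restrictD φ).obj ((DTen.LBase φ).obj Z) :=
  DTen.projPF φ (DTen.unit A) Z ≫ (DRing.restrictD φ).map ((DTen.unitL A).app ((DTen.LBase φ).obj Z))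

lemma isIso_projUnit (Z : Dual.D R) : IsIso (projUnit φ Z) :=
  IsIso.comp_isIso' (isIso_projPF φ _ Z) (Functor.map_isIso _ _)

lemma projUnit_naturality {Z Z' : Dual.D R} (g : Z ⟶ Z') :
    (TL ((DRing.restrictD φ).obj (DTen.unit A))).map g ≫ projUnit φ Z' =
      projUnit φ Z ≫ (DRing.restrictD φ).map ((DTen.LBase φ).map g) := by
  have h := projPF_naturality φ (𝟙 (DTen.unit A)) g
  rw [CategoryTheory.Functor.map_id] at h
  dsimp only [projUnit]
  rw [Category.assoc, ← Functor.map_comp]
  erw [reassoc_of% h]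
  rw [← Functor.map_comp]
  congr 2
  exact (DTen.unitL A).naturality ((DTen.LBase φ).map g)

include hπ in
theorem base_products_bijective (hA : DRing.IsPerfect R ((DRing.restrictD φ).obj (DTen.unit A))) :
    Function.Bijective (fun (x : (DTen.LBase φ).obj (S R j) ⟶ (DTen.LBase φ).obj Z) i =>
      x ≫ (DTen.LBase φ).map (π i)) := by
  haveI := isIso_projUnit φ Z
  haveI : ∀ i, IsIso (projUnit φ (Zs i)) := fun i => isIso_projUnit φ _
  let E := fun Y => ((DTen.baseAdj φ).homEquiv (S R j) ((DTen.LBase φ).obj Y))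
  let F : ∀ i, (S R j ⟶ (DTen.LTen₂ R).obj ((DRing.restrictD φ).obj (DTen.unit A), Zs i)) ≃
      ((DTen.LBase φ).obj (S R j) ⟶ (DTen.LBase φ).obj (Zs i)) := fun i =>
    (Iso.homCongr (Iso.refl _) (asIso (projUnit φ (Zs i)))).trans (E (Zs i)).symm
  let G := (Iso.homCongr (Iso.refl (S R j)) (asIso (projUnit φ Z))).trans (E Z).symm
  convert ((Equiv.piCongrRight F).bijective.comp
    ((piNat_bijective Z Zs π j hπ hA).comp G.symm.bijective)) using 1
  funext x
  obtain ⟨x', rfl⟩ := G.surjective x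
  funext i
  simp only [Function.comp_apply, Equiv.symm_apply_apply, Equiv.piCongrRight_apply, Pi.map_apply]
  change G x' ≫ (DTen.LBase φ).map (π i) = F i (x' ≫ (TL _).map (π i))
  simp only [G, F, Equiv.trans_apply, Iso.homCongr_apply, Iso.refl_inv, Category.id_comp, asIso_hom,
    Category.assoc, E]
  rw [← Adjunction.homEquiv_naturality_right_symm, Category.assoc, projUnit_naturality]

end Products

section

variable {R' : Type u} [CommRing R'] (φ : R →+* R') [DTen.HasLTen R'] [DTen.HasLBase φ] [DTen.HasResTen φ]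
  [DTen.ResLegIso φ] [DTen.HasLTen₃ R'] [DTen.IsSymMonoidal R'] [DTen.HasRHom R']

/-- The functors compared by `tb` are exact in the first variable. -/
lemma isExactOp_bcSrc (M : Dual.D R) (Y : Dual.D R') :
    Dev.IsExactOp ((DTen.RHom R).flip.obj M ⋙ DTen.LBase φ ⋙ preadditiveCoyoneda.obj (op Y)) := by
  haveI : (DTen.LBase φ).IsLeftAdjoint := (DTen.baseAdj φ).isLeftAdjoint
  intro T hT x
  constructor
  · intro hx
    obtain ⟨C, j, δ, hd⟩ := distinguished_cocone_triangle₁ (DTen.RHomMap T.mor₁ M)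
    obtain ⟨t, ht⟩ := exists_lift_RHomMap T hT M C j (comp_distTriang_mor_zero₁₂ _ hd)
    obtain ⟨y, hy⟩ := Dev.exists_lift_map (DTen.baseAdj φ) _ hd x hx
    refine ⟨y ≫ (DTen.LBase φ).map t, ?_⟩
    change (y ≫ _) ≫ (DTen.LBase φ).map (DTen.RHomMap T.mor₂ M) = x
    rw [Category.assoc]
    refine (congrArg (y ≫ ·) ?_).trans hy
    exact ((DTen.LBase φ).map_comp _ _).symm.trans (congrArg _ ht)
  · rintro ⟨y, rfl⟩
    change (y ≫ (DTen.LBase φ).map (DTen.RHomMap T.mor₂ M)) ≫
      (DTen.LBase φ).map (DTen.RHomMap T.mor₁ M) = 0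
    rw [Category.assoc, ← Functor.map_comp]
    refine (congrArg (fun z => y ≫ (DTen.LBase φ).map z) (RHomMap_comp_zero T hT M)).trans ?_
    exact (congrArg (y ≫ ·) ((DTen.LBase φ).map_zero _ _)).trans comp_zero

lemma isExactOp_bcTgt (M : Dual.D R) (Y : Dual.D R') :
    Dev.IsExactOp ((DTen.LBase φ ⋙ TL Y).op ⋙ preadditiveYoneda.obj ((DTen.LBase φ).obj M)) := by
  let adj := (DTen.baseAdj φ).comp (leftAdj Y)
  haveI : (DTen.LBase φ ⋙ TL Y).IsLeftAdjoint := adj.isLeftAdjoint
  intro T hT x
  constructor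
  · exact fun hx => Dev.exists_factor_map adj T hT x hx
  · rintro ⟨y, rfl⟩
    change (DTen.LBase φ ⋙ TL Y).map T.mor₁ ≫ (DTen.LBase φ ⋙ TL Y).map T.mor₂ ≫ y = 0
    rw [← Functor.map_comp_assoc, comp_distTriang_mor_zero₁₂ _ hT, Functor.map_zero, zero_comp]

/-- `R[k] ⊗_R R' ≅ R'[k]`. -/
noncomputable def baseShiftIso (k : ℤ) : (DTen.LBase φ).obj (S R k) ≅ S R' k :=
  haveI := isIso_baseCmp φ (unitCx R k) (isKFlat_unitCx k)
  asIso ((DTen.baseCmp φ).app (unitCx R k)) ≪≫ DerivedCategory.Q.mapIso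
    (((DTen.extCx φ).commShiftIso k).app _ ≪≫ (shiftFunctor (DRing.Cx R') k).mapIso (extUnitIso φ))

/-- `bcRHom` is an isomorphism as soon as it is seen to be one by the shifts of `R`. -/
theorem isIso_bcRHom_of_bijective (K M : Dual.D R) [IsIso (DTen.rhomBC φ K ((DTen.LBase φ).obj M))]
    (h : ∀ j : ℤ, Function.Bijective (tb φ K M ((DTen.LBase φ).obj (S R j)))) :
    IsIso (DTen.bcRHom φ K M) := by
  refine isIso_of_bijective_S _ fun j => ?_
  let e : (DTen.LBase φ).obj (S R j) ≅ S R' j := baseShiftIso φ j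
  convert ((Iso.homCongr e (Iso.refl _)).bijective.comp
    (((DTen.rhomHomEquiv ((DTen.LBase φ).obj (S R j)) ((DTen.LBase φ).obj K)
      ((DTen.LBase φ).obj M)).bijective.comp (h j)).comp
      (Iso.homCongr e (Iso.refl _)).symm.bijective)) using 1
  funext x
  obtain ⟨f, rfl⟩ := (Iso.homCongr e (Iso.refl _)).surjective x
  dsimp only [Function.comp_apply]
  rw [Equiv.symm_apply_apply]
  simp only [Iso.homCongr_apply, Iso.refl_hom, Category.comp_id]
  rw [Category.assoc]
  exact congrArg (e.inv ≫ ·) ((congrArg (f ≫ ·) (bcRHom_eq φ K M)).trans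
    (Adjunction.homEquiv_naturality_left _ _ _).symm)

theorem isIso_bcRHom_of_isPerfect_base' (K M : Dual.D R)
    [IsIso (DTen.rhomBC φ K ((DTen.LBase φ).obj M))]
    (hA : DRing.IsPerfect R ((DRing.restrictD φ).obj (DTen.unit R'))) :
    IsIso (DTen.bcRHom φ K M) := by
  refine isIso_bcRHom_of_bijective φ K M fun j => ?_
  let Y := (DTen.LBase φ).obj (S R j)
  let η := tbNat φ M Y
  have key : ∀ n : ℤ, Function.Bijective (η.app (op (K⟦n⟧))) := by
    refine localizing_induction (fun K => ∀ n : ℤ, Function.Bijective (η.app (op (K⟦n⟧)))) ?_ ?_ ?_ ?_ K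
    · intro K K' i r h h' n
      exact bijective_of_retract η (r⟦n⟧').op (i⟦n⟧').op
        (by rw [← op_comp, ← Functor.map_comp, h, CategoryTheory.Functor.map_id, op_id]) (h' n)
    · exact fun T hT h₁ h₃ n =>
        Dev.bijective_shift_ext_op η (isExactOp_bcSrc φ M Y) (isExactOp_bcTgt φ M Y) T hT h₁ h₃ n
    · intro ι K hK n
      haveI := Groth.Agent.H16Derived.QCoprod.preservesColimit_Q K
      let K' := fun i => (DerivedCategory.Q.obj (K i))⟦n⟧
      let inj : ∀ i, K' i ⟶ (DerivedCategory.Q.obj (∐ K))⟦n⟧ :=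
        fun i => (DerivedCategory.Q.map (Sigma.ι K i))⟦n⟧'
      let c : IsColimit (Cofan.mk ((DerivedCategory.Q.obj (∐ K))⟦n⟧) inj) :=
        isColimitCofanMkObjOfIsColimit (shiftFunctor (Dual.D R) n) _ _
          (isColimitCofanMkObjOfIsColimit DerivedCategory.Q _ _ (coproductIsCoproduct K))
      have bij : ∀ (G : Dual.D R ⥤ Dual.D R') (_ : G.IsLeftAdjoint) (W : Dual.D R'),
          Function.Bijective (fun (x : G.obj ((DerivedCategory.Q.obj (∐ K))⟦n⟧) ⟶ W) i =>
            G.map (inj i) ≫ x) := fun G _ W =>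
        ⟨fun x y h => Cofan.IsColimit.hom_ext (isColimitCofanMkObjOfIsColimit G _ _ c) _ _ (congrFun h),
          fun y => ⟨Cofan.IsColimit.desc (isColimitCofanMkObjOfIsColimit G _ _ c) y,
            funext fun i => Cofan.IsColimit.fac (isColimitCofanMkObjOfIsColimit G _ _ c) y i⟩⟩
      have hπ : ∀ X, Function.Bijective (fun (x : X ⟶ (DTen.RHomR R ((DerivedCategory.Q.obj (∐ K))⟦n⟧)).obj M) i =>
          x ≫ DTen.RHomMap (inj i) M) := fun X => by
        haveI : (TL X).IsLeftAdjoint := (leftAdj X).isLeftAdjoint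
        let cX := isColimitCofanMkObjOfIsColimit (TL X) _ _ c
        convert (Equiv.piCongrRight fun i => DTen.rhomHomEquiv X (K' i) M).bijective.comp
          ((show Function.Bijective (fun (x : (TL X).obj ((DerivedCategory.Q.obj (∐ K))⟦n⟧) ⟶ M) i =>
              (TL X).map (inj i) ≫ x) from
            ⟨fun x y h => Cofan.IsColimit.hom_ext cX _ _ (congrFun h),
              fun y => ⟨Cofan.IsColimit.desc cX y, funext fun i => Cofan.IsColimit.fac cX y i⟩⟩).comp
            (DTen.rhomHomEquiv X _ M).symm.bijective) using 1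
        funext x
        funext i
        apply (DTen.rhomHomEquiv X (K' i) M).symm.injective
        simp only [Function.comp_apply, Equiv.piCongrRight_apply, Pi.map_apply]
        rw [Equiv.symm_apply_apply, symm_comp_RHomMap]
      have hs := base_products_bijective ((DTen.RHomR R _).obj M) (fun i => (DTen.RHomR R (K' i)).obj M)
        (fun i => DTen.RHomMap (inj i) M) j hπ φ hA
      have ht := bij (DTen.LBase φ ⋙ TL Y) ((DTen.baseAdj φ).comp (leftAdj Y)).isLeftAdjoint
        ((DTen.LBase φ).obj M)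
      have nat : ∀ (i : ι) (x : Y ⟶ (DTen.LBase φ).obj ((DTen.RHomR R _).obj M)),
          η.app (op (K' i)) (x ≫ (DTen.LBase φ).map (DTen.RHomMap (inj i) M)) =
            (TL Y).map ((DTen.LBase φ).map (inj i)) ≫ η.app (op _) x := fun i x =>
        NatTrans.naturality_apply η (inj i).op x
      constructor
      · intro (x : Y ⟶ _) (y : Y ⟶ _) hxy
        exact hs.1 (funext fun i => (hK i n).1 ((nat i x).trans
          ((congrArg (_ ≫ ·) hxy).trans (nat i y).symm)))
      · intro z
        choose x hx using fun i => (hK i n).2 ((TL Y).map ((DTen.LBase φ).map (inj i)) ≫ z)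
        obtain ⟨w, hw⟩ := hs.2 fun i => x i
        refine ⟨w, ht.1 (funext fun i => ?_)⟩
        exact (nat i w).symm.trans ((congrArg (η.app (op (K' i))) (congrFun hw i)).trans (hx i))
    · intro k n
      exact bijective_of_retract η (shiftSIso k n).inv.op (shiftSIso k n).hom.op
        (by rw [← op_comp, Iso.hom_inv_id, op_id]) (tb_S_bijective φ (k + n) M Y)
  exact bijective_of_retract η ((shiftFunctorZero (Dual.D R) ℤ).hom.app K).op
    ((shiftFunctorZero (Dual.D R) ℤ).inv.app K).op
    (by rw [← op_comp, Iso.inv_hom_id_app]; exact op_id ..) (key 0)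

end

end Groth.Agent.H25DTen

namespace Groth.Agent.H25DTen

variable {R R' : Type u} [CommRing R] [CommRing R'] [Algebra R R']

/-- `R'[0]` over `R` is the restriction of the unit. -/
noncomputable def restrictUnitIso :
    Dual.inD R R' ≅ (DRing.restrictD (algebraMap R R')).obj (DTen.unit R') :=
  (DerivedCategory.singleFunctor (ModuleCat.{u} R) 0).mapIso
    (show R' ≃ₗ[R] (DTen.resM (algebraMap R R')).obj (ModuleCat.of R' R') from
      { toFun := fun a => a, invFun := fun a => a, map_add' := fun _ _ => rfl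
        map_smul' := fun r a => Algebra.smul_def r a
        left_inv := fun _ => rfl, right_inv := fun _ => rfl }).toModuleIso ≪≫
  (((DTen.resM (algebraMap R R')).mapDerivedCategorySingleFunctor 0).app (ModuleCat.of R' R')).symm ≪≫
  (DRing.restrictD (algebraMap R R')).mapIso
    ((DerivedCategory.singleFunctorIsoCompQ (ModuleCat.{u} R') 0).app (ModuleCat.of R' R'))

theorem isIso_bcRHom_of_isPerfectModule [DTen.HasLTen R] [DTen.HasLTen R'] [DTen.HasRHom R] [DTen.HasRHom R']
    [DTen.HasLBase (algebraMap R R')] [DTen.HasResTen (algebraMap R R')]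
    [DTen.ResLegIso (algebraMap R R')] (K M : Dual.D R)
    [IsIso (DTen.rhomBC (algebraMap R R') K ((DTen.LBase (algebraMap R R')).obj M))]
    (hR' : DRing.IsPerfectModule R R') :
    IsIso (DTen.bcRHom (algebraMap R R') K M) := by
  haveI : DTen.HasLTen₃ R := hasLTen₃
  haveI : DTen.HasLTen₃ R' := hasLTen₃
  haveI : DTen.IsSymMonoidal R := isSymMonoidal
  haveI : DTen.IsSymMonoidal R' := isSymMonoidal
  obtain ⟨E, a, b, h1, h2, ⟨e⟩⟩ := hR'
  exact isIso_bcRHom_of_isPerfect_base' _ K M ⟨E, a, b, h1, h2, ⟨e ≪≫ restrictUnitIso⟩⟩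

end Groth.Agent.H25DTen
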