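import Groth.Agent.H25DTen.BcPerfect
import Groth.Agent.H25DTen.Amplitude
import Groth.Agent.H16Derived.KFlat.BoundedAbove

/-!
# Base change for derived hom out of a pseudo-coherent complex
-/

set_option autoImplicit false
set_option backward.isDefEq.respectTransparency false

universe u

open CategoryTheory CategoryTheory.Limits MonoidalCategory Pretriangulated Opposite

attribute [local instance] HasDerivedCategory.standard

namespace Groth.Agent.H25DTen

open Groth.Agent.H16Derived

variable {R R' : Type u} [CommRing R] [CommRing R'] (φ : R →+* R')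
  [DTen.HasLTen R] [DTen.HasLTen R'] [DTen.HasLBase φ] [DTen.HasResTen φ] [DTen.ResLegIso φ]
  [DTen.HasLTen₃ R] [DTen.HasLTen₃ R'] [DTen.IsSymMonoidal R] [DTen.IsSymMonoidal R']
  [DTen.HasRHom R] [DTen.HasRHom R']

theorem tb_bijective_of_isPerfect {K : Dual.D R} (hK : DRing.IsPerfect R K) (M : Dual.D R) (Y : Dual.D R')
    (n : ℤ) : Function.Bijective ((tbNat φ M Y).app (op (K⟦n⟧))) := by
  let η := tbNat φ M Y
  refine perfect_induction (fun K => ∀ n : ℤ, Function.Bijective (η.app (op (K⟦n⟧)))) ?_ ?_ ?_ hK n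
  · intro K K' i r h h' n
    exact bijective_of_retract η (r⟦n⟧').op (i⟦n⟧').op
      (by rw [← op_comp, ← Functor.map_comp, h, CategoryTheory.Functor.map_id, op_id]) (h' n)
  · exact fun T hT h₁ h₃ n =>
      Dev.bijective_shift_ext_op η (isExactOp_bcSrc φ M Y) (isExactOp_bcTgt φ M Y) T hT h₁ h₃ n
  · intro k n
    exact bijective_of_retract η (shiftSIso k n).inv.op (shiftSIso k n).hom.op
      (by rw [← op_comp, Iso.hom_inv_id, op_id]) (tb_S_bijective φ (k + n) M Y)

/-- The amplitude hypothesis. -/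
def ResBaseGE (d : ℕ) : Prop :=
  ∀ (Z : Dual.D R) (c : ℤ), Z.IsGE c → ((DRing.restrictD φ).obj ((DTen.LBase φ).obj Z)).IsGE (c - d)

theorem tb_bijective_of_isLE {d : ℕ} (hd : ResBaseGE φ d) {C M : Dual.D R} {a n j : ℤ}
    (hC : C.IsLE a) (hM : M.IsGE n) (ha : a - j < n - d) :
    Function.Bijective ((tbNat φ M ((DTen.LBase φ).obj (S R j))).app (op C)) := by
  have hs : ∀ f : (DTen.LBase φ).obj (S R j) ⟶ (DTen.LBase φ).obj ((DTen.RHomR R C).obj M), f = 0 := by
    intro f
    apply ((DTen.baseAdj φ).homEquiv _ _).injective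
    have hz : ∀ g : S R j ⟶ (DRing.restrictD φ).obj ((DTen.LBase φ).obj ((DTen.RHomR R C).obj M)), g = 0 :=
      hom_S_eq_zero_of_isGE (c := n - a - d) (by omega) (hd _ _ (isGE_RHom (c := n - a) (by omega) hC hM))
    exact (hz _).trans (hz _).symm
  have ht : ∀ g : (TL ((DTen.LBase φ).obj (S R j))).obj ((DTen.LBase φ).obj C) ⟶ (DTen.LBase φ).obj M,
      g = 0 := by
    intro g
    haveI := isIso_μ φ (S R j) C
    rw [← cancel_epi (μ φ (S R j) C), comp_zero]
    apply ((DTen.baseAdj φ).homEquiv _ _).injective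
    haveI := DerivedCategory.TStructure.t.isLE_shift C a j (a - j)
    have hz : ∀ g : (DTen.LTen₂ R).obj (S R j, C) ⟶ (DRing.restrictD φ).obj ((DTen.LBase φ).obj M), g = 0 :=
      fun g => DerivedCategory.TStructure.t.zero_of_isLE_of_isGE g (a - j) (n - d) ha
        (DerivedCategory.TStructure.t.isLE_of_iso (shiftTensorUnitIso j C).symm _) (hd _ _ hM)
    exact (hz _).trans (hz _).symm
  exact ⟨fun x y _ => (hs x).trans (hs y).symm, fun y => ⟨0, (ht _).trans (ht y).symm⟩⟩

theorem isIso_bcRHom_of_pseudo {d : ℕ} (hd : ResBaseGE φ d) (K M : Dual.D R)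
    [IsIso (DTen.rhomBC φ K ((DTen.LBase φ).obj M))] (hK : DRing.IsPseudoCoherent' R K) (n : ℤ)
    (hM : M.IsGE n) : IsIso (DTen.bcRHom φ K M) := by
  obtain ⟨E, b, hb, hff, ⟨e⟩⟩ := hK
  refine isIso_bcRHom_of_bijective φ K M fun j => ?_
  let Y := (DTen.LBase φ).obj (S R j)
  let η := tbNat φ M Y
  change Function.Bijective (η.app (op K))
  refine bijective_of_retract η e.hom.op e.inv.op (by rw [← op_comp, Iso.inv_hom_id, op_id]) ?_
  let m := n - d + j - 1
  let Sq := KFlat.Brutal.S E m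
  have hSq : Sq.ShortExact := KFlat.Brutal.shortExact E m
  let T := DerivedCategory.triangleOfSES hSq
  have hT : T ∈ (distTriang _) := DerivedCategory.triangleOfSES_distinguished hSq
  haveI : CochainComplex.IsStrictlyLE (cokernel (KFlat.Brutal.ι E m)) (m - 1) :=
    (CochainComplex.isStrictlyLE_iff _ _).2 fun q hq => KFlat.Brutal.isZero_cokernel E m (by omega)
  have hC : (T.obj₃).IsLE (m - 1) :=
    inferInstanceAs ((DerivedCategory.Q.obj (cokernel (KFlat.Brutal.ι E m))).IsLE (m - 1))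
  have hP : DRing.IsPerfect R T.obj₁ := by
    refine ⟨KFlat.Brutal.geq E m, m, b, fun i hi => ?_, fun i => ?_, ⟨Iso.refl _⟩⟩
    · by_cases h : m ≤ i
      · haveI := KFlat.Brutal.isIso_ι_f E m h
        exact (hb i (by omega)).of_iso (asIso ((KFlat.Brutal.ι E m).f i))
      · exact KFlat.Brutal.isZero_geq E m (by omega)
    · by_cases h : m ≤ i
      · haveI := KFlat.Brutal.isIso_ι_f E m h
        let l := (asIso ((KFlat.Brutal.ι E m).f i)).toLinearEquiv
        haveI := (hff i).1
        haveI := (hff i).2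
        exact ⟨Module.Finite.equiv l.symm, Module.Projective.of_equiv l.symm⟩
      · haveI := ModuleCat.subsingleton_of_isZero (KFlat.Brutal.isZero_geq E m (q := i) (by omega))
        exact ⟨inferInstance, inferInstance⟩
  have h1 : ∀ k : ℤ, Function.Bijective (η.app (op (T.obj₁⟦k⟧))) := tb_bijective_of_isPerfect φ hP M Y
  refine Dev.bijective_obj₂_op η (isExactOp_bcSrc φ M Y) (isExactOp_bcTgt φ M Y) T hT ?_ ?_ ?_ ?_
  · haveI := hC
    haveI := DerivedCategory.TStructure.t.isLE_shift T.obj₃ (m - 1) (-1) m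
    exact tb_bijective_of_isLE φ hd (C := T.obj₃⟦(-1 : ℤ)⟧) (a := m) inferInstance hM (by omega)
  · exact bijective_of_retract η ((shiftFunctorZero (Dual.D R) ℤ).hom.app T.obj₁).op
      ((shiftFunctorZero (Dual.D R) ℤ).inv.app T.obj₁).op
      (by rw [← op_comp, Iso.inv_hom_id_app]; exact op_id ..) (h1 0)
  · exact tb_bijective_of_isLE φ hd hC hM (by omega)
  · exact h1 1

end Groth.Agent.H25DTen

namespace Groth.Agent.H25DTen

variable {R R' : Type u} [CommRing R] [CommRing R'] [Algebra R R']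

theorem isIso_bcRHom_of_torDim [DTen.HasLTen R] [DTen.HasLTen R'] [DTen.HasRHom R] [DTen.HasRHom R']
    [DTen.HasLBase (algebraMap R R')] [DTen.HasResTen (algebraMap R R')]
    [DTen.ResLegIso (algebraMap R R')] (K M : Dual.D R)
    [IsIso (DTen.rhomBC (algebraMap R R') K ((DTen.LBase (algebraMap R R')).obj M))]
    (hR' : DRing.HasFiniteTorDim R R') (hK : DRing.IsPseudoCoherent' R K) (n : ℤ)
    (hM : DerivedCategory.IsGE M n) : IsIso (DTen.bcRHom (algebraMap R R') K M) := by
  haveI : DTen.HasLTen₃ R := hasLTen₃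
  haveI : DTen.HasLTen₃ R' := hasLTen₃
  haveI : DTen.IsSymMonoidal R := isSymMonoidal
  haveI : DTen.IsSymMonoidal R' := isSymMonoidal
  obtain ⟨d, hd⟩ := hR'
  refine isIso_bcRHom_of_pseudo _ (d := d) (fun Z c hZ => ?_) K M hK n hM
  haveI := isGE_tensor_of_torDim hZ d R' hd
  haveI := isIso_projUnit (algebraMap R R') Z
  exact DerivedCategory.TStructure.t.isGE_of_iso
    (X := (DTen.LTen₂ R).obj (Dual.inD R R', Z))
    ((DTen.LTen₂ R).mapIso (restrictUnitIso.prod (Iso.refl Z)) ≪≫ asIso (projUnit (algebraMap R R') Z)) _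

end Groth.Agent.H25DTen
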