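import Groth.Agent.H25DTen.RelRep
import Groth.Agent.H16Derived.ShiftHom
import Groth.Agent.H8Props.PseudoCoh.PerfectModule
import Mathlib

/-!
# The relative dualizing complex of an effective Cartier divisor
-/

set_option autoImplicit false
set_option backward.isDefEq.respectTransparency false

universe u

open CategoryTheory CategoryTheory.Limits MonoidalCategory Pretriangulated Opposite
open scoped TensorProduct

attribute [local instance] HasDerivedCategory.standard

namespace Groth.Agent.H25DTen

open Groth.Agent.H16Derived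

section

variable {R : Type u} [CommRing R]

/-- Single-object complexes in degree zero. -/
noncomputable abbrev sgl (R : Type u) [CommRing R] : ModuleCat.{u} R ⥤ Dual.D R :=
  DerivedCategory.singleFunctor (ModuleCat.{u} R) 0

/-- `A[0]` is the unit. -/
noncomputable def unitSglIso : DTen.unit R ≅ (sgl R).obj (ModuleCat.of R R) :=
  ((DerivedCategory.singleFunctorIsoCompQ (ModuleCat.{u} R) 0).app (ModuleCat.of R R)).symm

lemma sgl_hom_shift_eq_zero {P Y : ModuleCat.{u} R} [hP : CategoryTheory.Projective P] {n : ℤ} (hn : n ≠ 0)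
    (f : (sgl R).obj P ⟶ ((sgl R).obj Y)⟦n⟧) : f = 0 := by
  let E : DRing.Cx R := (HomologicalComplex.single (ModuleCat.{u} R) (ComplexShape.up ℤ) 0).obj P
  let L : DRing.Cx R := (HomologicalComplex.single (ModuleCat.{u} R) (ComplexShape.up ℤ) 0).obj Y
  haveI : E.IsStrictlyLE 0 := (CochainComplex.isStrictlyLE_iff E 0).2 fun q hq =>
    HomologicalComplex.isZero_single_obj_X (ComplexShape.up ℤ) 0 _ q (by omega)
  haveI : ∀ q, CategoryTheory.Projective (E.X q) := fun q => by
    by_cases hq : q = 0
    · subst hq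
      exact Projective.of_iso (HomologicalComplex.singleObjXSelf (ComplexShape.up ℤ) 0 _).symm hP
    · haveI := ModuleCat.subsingleton_of_isZero
        (HomologicalComplex.isZero_single_obj_X (ComplexShape.up ℤ) 0 P q hq)
      exact (IsProjective.iff_projective (E.X q)).1 inferInstance
  haveI := CochainComplex.isKProjective_of_projective E 0
  have hz : ∀ g : DerivedCategory.Q.obj E ⟶ DerivedCategory.Q.obj (L⟦n⟧), g = 0 := by
    intro g
    obtain ⟨ψ', hψ'⟩ := (CochainComplex.IsKProjective.Qh_map_bijective E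
      ((HomotopyCategory.quotient _ _).obj (L⟦n⟧))).2
        ((DerivedCategory.quotientCompQhIso _).hom.app E ≫ g ≫
          (DerivedCategory.quotientCompQhIso _).inv.app _)
    obtain ⟨ψ, rfl⟩ := (HomotopyCategory.quotient _ _).map_surjective ψ'
    have h0 : ψ = 0 := HomologicalComplex.from_single_hom_ext
      ((HomologicalComplex.isZero_single_obj_X (ComplexShape.up ℤ) 0 Y (0 + n) (by omega)).eq_of_tgt _ _)
    rw [h0] at hψ'
    rw [← cancel_epi ((DerivedCategory.quotientCompQhIso _).hom.app E),
      ← cancel_mono ((DerivedCategory.quotientCompQhIso _).inv.app (L⟦n⟧)), Category.assoc, ← hψ']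
    simp
  let e := (DerivedCategory.singleFunctorIsoCompQ (ModuleCat.{u} R) 0)
  exact hom_eq_zero_of_iso (e.app P).symm
    (((DerivedCategory.Q (C := ModuleCat.{u} R)).commShiftIso n).app L ≪≫
      (shiftFunctor (Dual.D R) n).mapIso (e.app Y).symm) hz f

lemma shift_shift_eq_zero {C : Type*} [Category C] [Preadditive C] [HasShift C ℤ]
    [∀ n : ℤ, (shiftFunctor C n).Additive] {X Y : C} (a b : ℤ)
    (h : ∀ f : X ⟶ Y⟦b - a⟧, f = 0) (g : X⟦a⟧ ⟶ Y⟦b⟧) : g = 0 :=
  shift_hom_eq_zero_of_diff 0 (b - a) a b (by omega)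
    (fun f => hom_eq_zero_of_iso ((shiftFunctorZero C ℤ).app X).symm (Iso.refl _) h f) g

end

variable {R A : Type u} [CommRing R] [CommRing A] [Algebra R A]

/-- `Hom_R(ker, R) ⟶ Hom_R(ker, A)`. -/
noncomputable def dualSeq (hφ : Function.Surjective (algebraMap R A))
    [Module.Invertible R (RingHom.ker (algebraMap R A))] :
    ShortComplex (ModuleCat.{u} R) :=
  let I := RingHom.ker (algebraMap R A)
  ShortComplex.mk (X₁ := ModuleCat.of R R) (X₂ := ModuleCat.of R (I →ₗ[R] R))
    (X₃ := (DTen.resM (algebraMap R A)).obj (ModuleCat.of A (I →ₗ[R] A)))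
    (ModuleCat.ofHom (LinearMap.toSpanSingleton R _ (Submodule.subtype I)))
    (ModuleCat.ofHom (Y := (DTen.resM (algebraMap R A)).obj (ModuleCat.of A (I →ₗ[R] A)))
      { toFun := fun f => (show I →ₗ[R] A from (Algebra.linearMap R A).comp f)
        map_add' := fun f g => LinearMap.comp_add _ _ _
        map_smul' := fun r f => LinearMap.ext fun x => by
          change algebraMap R A (r * f x) = algebraMap R A r * algebraMap R A (f x)
          exact map_mul _ _ _ })
    (by
      refine ModuleCat.hom_ext (LinearMap.ext_ring (LinearMap.ext fun x => ?_))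
      change algebraMap R A ((1 : R) • (x : R)) = 0
      rw [one_smul]; exact x.2)

variable (hφ : Function.Surjective (algebraMap R A))
  [Module.Invertible R (RingHom.ker (algebraMap R A))]

lemma dualSeq_shortExact : (dualSeq hφ).ShortExact := by
  refine
    { exact := (ShortComplex.ShortExact.moduleCat_exact_iff_function_exact _).2
        fun (f : RingHom.ker (algebraMap R A) →ₗ[R] R) => ?_
      mono_f := (ModuleCat.mono_iff_injective _).2 ?_
      epi_g := (ModuleCat.epi_iff_surjective _).2 ?_ }
  · constructor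
    · intro hf
      have hmem : ∀ x, f x ∈ RingHom.ker (algebraMap R A) := fun x => LinearMap.congr_fun hf x
      obtain ⟨r, hr⟩ := (Module.Invertible.toModuleEnd_bijective R (RingHom.ker (algebraMap R A))).2
        (LinearMap.codRestrict (RingHom.ker (algebraMap R A)) f hmem)
      refine ⟨r, LinearMap.ext fun x => ?_⟩
      exact congrArg Subtype.val (LinearMap.congr_fun hr x)
    · rintro ⟨(r : R), rfl⟩
      refine LinearMap.ext fun x => ?_
      change algebraMap R A (r * (x : R)) = 0
      rw [map_mul, x.2, mul_zero]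
  · intro (r : R) (s : R) h
    refine (Module.Invertible.toModuleEnd_bijective R (RingHom.ker (algebraMap R A))).1
      (LinearMap.ext fun x => Subtype.ext ?_)
    exact LinearMap.congr_fun h x
  · intro g
    obtain ⟨f, hf⟩ := Module.projective_lifting_property (Algebra.linearMap R A)
      (show RingHom.ker (algebraMap R A) →ₗ[R] A from g) hφ
    exact ⟨f, hf⟩

/-- `ker ⟶ R ⟶ A`. -/
noncomputable def kerSeq : ShortComplex (ModuleCat.{u} R) :=
  ShortComplex.mk (X₁ := ModuleCat.of R (RingHom.ker (algebraMap R A))) (X₂ := ModuleCat.of R R)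
    (X₃ := (DTen.resM (algebraMap R A)).obj (ModuleCat.of A A))
    (ModuleCat.ofHom (Submodule.subtype (RingHom.ker (algebraMap R A))))
    (ModuleCat.ofHom (Y := (DTen.resM (algebraMap R A)).obj (ModuleCat.of A A))
      { toFun := fun r => (show A from algebraMap R A r)
        map_add' := map_add _
        map_smul' := fun r s => map_mul (algebraMap R A) r s })
    (ModuleCat.hom_ext (LinearMap.ext fun x => x.2))

include hφ in
lemma kerSeq_shortExact : (kerSeq (R := R) (A := A)).ShortExact where
  exact := (ShortComplex.ShortExact.moduleCat_exact_iff_function_exact _).2 fun r =>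
    ⟨fun h => ⟨⟨r, h⟩, rfl⟩, by rintro ⟨x, rfl⟩; exact x.2⟩
  mono_f := (ModuleCat.mono_iff_injective _).2 Subtype.val_injective
  epi_g := (ModuleCat.epi_iff_surjective _).2 hφ

omit [Module.Invertible R (RingHom.ker (algebraMap R A))] in
/-- `A` acts trivially on homs into modules killed by nothing in the kernel. -/
lemma hom_res_eq_zero {P : Type u} [AddCommGroup P] [Module R P]
    (hP : ∀ m : P, (∀ x : RingHom.ker (algebraMap R A), (x : R) • m = 0) → m = 0)
    (g : (DTen.resM (algebraMap R A)).obj (ModuleCat.of A A) ⟶ ModuleCat.of R P) : g = 0 := by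
  refine ModuleCat.hom_ext (LinearMap.ext fun a => hP _ fun x => ?_)
  refine (g.hom.map_smul (x : R) a).symm.trans ?_
  have : ((x : R) • a : (DTen.resM (algebraMap R A)).obj (ModuleCat.of A A)) = 0 := by
    change algebraMap R A (x : R) * (show A from a) = 0
    rw [x.2, zero_mul]
  rw [this, map_zero]

lemma eq_zero_of_ker_smul {m : R} (h : ∀ x : RingHom.ker (algebraMap R A), (x : R) • m = 0) : m = 0 := by
  refine (Module.Invertible.toModuleEnd_bijective R (RingHom.ker (algebraMap R A))).1
    (LinearMap.ext fun x => Subtype.ext ?_)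
  change m * (x : R) = (0 : R) * (x : R)
  rw [zero_mul, mul_comm]
  exact h x

/-- The extension class `N'|_R ⟶ R[1]`. -/
noncomputable abbrev dualδ :
    (sgl R).obj ((DTen.resM (algebraMap R A)).obj
        (ModuleCat.of A (RingHom.ker (algebraMap R A) →ₗ[R] A))) ⟶
      ((sgl R).obj (ModuleCat.of R R))⟦(1 : ℤ)⟧ :=
  (dualSeq_shortExact hφ).singleδ

theorem dualδ_bijective : Function.Bijective
    (fun g : ModuleCat.of A A ⟶ ModuleCat.of A (RingHom.ker (algebraMap R A) →ₗ[R] A) =>
      (sgl R).map ((DTen.resM (algebraMap R A)).map g) ≫ dualδ hφ) := by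
  let I := RingHom.ker (algebraMap R A)
  have h₂ := dualSeq_shortExact hφ
  have h₁ := kerSeq_shortExact (R := R) (A := A) hφ
  constructor
  · intro g g' hgg
    rw [← sub_eq_zero]
    have hd : (sgl R).map ((DTen.resM (algebraMap R A)).map (g - g')) ≫ dualδ hφ = 0 := by
      rw [Functor.map_sub, Functor.map_sub, Preadditive.sub_comp]
      exact sub_eq_zero.2 hgg
    obtain ⟨m, hm⟩ := Triangle.coyoneda_exact₃ _ h₂.singleTriangle_distinguished _ hd
    obtain ⟨m', hm'⟩ := (sgl R).map_surjective (X := (DTen.resM (algebraMap R A)).obj (ModuleCat.of A A))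
      (Y := ModuleCat.of R (I →ₗ[R] R)) m
    have h0 : m' = 0 := hom_res_eq_zero (fun f hf => LinearMap.ext fun y =>
      eq_zero_of_ker_smul (A := A) fun x => LinearMap.congr_fun (hf x) y) m'
    rw [← hm', h0, Functor.map_zero, zero_comp] at hm
    exact (DTen.resM (algebraMap R A)).map_injective ((sgl R).map_injective
      (hm.trans (by rw [Functor.map_zero, Functor.map_zero])))
  · intro e
    haveI : CategoryTheory.Projective (kerSeq (R := R) (A := A)).X₂ :=
      (IsProjective.iff_projective (R := R) R).1 inferInstance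
    have he : (sgl R).map (kerSeq (R := R) (A := A)).g ≫ e = 0 :=
      sgl_hom_shift_eq_zero one_ne_zero _
    obtain ⟨c, hc⟩ := Triangle.yoneda_exact₃ _ h₁.singleTriangle_distinguished e he
    obtain ⟨c', hc'⟩ := (shiftFunctor (Dual.D R) (1 : ℤ)).map_surjective
      (X := (sgl R).obj (ModuleCat.of R I)) (Y := (sgl R).obj (ModuleCat.of R R)) c
    obtain ⟨f, hf⟩ := (sgl R).map_surjective c'
    let n : I →ₗ[R] A := (Algebra.linearMap R A).comp f.hom
    let g : ModuleCat.of A A ⟶ ModuleCat.of A (I →ₗ[R] A) :=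
      ModuleCat.ofHom (LinearMap.toSpanSingleton A _ n)
    let F : kerSeq (R := R) (A := A) ⟶ dualSeq hφ :=
      { τ₁ := f
        τ₂ := ModuleCat.ofHom (LinearMap.toSpanSingleton R _ (f.hom : I →ₗ[R] R))
        τ₃ := (DTen.resM (algebraMap R A)).map g
        comm₁₂ := by
          refine ModuleCat.hom_ext (LinearMap.ext fun (x : I) => LinearMap.ext fun (y : I) => ?_)
          change f.hom x * (y : R) = (x : R) * f.hom y
          have h := congrArg (TensorProduct.lift ((LinearMap.mul R R).compl₁₂ f.hom (Submodule.subtype I)))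
            (Module.Invertible.tmul_comm (R := R) (m₁ := x) (m₂ := y))
          simp only [TensorProduct.lift.tmul, LinearMap.compl₁₂_apply, LinearMap.mul_apply',
            Submodule.subtype_apply] at h
          rw [h, mul_comm]
        comm₂₃ := by
          refine ModuleCat.hom_ext (LinearMap.ext fun (r : R) => LinearMap.ext fun (y : I) => ?_)
          change algebraMap R A (r * f.hom y) = algebraMap R A r * algebraMap R A (f.hom y)
          exact map_mul _ _ _ }
    refine ⟨g, ?_⟩
    have hnat := (ShortComplex.ShortExact.singleTriangle.map h₁ h₂ F).comm₃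
    refine hnat.symm.trans ?_
    rw [hc, ← hc', ← hf]
    rfl

variable [DTen.HasRHomRel (algebraMap R A)]

/-- The candidate for `RHom(A, R)`. -/
noncomputable abbrev dualCand (R A : Type u) [CommRing R] [CommRing A] [Algebra R A] : Dual.D A :=
  ((sgl A).obj (ModuleCat.of A (RingHom.ker (algebraMap R A) →ₗ[R] A)))⟦(-1 : ℤ)⟧

/-- Its evaluation. -/
noncomputable def candγ : (DRing.restrictD (algebraMap R A)).obj (dualCand R A) ⟶ DTen.unit R :=
  ((DRing.restrictD (algebraMap R A)).commShiftIso (-1 : ℤ)).hom.app _ ≫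
    (((DTen.resM (algebraMap R A)).mapDerivedCategorySingleFunctor 0).hom.app _ ≫ dualδ hφ)⟦(-1 : ℤ)⟧' ≫
    (shiftFunctorCompIsoId (Dual.D R) 1 (-1) (by omega)).hom.app _ ≫ unitSglIso.inv

lemma subsingleton_of_zero {C : Type*} [Category C] [Preadditive C] {X Y : C}
    (h : ∀ f : X ⟶ Y, f = 0) : Subsingleton (X ⟶ Y) := ⟨fun a b => (h a).trans (h b).symm⟩

theorem candγ_bijective (k : ℤ) : Function.Bijective
    (fun x : ((sgl A).obj (ModuleCat.of A A))⟦k⟧ ⟶ dualCand R A =>
      (DRing.restrictD (algebraMap R A)).map x ≫ candγ hφ) := by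
  haveI : CategoryTheory.Projective (ModuleCat.of A A) := (IsProjective.iff_projective A).1 inferInstance
  let Θ := (DTen.resM (algebraMap R A)).mapDerivedCategorySingleFunctor 0
  by_cases hk : k = -1
  · subst hk
    let P : (ModuleCat.of A A ⟶ ModuleCat.of A (RingHom.ker (algebraMap R A) →ₗ[R] A)) ≃
        (((sgl A).obj (ModuleCat.of A A))⟦(-1 : ℤ)⟧ ⟶ dualCand R A) :=
      (Functor.FullyFaithful.ofFullyFaithful (sgl A ⋙ shiftFunctor (Dual.D A) (-1 : ℤ))).homEquiv
    let T := (Equiv.ofBijective _ (dualδ_bijective hφ)).trans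
      (((Functor.FullyFaithful.ofFullyFaithful (shiftFunctor (Dual.D R) (-1 : ℤ))).homEquiv).trans
        (Iso.homCongr
          ((shiftFunctor (Dual.D R) (-1 : ℤ)).mapIso (Θ.app (ModuleCat.of A A)).symm ≪≫
            (((DRing.restrictD (algebraMap R A)).commShiftIso (-1 : ℤ)).app _).symm)
          ((shiftFunctorCompIsoId (Dual.D R) 1 (-1) (by omega)).app _ ≪≫ unitSglIso.symm)))
    convert (P.symm.trans T).bijective using 1
    funext x
    obtain ⟨g, rfl⟩ := P.surjective x
    refine Eq.trans ?_ (congrArg T (P.symm_apply_apply g)).symm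
    have h1 := ((DRing.restrictD (algebraMap R A)).commShiftIso (-1 : ℤ)).hom.naturality ((sgl A).map g)
    have h2 := Θ.hom.naturality g
    dsimp at h1 h2
    simp only [P, T, candγ, Equiv.trans_apply, Equiv.ofBijective_apply, Iso.homCongr_apply,
      Functor.FullyFaithful.homEquiv_apply, Iso.trans_inv, Iso.symm_inv, Iso.trans_hom, Iso.symm_hom,
      Functor.mapIso_inv, Iso.app_hom, Iso.app_inv, Functor.comp_map, Category.assoc]
    erw [reassoc_of% h1]
    simp only [Functor.map_comp, Category.assoc]
    erw [← Functor.map_comp_assoc, h2]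
    simp only [Functor.map_comp, Category.assoc]
  · haveI : Subsingleton (((sgl A).obj (ModuleCat.of A A))⟦k⟧ ⟶ dualCand R A) :=
      subsingleton_of_zero fun f => shift_shift_eq_zero k (-1)
        (fun f => sgl_hom_shift_eq_zero (by omega) f) f
    haveI : Subsingleton ((DRing.restrictD (algebraMap R A)).obj (((sgl A).obj (ModuleCat.of A A))⟦k⟧) ⟶
        DTen.unit R) := subsingleton_of_zero fun f => by
      refine hom_eq_zero_of_iso ((shiftFunctor (Dual.D R) k).mapIso (Θ.app (ModuleCat.of A A)).symm ≪≫
          (((DRing.restrictD (algebraMap R A)).commShiftIso k).app _).symm)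
        ((shiftFunctorZero (Dual.D R) ℤ).app _ ≪≫ unitSglIso.symm) (fun g => ?_) f
      refine shift_shift_eq_zero k 0 (fun g => ?_) g
      have h₁ := kerSeq_shortExact (R := R) (A := A) hφ
      haveI : CategoryTheory.Projective (kerSeq (R := R) (A := A)).X₂ :=
        (IsProjective.iff_projective (R := R) R).1 inferInstance
      haveI : CategoryTheory.Projective (kerSeq (R := R) (A := A)).X₁ :=
        (IsProjective.iff_projective (R := R) (RingHom.ker (algebraMap R A))).1 inferInstance
      by_cases h0 : 0 - k = 0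
      · let e0 := (shiftFunctorZero' (Dual.D R) (0 - k) h0).app ((sgl R).obj (ModuleCat.of R R))
        rw [← cancel_mono e0.hom, zero_comp]
        obtain ⟨m, hm⟩ := (sgl R).map_surjective (g ≫ e0.hom)
        rw [← hm, hom_res_eq_zero (fun r hr => eq_zero_of_ker_smul (A := A) hr) m, Functor.map_zero]
      · obtain ⟨c, rfl⟩ := Triangle.yoneda_exact₃ _ h₁.singleTriangle_distinguished g
          (sgl_hom_shift_eq_zero h0 _)
        rw [shift_shift_eq_zero 1 (0 - k) (fun f => sgl_hom_shift_eq_zero (by omega) f) c, comp_zero]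
    exact ⟨fun a b _ => Subsingleton.elim a b, fun y => ⟨0, Subsingleton.elim _ _⟩⟩

include hφ in
theorem nonempty_relDual_iso : Nonempty (dualCand R A ≅ relDual (algebraMap R A)) := by
  let c : dualCand R A ⟶ relDual (algebraMap R A) :=
    (DTen.relAdj (algebraMap R A)).homEquiv _ _ (candγ hφ)
  haveI : IsIso c := by
    refine isIso_of_bijective_S c fun k => ?_
    let e : S A k ≅ ((sgl A).obj (ModuleCat.of A A))⟦k⟧ :=
      ((DerivedCategory.Q (C := ModuleCat.{u} A)).commShiftIso k).app _ ≪≫
        (shiftFunctor (Dual.D A) k).mapIso unitSglIso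
    convert (((DTen.relAdj (algebraMap R A)).homEquiv (S A k) (DTen.unit R)).bijective.comp
      ((Iso.homCongr ((DRing.restrictD (algebraMap R A)).mapIso e) (Iso.refl _)).symm.bijective.comp
        ((candγ_bijective hφ k).comp (Iso.homCongr e (Iso.refl (dualCand R A))).bijective))) using 1
    funext x
    simp only [Function.comp_apply, Iso.homCongr_apply, Iso.homCongr_symm, Iso.refl_hom, Iso.refl_symm,
      Category.comp_id, Iso.symm_inv, Functor.mapIso_hom, Functor.mapIso_inv]
    rw [← Functor.map_comp_assoc, Iso.hom_inv_id_assoc]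
    exact (Adjunction.homEquiv_naturality_left _ _ _).symm
  exact ⟨asIso c⟩

omit [DTen.HasRHomRel (algebraMap R A)] in
include hφ in
theorem isPerfect_res_unit :
    DRing.IsPerfect R ((DRing.restrictD (algebraMap R A)).obj (DTen.unit A)) := by
  let I := RingHom.ker (algebraMap R A)
  have hA : DRing.IsPerfectModule R A :=
    Groth.Agent.H8Props.PseudoCoh.isPerfectModule_of_fpInf
      (fun k => H8Props.PseudoCoh.FPk.succ_imp (H8Props.PseudoCoh.FPk.quot_succ
        (Submodule.subtype I) (Algebra.linearMap R A) Subtype.val_injective hφ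
        (fun r => ⟨fun h => ⟨⟨r, h⟩, rfl⟩, by rintro ⟨x, rfl⟩; exact x.2⟩)
        (H8Props.PseudoCoh.fpk_of_finite_projective (k + 1) R)
        (H8Props.PseudoCoh.fpk_of_finite_projective k I)))
      (H8Props.PseudoCoh.hasTorDimLE_quot (n := 0) (i := Submodule.subtype I) (p := Algebra.linearMap R A)
        Subtype.val_injective hφ
        (fun r => ⟨fun h => ⟨⟨r, h⟩, rfl⟩, by rintro ⟨x, rfl⟩; exact x.2⟩)
        (H8Props.PseudoCoh.hasTorDimLE_of_flat 1 R) (H8Props.PseudoCoh.hasTorDimLE_of_flat 0 I))
  obtain ⟨E, a, b, h1, h2, ⟨e⟩⟩ := hA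
  let e' : ModuleCat.of R A ≅ (DTen.resM (algebraMap R A)).obj (ModuleCat.of A A) :=
    (show A ≃ₗ[R] (DTen.resM (algebraMap R A)).obj (ModuleCat.of A A) from
      { toFun := fun a => a, invFun := fun a => a, map_add' := fun _ _ => rfl
        map_smul' := fun r a => Algebra.smul_def r a
        left_inv := fun _ => rfl, right_inv := fun _ => rfl }).toModuleIso
  exact ⟨E, a, b, h1, h2, ⟨e ≪≫ (sgl R).mapIso e' ≪≫
    (((DTen.resM (algebraMap R A)).mapDerivedCategorySingleFunctor 0).app (ModuleCat.of A A)).symm ≪≫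
    (DRing.restrictD (algebraMap R A)).mapIso unitSglIso.symm⟩⟩

include hφ in
theorem nonempty_RHomRel_iso_cartier (N : Type u) [AddCommGroup N] [Module A N]
    (e : (A ⊗[R] (RingHom.ker (algebraMap R A))) ⊗[A] N ≃ₗ[A] A)
    [DTen.HasLTenMix (algebraMap R A)] :
    Nonempty (DTen.RHomRel (algebraMap R A) ≅
      (Functor.curry.obj (DTen.LTenMix (algebraMap R A))).flip.obj ((Dual.inD A N)⟦(-1 : ℤ)⟧)) := by
  obtain ⟨i⟩ := nonempty_RHomRel_iso (algebraMap R A) (isPerfect_res_unit hφ)
  obtain ⟨j⟩ := nonempty_relDual_iso (A := A) hφ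
  let l : N ≃ₗ[A] (RingHom.ker (algebraMap R A) →ₗ[R] A) :=
    (Module.Invertible.linearEquivDual (TensorProduct.comm A N _ ≪≫ₗ e)).trans
      (LinearMap.liftBaseChangeEquiv A).symm
  exact ⟨i ≪≫ (Functor.curry.obj (DTen.LTenMix (algebraMap R A))).flip.mapIso
    (j.symm ≪≫ (shiftFunctor (Dual.D A) (-1 : ℤ)).mapIso ((sgl A).mapIso l.toModuleIso.symm))⟩

end Groth.Agent.H25DTen
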