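import Groth.Agent.H25DTen.EvalTen

/-!
# The evaluation map `RHom(L, M) ⊗ K ⟶ RHom(RHom(K, L), M)` for perfect `K`
-/

set_option autoImplicit false

universe u

open CategoryTheory CategoryTheory.Limits MonoidalCategory Pretriangulated Opposite

attribute [local instance] HasDerivedCategory.standard

namespace Groth.Agent.H25DTen

variable {A : Type u} [CommRing A]
variable [DTen.HasLTen A] [DTen.HasLTen₃ A] [DTen.IsSymMonoidal A] [DTen.HasRHom A]

/-- `K ⊗ RHom(K, L) ⟶ L`. -/
noncomputable abbrev ev' (K L : Dual.D A) : (TL K).obj ((DTen.RHomR A K).obj L) ⟶ L :=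
  (DTen.symm A).app ((DTen.RHomR A K).obj L, K) ≫ DTen.ev K L

lemma evalHomAux_eq (K L M : Dual.D A) :
    DTen.evalHomAux K L M =
      (DTen.associator ((DTen.RHomR A L).obj M) K ((DTen.RHomR A K).obj L)).hom ≫
        (TL ((DTen.RHomR A L).obj M)).map (ev' K L) ≫ DTen.ev L M := rfl

@[reassoc]
lemma symm_naturality_left (R : Dual.D A) {K K' : Dual.D A} (g : K ⟶ K') :
    (TR R).map g ≫ (DTen.symm A).app (R, K') = (DTen.symm A).app (R, K) ≫ (TL R).map g :=
  (DTen.symm A).naturality (X := (R, K)) (Y := (R, K')) (Prod.mkHom (𝟙 R) g)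

@[reassoc]
lemma symm_naturality_right (K : Dual.D A) {R R' : Dual.D A} (r : R ⟶ R') :
    (TL K).map r ≫ (DTen.symm A).app (R', K) = (DTen.symm A).app (R, K) ≫ (TR K).map r :=
  (DTen.symm A).naturality (X := (R, K)) (Y := (R', K)) (Prod.mkHom r (𝟙 K))

lemma ev'_naturality {K K' : Dual.D A} (g : K ⟶ K') (L : Dual.D A) :
    (TR ((DTen.RHomR A K').obj L)).map g ≫ ev' K' L =
      (TL K).map (DTen.RHomMap g L) ≫ ev' K L := by
  rw [symm_naturality_left_assoc, symm_naturality_right_assoc]
  exact congrArg (_ ≫ ·) (DTen.RHom_map_ev g L).symm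

/-- The map `Hom(X, RHom(L, M) ⊗ K) ⟶ Hom(X ⊗ RHom(K, L), M)`. -/
noncomputable def th (K L M X : Dual.D A) :
    (X ⟶ (DTen.LTen₂ A).obj ((DTen.RHomR A L).obj M, K)) →+
      ((DTen.LTen₂ A).obj (X, (DTen.RHomR A K).obj L) ⟶ M) :=
  AddMonoidHom.mk' (fun f => (TR ((DTen.RHomR A K).obj L)).map f ≫ DTen.evalHomAux K L M)
    fun f g => by rw [Functor.map_add, Preadditive.add_comp]

lemma rhomHomEquiv_th (K L M X : Dual.D A)
    (f : X ⟶ (DTen.LTen₂ A).obj ((DTen.RHomR A L).obj M, K)) :
    DTen.rhomHomEquiv _ _ _ (th K L M X f) = f ≫ DTen.evalHom K L M :=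
  Adjunction.homEquiv_naturality_left _ _ _

theorem isIso_evalHom_of_bijective (K L M : Dual.D A)
    (h : ∀ X, Function.Bijective (th K L M X)) : IsIso (DTen.evalHom K L M) := by
  refine (isIso_iff_yoneda_map_bijective _).2 fun X => ?_
  convert (DTen.rhomHomEquiv X ((DTen.RHomR A K).obj L) M).bijective.comp (h X) using 1
  funext f
  exact (rhomHomEquiv_th K L M X f).symm

variable (A) in
/-- `M ↦ Hom(X ⊗ RHom(M, L), Z)`, covariant in `M`. -/
noncomputable abbrev tgtHom (L X Z : Dual.D A) : Dual.D A ⥤ AddCommGrpCat.{u + 1} :=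
  (((DTen.RHom A).flip.obj L).rightOp) ⋙ (TL X).op ⋙ preadditiveYoneda.obj Z

/-- The natural transformation of functors of `K`. -/
noncomputable def thNat (L M X : Dual.D A) :
    TL ((DTen.RHomR A L).obj M) ⋙ preadditiveCoyoneda.obj (op X) ⟶ tgtHom A L X M where
  app K := AddCommGrpCat.ofHom (th K L M X)
  naturality K K' g := by
    refine AddCommGrpCat.hom_ext (AddMonoidHom.ext fun f => ?_)
    change (TR ((DTen.RHomR A K').obj L)).map (f ≫ (TL _).map g) ≫ DTen.evalHomAux K' L M =
      (TL X).map (DTen.RHomMap g L) ≫ (TR ((DTen.RHomR A K).obj L)).map f ≫ DTen.evalHomAux K L M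
    rw [Functor.map_comp, Category.assoc, evalHomAux_eq, evalHomAux_eq,
      associator_naturality_second_assoc, ← Functor.map_comp_assoc, ev'_naturality,
      Functor.map_comp_assoc, ← associator_naturality_third_assoc]
    exact interchange_assoc f (DTen.RHomMap g L) _

theorem isExact_tgtHom (L X Z : Dual.D A) : Dev.IsExact (tgtHom A L X Z) := by
  haveI : (TL X).IsLeftAdjoint := (leftAdj X).isLeftAdjoint
  intro T hT x
  constructor
  · intro hx
    obtain ⟨C, j, δ, hd⟩ := distinguished_cocone_triangle₁ (DTen.RHomMap T.mor₁ L)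
    obtain ⟨t, ht⟩ := exists_lift_RHomMap T hT L C j (comp_distTriang_mor_zero₁₂ _ hd)
    have h0 : (TL X).map j ≫ x = 0 := by
      rw [← ht, Functor.map_comp, Category.assoc]
      exact (congrArg (_ ≫ ·) hx).trans comp_zero
    obtain ⟨q, hq⟩ := Dev.exists_factor_map (leftAdj X) _ hd x h0
    exact ⟨q, hq⟩
  · rintro ⟨y, rfl⟩
    change (TL X).map (DTen.RHomMap T.mor₂ L) ≫ (TL X).map (DTen.RHomMap T.mor₁ L) ≫ y = 0
    rw [← Functor.map_comp_assoc]
    refine (congrArg (fun z => (TL X).map z ≫ y) (RHomMap_comp_zero T hT L)).trans ?_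
    exact (congrArg (· ≫ y) ((TL X).map_zero _ _)).trans zero_comp

lemma th_S_bijective (k : ℤ) (L M X : Dual.D A) : Function.Bijective (th (S A k) L M X) := by
  haveI := isEquivalence_flip_S (A := A) k
  haveI := isIso_ev_S k L
  haveI : IsIso ((DTen.symm A).app ((DTen.RHomR A (S A k)).obj L, S A k)) := inferInstance
  haveI : IsIso (ev' (S A k) L) := IsIso.comp_isIso
  let F := TR (S A k)
  obtain ⟨X', ⟨e⟩⟩ := Functor.EssSurj.mem_essImage (F := F) X
  let R := (DTen.RHomR A L).obj M
  let RS := (DTen.RHomR A (S A k)).obj L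
  let q : (TR RS).obj X ≅ (TR L).obj X' := (TR RS).mapIso e.symm ≪≫
    DTen.associator X' (S A k) RS ≪≫ (TL X').mapIso (asIso (ev' (S A k) L))
  let E := (Iso.homCongr e.symm (Iso.refl (F.obj R))).trans
    ((Functor.FullyFaithful.ofFullyFaithful F).homEquiv.symm.trans
      ((DTen.rhomHomEquiv X' L M).symm.trans (Iso.homCongr q.symm (Iso.refl M))))
  convert E.bijective using 1
  funext f
  obtain ⟨f', hf'⟩ := F.map_surjective (e.hom ≫ f)
  have hf : f = e.inv ≫ F.map f' := by rw [hf', Iso.inv_hom_id_assoc]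
  have hE : E f = q.hom ≫ ((TR L).map f' ≫ DTen.ev L M) := by
    have : (Functor.FullyFaithful.ofFullyFaithful F).preimage (e.hom ≫ f) = f' :=
      F.map_injective (by rw [Functor.FullyFaithful.map_preimage, hf'])
    simp only [E, Equiv.trans_apply, Iso.homCongr_apply, Iso.symm_inv, Iso.refl_hom, Category.comp_id,
      Functor.FullyFaithful.homEquiv_symm_apply, this]
    rw [show (DTen.rhomHomEquiv X' L M).symm f' = (TR L).map f' ≫ DTen.ev L M from
      Adjunction.homEquiv_counit _ _ _ _]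
  rw [hE]
  change (TR RS).map f ≫ DTen.evalHomAux (S A k) L M = _
  rw [hf, Functor.map_comp, evalHomAux_eq, Category.assoc, associator_naturality_first_assoc,
    interchange_assoc]
  simp [q, F, RS]

theorem isIso_evalHom_of_isPerfect (K L M : Dual.D A) (hK : DRing.IsPerfect A K) :
    IsIso (DTen.evalHom K L M) := by
  refine isIso_evalHom_of_bijective K L M fun X => ?_
  let η := thNat L M X
  have hs : Dev.IsExact (TL ((DTen.RHomR A L).obj M) ⋙ preadditiveCoyoneda.obj (op X)) := by
    intro T hT x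
    constructor
    · intro hx
      exact Dev.exists_lift_map (leftAdj _) T hT x hx
    · rintro ⟨y, rfl⟩
      change (y ≫ (TL _).map T.mor₁) ≫ (TL _).map T.mor₂ = 0
      rw [Category.assoc, ← Functor.map_comp, comp_distTriang_mor_zero₁₂ _ hT, Functor.map_zero,
        comp_zero]
  have key : ∀ n : ℤ, Function.Bijective (η.app (K⟦n⟧)) := by
    refine perfect_induction (fun K => ∀ n : ℤ, Function.Bijective (η.app (K⟦n⟧))) ?_ ?_ ?_ hK
    · intro K K' i r h h' n
      exact bijective_of_retract η (i⟦n⟧') (r⟦n⟧')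
        (by rw [← Functor.map_comp, h, CategoryTheory.Functor.map_id]) (h' n)
    · exact fun T hT h₁ h₃ n =>
        Dev.bijective_shift_ext η hs (isExact_tgtHom _ _ _) T hT h₁ h₃ n
    · intro k n
      exact bijective_of_retract η (shiftSIso k n).hom (shiftSIso k n).inv (Iso.hom_inv_id _)
        (th_S_bijective (k + n) L M X)
  exact bijective_of_retract η ((shiftFunctorZero (Dual.D A) ℤ).inv.app K)
    ((shiftFunctorZero (Dual.D A) ℤ).hom.app K) (Iso.inv_hom_id_app _ _) (key 0)

end Groth.Agent.H25DTen
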