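import Groth.Agent.H25DTen.EvalHom
import Groth.Agent.H25DTen.RelRep
import Groth.Agent.H25DTen.Amplitude
import Groth.Agent.H16Derived.KFlat.BoundedAbove

/-!
# The evaluation map out of `RHom(L, M) ⊗ K` for pseudo-coherent `K`
-/

set_option autoImplicit false
set_option backward.isDefEq.respectTransparency false

universe u

open CategoryTheory CategoryTheory.Limits MonoidalCategory Pretriangulated Opposite

attribute [local instance] HasDerivedCategory.standard

namespace Groth.Agent.H25DTen

open Groth.Agent.H16Derived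

variable {A : Type u} [CommRing A] [DTen.HasLTen A] [DTen.HasLTen₃ A] [DTen.IsSymMonoidal A] [DTen.HasRHom A]

lemma hom_S_eq_zero_of_isLE {Z : Dual.D A} {c k : ℤ} (hk : c < -k) (hZ : Z.IsLE c) (f : S A k ⟶ Z) :
    f = 0 := by
  obtain ⟨K, hK, ⟨e⟩⟩ := DerivedCategory.exists_iso_Q_obj_of_isLE Z c
  let E : DRing.Cx A := (HomologicalComplex.single (ModuleCat.{u} A) (ComplexShape.up ℤ) (-k)).obj (ModuleCat.of A A)
  haveI : E.IsStrictlyLE (-k) := (CochainComplex.isStrictlyLE_iff E (-k)).2 fun q hq =>
    HomologicalComplex.isZero_single_obj_X (ComplexShape.up ℤ) (-k) _ q (by omega)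
  haveI : ∀ q, CategoryTheory.Projective (E.X q) := fun q => by
    by_cases hq : q = -k
    · subst hq
      haveI : CategoryTheory.Projective (ModuleCat.of A A) :=
        (IsProjective.iff_projective A).1 inferInstance
      exact Projective.of_iso (HomologicalComplex.singleObjXSelf (ComplexShape.up ℤ) (-k) _).symm inferInstance
    · haveI := ModuleCat.subsingleton_of_isZero
        (HomologicalComplex.isZero_single_obj_X (ComplexShape.up ℤ) (-k) (ModuleCat.of A A) q hq)
      exact (IsProjective.iff_projective (E.X q)).1 inferInstance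
  haveI := CochainComplex.isKProjective_of_projective E (-k)
  let eS : DerivedCategory.Q.obj E ≅ S A k :=
    DerivedCategory.Q.mapIso (singleUnitIso (-k) ≪≫ eqToIso (by rw [neg_neg]))
  obtain ⟨ψ', hψ'⟩ := (CochainComplex.IsKProjective.Qh_map_bijective E
    ((HomotopyCategory.quotient _ _).obj K)).2
      ((DerivedCategory.quotientCompQhIso _).hom.app E ≫ (eS.hom ≫ f ≫ e.hom) ≫
        (DerivedCategory.quotientCompQhIso _).inv.app _)
  obtain ⟨ψ, rfl⟩ := (HomotopyCategory.quotient _ _).map_surjective ψ'
  have h0 : ψ = 0 := HomologicalComplex.from_single_hom_ext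
    ((CochainComplex.isZero_of_isStrictlyLE K c (-k) hk).eq_of_tgt _ _)
  rw [h0, Functor.map_zero, Functor.map_zero] at hψ'
  rw [← cancel_epi eS.hom, ← cancel_mono e.hom, Category.assoc,
    ← cancel_epi ((DerivedCategory.quotientCompQhIso _).hom.app E),
    ← cancel_mono ((DerivedCategory.quotientCompQhIso _).inv.app K), Category.assoc, ← hψ']
  simp

/-- Derived tensor products are right exact for the t-structure. -/
theorem isLE_tensor {X Y : Dual.D A} {a a' c : ℤ} (hc : a + a' ≤ c) (hX : X.IsLE a) (hY : Y.IsLE a') :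
    ((DTen.LTen₂ A).obj (X, Y)).IsLE c := by
  refine (DerivedCategory.TStructure.t.isLE_iff_orthogonal c (c + 1) rfl _).2 fun W f hW => ?_
  apply (DTen.rhomHomEquiv X Y W).injective
  have hz : ∀ g : X ⟶ (DTen.RHomR A Y).obj W, g = 0 := fun g =>
    DerivedCategory.TStructure.t.zero_of_isLE_of_isGE g a (a + 1) (by omega) hX
      (isGE_RHom (c := a + 1) (by omega) hY hW)
  exact (hz _).trans (hz _).symm

/-- Maps into a complex of injectives bounded above vanish on objects far right. -/
lemma hom_eq_zero_of_injAmplitude {M X : Dual.D A} {α β c : ℤ} (hM : DRing.HasInjAmplitudeIn A α β M)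
    (hX : X.IsGE c) (hc : β < c) (f : X ⟶ M) : f = 0 := by
  obtain ⟨I, hI, hInj, ⟨e⟩⟩ := hM
  obtain ⟨K, hK, ⟨eX⟩⟩ := DerivedCategory.exists_iso_Q_obj_of_isGE X c
  haveI : I.IsStrictlyGE α := (CochainComplex.isStrictlyGE_iff I α).2 fun q hq => hI q (Or.inl hq)
  haveI : ∀ q, CategoryTheory.Injective (I.X q) := fun q => by
    haveI := hInj q
    exact Module.injective_object_of_injective_module A (I.X q)
  haveI := CochainComplex.isKInjective_of_injective I α
  obtain ⟨ψ, hψ⟩ := Q_map_surjective (I := I) (eX.inv ≫ f ≫ e.inv)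
  have h0 : ψ = 0 := by
    refine HomologicalComplex.hom_ext _ _ fun q => ?_
    by_cases hq : q < c
    · exact (CochainComplex.isZero_of_isStrictlyGE K c q hq).eq_of_src _ _
    · exact (hI q (Or.inr (by omega))).eq_of_tgt _ _
  rw [h0, Functor.map_zero] at hψ
  rw [← cancel_epi eX.inv, ← cancel_mono e.inv, Category.assoc, ← hψ]
  simp

/-- `RHom` into an object of finite injective dimension from a coconnective one is connective. -/
theorem isLE_RHom {L M : Dual.D A} {α β n c : ℤ} (hc : β - n ≤ c) (hL : L.IsGE n)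
    (hM : DRing.HasInjAmplitudeIn A α β M) : ((DTen.RHomR A L).obj M).IsLE c := by
  obtain ⟨K, ⟨e⟩⟩ := Localization.essSurj DerivedCategory.Q (DTen.qis A) |>.mem_essImage
    ((DTen.RHomR A L).obj M)
  refine (DerivedCategory.isLE_iff _ c).2 fun i hi => ?_
  suffices h : (DerivedCategory.Q.obj K).IsLE c by
    haveI := DerivedCategory.TStructure.t.isLE_of_iso e c
    exact DerivedCategory.isZero_of_isLE _ c i hi
  rw [DerivedCategory.isLE_Q_obj_iff, CochainComplex.isLE_iff]
  intro i hi
  let E : DRing.Cx A := (HomologicalComplex.single (ModuleCat.{u} A) (ComplexShape.up ℤ) i).obj (ModuleCat.of A A)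
  haveI : E.IsStrictlyLE i := (CochainComplex.isStrictlyLE_iff E i).2 fun q hq =>
    HomologicalComplex.isZero_single_obj_X (ComplexShape.up ℤ) i _ q (by omega)
  haveI : ∀ q, CategoryTheory.Projective (E.X q) := fun q => by
    by_cases hq : q = i
    · subst hq
      haveI : CategoryTheory.Projective (ModuleCat.of A A) :=
        (IsProjective.iff_projective A).1 inferInstance
      exact Projective.of_iso (HomologicalComplex.singleObjXSelf (ComplexShape.up ℤ) q _).symm inferInstance
    · haveI := ModuleCat.subsingleton_of_isZero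
        (HomologicalComplex.isZero_single_obj_X (ComplexShape.up ℤ) i (ModuleCat.of A A) q hq)
      exact (IsProjective.iff_projective (E.X q)).1 inferInstance
  haveI := CochainComplex.isKProjective_of_projective E i
  let eS : DerivedCategory.Q.obj E ≅ S A (-i) := DerivedCategory.Q.mapIso (singleUnitIso i)
  rw [HomologicalComplex.exactAt_iff' K (i - 1) i (i + 1) (by simp) (by simp), ShortComplex.moduleCat_exact_iff]
  intro x hx
  change K.X i at x
  let g : E ⟶ K := HomologicalComplex.mkHomFromSingle (ModuleCat.ofHom (LinearMap.toSpanSingleton A _ x))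
    (fun j hj => by
      obtain rfl : i + 1 = j := hj
      refine ModuleCat.hom_ext (LinearMap.ext_ring ?_)
      change K.d i (i + 1) ((1 : A) • x) = 0
      rw [one_smul]; exact hx)
  have h0 : DerivedCategory.Q.map g = 0 := by
    rw [← cancel_epi eS.inv, comp_zero]
    refine (cancel_mono e.hom).1 ?_
    rw [zero_comp]
    apply (DTen.rhomHomEquiv (S A (-i)) L M).symm.injective
    haveI := DerivedCategory.TStructure.t.isGE_shift L n (-i) (n + i)
    have hz : ∀ g : (DTen.LTen₂ A).obj (S A (-i), L) ⟶ M, g = 0 := fun g =>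
      hom_eq_zero_of_injAmplitude hM (c := n + i)
        (DerivedCategory.TStructure.t.isGE_of_iso (shiftTensorUnitIso (-i) L).symm _) (by omega) g
    exact (hz _).trans (hz _).symm
  have hh : DerivedCategory.Qh.map ((HomotopyCategory.quotient _ _).map g) =
      DerivedCategory.Qh.map ((HomotopyCategory.quotient _ _).map 0) := by
    rw [← cancel_mono ((DerivedCategory.quotientCompQhIso _).hom.app K),
      DerivedCategory.quotientCompQhIso_hom_naturality,
      DerivedCategory.quotientCompQhIso_hom_naturality, h0, Functor.map_zero]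
  let H := HomotopyCategory.homotopyOfEq _ _
    ((CochainComplex.IsKProjective.Qh_map_bijective E ((HomotopyCategory.quotient _ _).obj K)).1 hh)
  have hc := H.comm i
  rw [dNext_eq _ (show (ComplexShape.up ℤ).Rel i (i + 1) from rfl),
    prevD_eq _ (show (ComplexShape.up ℤ).Rel (i - 1) i from sub_add_cancel i 1),
    HomologicalComplex.single_obj_d, zero_comp, zero_add, HomologicalComplex.zero_f, add_zero] at hc
  refine ⟨H.hom i (i - 1)
    ((HomologicalComplex.singleObjXSelf (ComplexShape.up ℤ) i (ModuleCat.of A A)).inv (1 : A)), ?_⟩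
  have hc' := congrArg (fun z =>
    ((HomologicalComplex.singleObjXSelf (ComplexShape.up ℤ) i (ModuleCat.of A A)).inv ≫ z) (1 : A)) hc
  dsimp only at hc'
  rw [HomologicalComplex.mkHomFromSingle_f, Iso.inv_hom_id_assoc] at hc'
  refine hc'.symm.trans ?_
  exact one_smul A x

lemma th_bijective_of_isLE {C L M : Dual.D A} {a n α β j : ℤ} (hC : C.IsLE a) (hL : L.IsGE n)
    (hM : DRing.HasInjAmplitudeIn A α β M) (hj : β - n + a < -j) :
    Function.Bijective ((thNat L M (S A j)).app C) := by
  have hs : ∀ f : S A j ⟶ (DTen.LTen₂ A).obj ((DTen.RHomR A L).obj M, C), f = 0 :=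
    hom_S_eq_zero_of_isLE hj (isLE_tensor (le_refl (β - n + a)) (isLE_RHom (le_refl _) hL hM) hC)
  have ht : ∀ g : (DTen.LTen₂ A).obj (S A j, (DTen.RHomR A C).obj L) ⟶ M, g = 0 := fun g => by
    haveI := isGE_RHom (c := n - a) (by omega) hC hL
    haveI := DerivedCategory.TStructure.t.isGE_shift ((DTen.RHomR A C).obj L) (n - a) j (n - a - j)
    exact hom_eq_zero_of_injAmplitude hM (c := n - a - j)
      (DerivedCategory.TStructure.t.isGE_of_iso (shiftTensorUnitIso j _).symm _) (by omega) g
  exact ⟨fun x y _ => (hs x).trans (hs y).symm, fun y => ⟨0, (ht _).trans (ht y).symm⟩⟩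

theorem isIso_evalHom_of_pseudo (K L M : Dual.D A) (hK : DRing.IsPseudoCoherent' A K) (n : ℤ)
    (hL : L.IsGE n) (hM : DRing.HasFiniteInjDim A M) : IsIso (DTen.evalHom K L M) := by
  obtain ⟨E, b, hb, hff, ⟨e⟩⟩ := hK
  obtain ⟨α, β, hM⟩ := hM
  refine isIso_of_bijective_S _ fun j => ?_
  let X := S A j
  let η := thNat L M X
  suffices h : Function.Bijective (η.app K) by
    convert (DTen.rhomHomEquiv X ((DTen.RHomR A K).obj L) M).bijective.comp h using 1
    funext f
    exact (rhomHomEquiv_th K L M X f).symm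
  refine bijective_of_retract η e.inv e.hom e.inv_hom_id ?_
  let m := n - β - j - 1
  let Sq := KFlat.Brutal.S E m
  have hSq : Sq.ShortExact := KFlat.Brutal.shortExact E m
  let T := DerivedCategory.triangleOfSES hSq
  have hT : T ∈ (distTriang _) := DerivedCategory.triangleOfSES_distinguished hSq
  haveI : CochainComplex.IsStrictlyLE (cokernel (KFlat.Brutal.ι E m)) (m - 1) :=
    (CochainComplex.isStrictlyLE_iff _ _).2 fun q hq => KFlat.Brutal.isZero_cokernel E m (by omega)
  have hC : (T.obj₃).IsLE (m - 1) :=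
    inferInstanceAs ((DerivedCategory.Q.obj (cokernel (KFlat.Brutal.ι E m))).IsLE (m - 1))
  have hP : DRing.IsPerfect A T.obj₁ := by
    refine ⟨KFlat.Brutal.geq E m, m, b, fun i hi => ?_, fun i => ?_, ⟨Iso.refl _⟩⟩
    · by_cases h : m ≤ i
      · haveI := KFlat.Brutal.isIso_ι_f E m h
        exact (hb i (by omega)).of_iso (asIso ((KFlat.Brutal.ι E m).f i))
      · exact KFlat.Brutal.isZero_geq E m (by omega)
    · by_cases h : m ≤ i
      · haveI := KFlat.Brutal.isIso_ι_f E m h
        let l := (asIso ((KFlat.Brutal.ι E m).f i)).toLinearEquiv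
        haveI := (hff i).1
        haveI := (hff i).2
        exact ⟨Module.Finite.equiv l.symm, Module.Projective.of_equiv l.symm⟩
      · haveI := ModuleCat.subsingleton_of_isZero (KFlat.Brutal.isZero_geq E m (q := i) (by omega))
        exact ⟨inferInstance, inferInstance⟩
  have hs : Dev.IsExact (TL ((DTen.RHomR A L).obj M) ⋙ preadditiveCoyoneda.obj (op X)) := by
    intro T hT x
    constructor
    · intro hx
      exact Dev.exists_lift_map (leftAdj _) T hT x hx
    · rintro ⟨y, rfl⟩
      change (y ≫ (TL _).map T.mor₁) ≫ (TL _).map T.mor₂ = 0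
      rw [Category.assoc, ← Functor.map_comp, comp_distTriang_mor_zero₁₂ _ hT, Functor.map_zero,
        comp_zero]
  have h1 : ∀ k : ℤ, Function.Bijective (η.app (T.obj₁⟦k⟧)) := by
    intro k
    refine perfect_induction (fun K => ∀ n : ℤ, Function.Bijective (η.app (K⟦n⟧))) ?_ ?_ ?_ hP k
    · intro K K' i r h h' n
      exact bijective_of_retract η (i⟦n⟧') (r⟦n⟧')
        (by rw [← Functor.map_comp, h, CategoryTheory.Functor.map_id]) (h' n)
    · exact fun T hT h₁ h₃ n =>
        Dev.bijective_shift_ext η hs (isExact_tgtHom _ _ _) T hT h₁ h₃ n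
    · intro k n
      exact bijective_of_retract η (shiftSIso k n).hom (shiftSIso k n).inv (Iso.hom_inv_id _)
        (th_S_bijective (k + n) L M X)
  refine Dev.bijective_obj₂ η hs (isExact_tgtHom _ _ _) T hT ?_ ?_ ?_ ?_
  · haveI := hC
    haveI := DerivedCategory.TStructure.t.isLE_shift T.obj₃ (m - 1) (-1) m
    exact th_bijective_of_isLE (C := T.obj₃⟦(-1 : ℤ)⟧) (a := m) inferInstance hL hM (by omega)
  · exact bijective_of_retract η ((shiftFunctorZero (Dual.D A) ℤ).inv.app T.obj₁)
      ((shiftFunctorZero (Dual.D A) ℤ).hom.app T.obj₁) (Iso.inv_hom_id_app _ _) (h1 0)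
  · exact th_bijective_of_isLE hC hL hM (by omega)
  · exact h1 1

end Groth.Agent.H25DTen
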