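import Groth.Agent.H25DTen.Exists
import Groth.Agent.H25DTen.Basic

/-!
# Invertible objects of `D(A)`: shifts of the unit
-/

set_option autoImplicit false

universe u

open CategoryTheory CategoryTheory.Limits MonoidalCategory

attribute [local instance] HasDerivedCategory.standard

namespace Groth.Agent.H25DTen

open Groth.Agent.H16Derived

variable {A : Type u} [CommRing A]

variable (A) in
/-- The shifted unit complex. -/
noncomputable abbrev unitCx (k : ℤ) : DRing.Cx A := (𝟙_ (DRing.Cx A))⟦k⟧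

lemma isKFlat_tensorUnit : KFlat.IsKFlat (TT A) (𝟙_ (DRing.Cx A)) := by
  refine KFlat.isKFlat_of_singleDegree _ 0
    (fun q hq => HomologicalComplex.isZero_single_obj_X (ComplexShape.up ℤ) 0 _ q hq) ?_
  refine KFlat.IsFlatObj.of_iso
    (HomologicalComplex.singleObjXSelf (ComplexShape.up ℤ) 0 (𝟙_ (ModuleCat.{u} A))).symm ?_
  haveI : Module.Flat A (𝟙_ (ModuleCat.{u} A)) := inferInstanceAs (Module.Flat A A)
  exact isFlatObj_of_flat _

lemma isKFlat_unitCx (k : ℤ) : KFlat.IsKFlat (TT A) (unitCx A k) :=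
  KFlat.IsKFlat.shift (F := TT A) (isKFlat_tensorUnit (A := A)) k

/-- `(K⟦k⟧) ⊗ L ≅ (K ⊗ L)⟦k⟧`. -/
noncomputable def shiftTensorIso (K L : DRing.Cx A) (k : ℤ) : (K⟦k⟧) ⊗ L ≅ (K ⊗ L)⟦k⟧ :=
  CochainComplex.mapBifunctorShift₁Iso K L (TT A) k

/-- `A[k] ⊗ A[l] ≅ A[0]` for `l + k = 0`. -/
noncomputable def unitCxIso (k l : ℤ) (h : l + k = 0) :
    unitCx A k ⊗ unitCx A l ≅ 𝟙_ (DRing.Cx A) :=
  shiftTensorIso _ _ k ≪≫ (shiftFunctor (DRing.Cx A) k).mapIso (λ_ (unitCx A l)) ≪≫
    (shiftFunctorCompIsoId (DRing.Cx A) l k h).app _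

variable (A) in
/-- The shifted unit `A[k]` in `D(A)`. -/
noncomputable abbrev S (k : ℤ) : Dual.D A := DerivedCategory.Q.obj (unitCx A k)

section
variable [DTen.HasLTen A]

/-- `A[k] ⊗ A[l] ≅ A[0]`. -/
noncomputable def SIso (k l : ℤ) (h : l + k = 0) :
    (DTen.LTen₂ A).obj (S A k, S A l) ≅ DTen.unit A :=
  haveI := isIso_ε (unitCx A k) (unitCx A l) (Or.inl (isKFlat_unitCx k))
  asIso ((DTen.ε A).app (unitCx A k, unitCx A l)) ≪≫ DerivedCategory.Q.mapIso (unitCxIso k l h)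

variable [DTen.HasLTen₃ A] [DTen.IsSymMonoidal A]

variable (A) in
/-- The associator as an isomorphism of functors of triples. -/
noncomputable def assocIso : DTen.LTenL A ≅ DTen.LTenR A :=
  asIso (DTen.assocL A) ≪≫ (asIso (DTen.assocR A)).symm

lemma assocIso_app (a b c : Dual.D A) :
    (assocIso A).hom.app (a, (b, c)) = (DTen.associator a b c).hom := rfl

@[reassoc]
lemma associator_naturality {a a' b b' c c' : Dual.D A} (f : a ⟶ a') (g : b ⟶ b') (h : c ⟶ c') :
    (DTen.LTen₂ A).map (Prod.mkHom ((DTen.LTen₂ A).map (Prod.mkHom f g)) h) ≫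
        (DTen.associator a' b' c').hom =
      (DTen.associator a b c).hom ≫
        (DTen.LTen₂ A).map (Prod.mkHom f ((DTen.LTen₂ A).map (Prod.mkHom g h))) :=
  (assocIso A).hom.naturality (X := (a, (b, c))) (Y := (a', (b', c'))) (Prod.mkHom f (Prod.mkHom g h))

@[reassoc]
lemma associator_naturality_third (a b : Dual.D A) {c c' : Dual.D A} (h : c ⟶ c') :
    ((DTen.LTen A).obj ((DTen.LTen₂ A).obj (a, b))).map h ≫ (DTen.associator a b c').hom =
      (DTen.associator a b c).hom ≫ ((DTen.LTen A).obj a).map (((DTen.LTen A).obj b).map h) := by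
  have e := associator_naturality (𝟙 a) (𝟙 b) h
  rw [show (DTen.LTen₂ A).map (Prod.mkHom (𝟙 a) (𝟙 b)) = 𝟙 _ from
    CategoryTheory.Functor.map_id _ _] at e
  exact e

/-- `(X ⊗ b) ⊗ -` compared with `X ⊗ (b ⊗ -)`. -/
noncomputable def tensorTensorIso (a b : Dual.D A) :
    (DTen.LTen A).obj ((DTen.LTen₂ A).obj (a, b)) ≅ (DTen.LTen A).obj b ⋙ (DTen.LTen A).obj a :=
  NatIso.ofComponents (fun c => DTen.associator a b c) (fun h => associator_naturality_third a b h)

/-- Tensoring with inverse objects. -/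
noncomputable def invIso (a b : Dual.D A) (e : (DTen.LTen₂ A).obj (a, b) ≅ DTen.unit A) :
    (DTen.LTen A).obj b ⋙ (DTen.LTen A).obj a ≅ 𝟭 _ :=
  (tensorTensorIso a b).symm ≪≫ (DTen.LTen A).mapIso e ≪≫ asIso (DTen.unitL A)

theorem isEquivalence_S (k : ℤ) : ((DTen.LTen A).obj (S A k)).IsEquivalence :=
  (CategoryTheory.Equivalence.mk ((DTen.LTen A).obj (S A k)) ((DTen.LTen A).obj (S A (-k)))
    (invIso (S A (-k)) (S A k) (SIso (-k) k (by omega))).symm
    (invIso (S A k) (S A (-k)) (SIso k (-k) (by omega)))).isEquivalence_functor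

variable (A) in
/-- `- ⊗ L ≅ L ⊗ -`. -/
noncomputable def flipIso' (L : Dual.D A) : (DTen.LTen A).obj L ≅ (DTen.LTen A).flip.obj L :=
  NatIso.ofComponents (fun X => DTen.braiding X L) (fun {X Y} g => by
    have h := (DTen.symm A).naturality (X := (X, L)) (Y := (Y, L)) (Prod.mkHom g (𝟙 L))
    exact h)

theorem isEquivalence_flip_S (k : ℤ) : ((DTen.LTen A).flip.obj (S A k)).IsEquivalence :=
  haveI := isEquivalence_S (A := A) k
  Functor.isEquivalence_of_iso (flipIso' A (S A k))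

end

end Groth.Agent.H25DTen
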