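import Groth.Prelude.Def_DTen
import Groth.Agent.H16Derived.KFlat.Generic
import Groth.Agent.H16Derived.KFlat.Resolution
import Groth.Agent.H16Derived.KFlat.BoundedAbove
import Groth.Agent.H16Derived.KFlat.Colim
import Groth.Agent.H16Derived.KFlat.Cone
import Groth.Agent.H16Derived.LeftDer
import Mathlib.RingTheory.Flat.CategoryTheory
import Mathlib.Algebra.Category.ModuleCat.AB
import Mathlib.Algebra.Category.ModuleCat.Adjunctions

/-!
# K-flat complexes of modules and the existence of the derived tensor product on `D(A)`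
-/

set_option autoImplicit false

universe u

open CategoryTheory CategoryTheory.Limits MonoidalCategory

attribute [local instance] HasDerivedCategory.standard

namespace Groth.Agent.H25DTen

open Groth.Agent.H16Derived

section Reduce

variable {C : Type*} [Category C] [Abelian C] (Φ : C ⥤ C) (π : Φ ⟶ 𝟭 C)

open ZeroObject

/-- Make a functor preserve zero morphisms. -/
noncomputable def reduce : C ⥤ C where
  obj M := cokernel (Φ.map (0 : (0 : C) ⟶ M))
  map {M N} f := cokernel.map _ _ (𝟙 _) (Φ.map f) (by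
    rw [Category.id_comp, ← Functor.map_comp, zero_comp])
  map_id M := (cancel_epi (cokernel.π _)).1 (by simp)
  map_comp f g := (cancel_epi (cokernel.π _)).1 (by simp)

instance : (reduce Φ).PreservesZeroMorphisms where
  map_zero M N := by
    refine (cancel_epi (cokernel.π _)).1 ?_
    refine (cokernel.π_desc _ _ _).trans (Eq.trans ?_ comp_zero.symm)
    show Φ.map (0 : M ⟶ N) ≫ cokernel.π (Φ.map (0 : (0 : C) ⟶ N)) = 0
    rw [show (0 : M ⟶ N) = (0 : M ⟶ 0) ≫ (0 : (0 : C) ⟶ N) from zero_comp.symm,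
      Functor.map_comp, Category.assoc, cokernel.condition, comp_zero]

/-- The augmentation. -/
noncomputable def reduceπ : reduce Φ ⟶ 𝟭 C where
  app M := cokernel.desc _ (π.app M) (by rw [π.naturality]; exact comp_zero)
  naturality {M N} f := by
    refine (cancel_epi (cokernel.π _)).1 ?_
    refine ((cokernel.π_desc_assoc _ _ _ _).trans ?_).trans (cokernel.π_desc_assoc _ _ _ _).symm
    exact ((Category.assoc _ _ _).trans (congrArg (_ ≫ ·) (cokernel.π_desc _ _ _))).trans
      (π.naturality f)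

theorem epi_reduceπ_app (M : C) [Epi (π.app M)] : Epi ((reduceπ Φ π).app M) :=
  epi_of_epi_fac (cokernel.π_desc _ _ _ : _ ≫ (reduceπ Φ π).app M = π.app M)

theorem exists_retract_reduce (M : C) :
    ∃ (i : (reduce Φ).obj M ⟶ Φ.obj M) (r : Φ.obj M ⟶ (reduce Φ).obj M), i ≫ r = 𝟙 _ := by
  refine ⟨cokernel.desc _ (𝟙 _ - Φ.map (0 : M ⟶ 0) ≫ Φ.map (0 : (0 : C) ⟶ M)) ?_,
    cokernel.π _, ?_⟩
  · rw [Preadditive.comp_sub, Category.comp_id, ← Category.assoc, ← Functor.map_comp,
      show (0 : (0 : C) ⟶ M) ≫ (0 : M ⟶ 0) = 𝟙 _ from (isZero_zero _).eq_of_src _ _,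
      CategoryTheory.Functor.map_id, Category.id_comp, sub_self]
  · refine (cancel_epi (cokernel.π (Φ.map (0 : (0 : C) ⟶ M)))).1 ?_
    refine (cokernel.π_desc_assoc _ _ _ _).trans ?_
    show _ = cokernel.π (Φ.map (0 : (0 : C) ⟶ M)) ≫ 𝟙 _
    rw [Preadditive.sub_comp, Category.id_comp, Category.assoc]
    erw [cokernel.condition, comp_zero, sub_zero, Category.comp_id]

end Reduce

variable (A : Type u) [CommRing A]

/-- The bifunctor `⊗` on `A`-modules. -/
noncomputable abbrev TT : ModuleCat.{u} A ⥤ ModuleCat.{u} A ⥤ ModuleCat.{u} A :=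
  curriedTensor (ModuleCat.{u} A)

variable {A}

instance (a : ModuleCat.{u} A) : PreservesColimitsOfShape ℕ ((TT A).obj a) :=
  inferInstanceAs (PreservesColimitsOfShape ℕ (tensorLeft a))

instance (a : ModuleCat.{u} A) : PreservesFiniteColimits (tensorRight a) :=
  preservesFiniteColimits_of_natIso (BraidedCategory.tensorLeftIsoTensorRight a)

instance : HasExactColimitsOfShape ℕ (ModuleCat.{u} A) :=
  have : HasFilteredColimitsOfSize.{0, 0} (ModuleCat.{u} A) := hasFilteredColimitsOfSize_shrink.{0, 0, u, u}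
  have : AB5OfSize.{0, 0} (ModuleCat.{u} A) := AB5OfSize_shrink.{0, 0, u, u} (C := ModuleCat.{u} A)
  AB5OfSize.ofShape ℕ

instance (a : ModuleCat.{u} A) : PreservesColimitsOfShape ℕ ((TT A).flip.obj a) :=
  preservesColimitsOfShape_of_natIso (BraidedCategory.tensorLeftIsoTensorRight a)

lemma isFlatObj_of_flat (M : ModuleCat.{u} A) [Module.Flat A M] : KFlat.IsFlatObj (TT A) M :=
  fun S hS => hS.map_of_exact (tensorRight M)

lemma isFlatObj_flip_of_flat (M : ModuleCat.{u} A) [Module.Flat A M] :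
    KFlat.IsFlatObj (TT A).flip M :=
  fun S hS => hS.map_of_exact (tensorLeft M)

variable (A) in
/-- The free cover. -/
noncomputable abbrev cover : ModuleCat.{u} A ⥤ ModuleCat.{u} A :=
  reduce (forget (ModuleCat.{u} A) ⋙ ModuleCat.free A)

variable (A) in
/-- The augmentation of the free cover. -/
noncomputable abbrev coverπ : cover A ⟶ 𝟭 (ModuleCat.{u} A) :=
  reduceπ _ (ModuleCat.adj A).counit

instance (M : ModuleCat.{u} A) : Epi ((coverπ A).app M) := by
  haveI : Epi ((ModuleCat.adj A).counit.app M) := by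
    rw [ModuleCat.epi_iff_surjective]
    intro m
    exact ⟨ModuleCat.freeMk m, ModuleCat.freeDesc_apply _ _⟩
  exact epi_reduceπ_app _ _ M

instance flat_cover (M : ModuleCat.{u} A) : Module.Flat A ((cover A).obj M) := by
  obtain ⟨i, r, h⟩ := exists_retract_reduce (forget (ModuleCat.{u} A) ⋙ ModuleCat.free A) M
  haveI : Module.Flat A ((forget (ModuleCat.{u} A) ⋙ ModuleCat.free A).obj M) :=
    inferInstanceAs (Module.Flat A (_ →₀ A))
  exact Module.Flat.of_retract i.hom r.hom (by rw [← ModuleCat.hom_comp, h]; rfl)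

variable (A) in
/-- The functorial K-flat resolution. -/
noncomputable abbrev res : DRing.Cx A ⥤ DRing.Cx A := KFlat.Res.P (cover A) (coverπ A)

variable (A) in
/-- Its augmentation. -/
noncomputable abbrev resψ : res A ⟶ 𝟭 _ := KFlat.Res.ψ (cover A) (coverπ A)

theorem quasiIso_resψ (G : DRing.Cx A) : QuasiIso ((resψ A).app G) :=
  (KFlat.Res.quasiIso_ψ_app G).1

theorem isKFlat_res (G : DRing.Cx A) : KFlat.IsKFlat (TT A) ((res A).obj G) :=
  KFlat.Res.isKFlat_P (fun M => isFlatObj_of_flat ((cover A).obj M)) G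

theorem isKFlat_flip_res (G : DRing.Cx A) : KFlat.IsKFlat (TT A).flip ((res A).obj G) :=
  KFlat.Res.isKFlat_P (fun M => isFlatObj_flip_of_flat ((cover A).obj M)) G

theorem isKFlat_iff (E : DRing.Cx A) : DRing.IsKFlat A E ↔ KFlat.IsKFlat (TT A) E :=
  (KFlat.isKFlat_iff_homology (TT A) E).symm

/-- K-flatness is symmetric. -/
theorem isKFlat_flip_iff (E : DRing.Cx A) :
    KFlat.IsKFlat (TT A).flip E ↔ KFlat.IsKFlat (TT A) E := by
  have e : ∀ L : DRing.Cx A, (KFlat.tot (TT A).flip L).obj E ≅ (KFlat.tot (TT A) L).obj E :=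
    fun L => (KFlat.totFlipIso (F := TT A) E L) ≪≫ DTen.braidCx E L
  exact ⟨fun h L hL => KFlat.acyclic_of_iso (e L) (h L hL),
    fun h L hL => KFlat.acyclic_of_iso (e L).symm (h L hL)⟩

end Groth.Agent.H25DTen
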