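import Groth.Agent.H25DTen.EvalPseudo
import Mathlib

/-!
# Objects of `D(A)` killed by an ideal
-/

set_option autoImplicit false
set_option backward.isDefEq.respectTransparency false

universe u

open CategoryTheory CategoryTheory.Limits MonoidalCategory Pretriangulated Opposite

attribute [local instance] HasDerivedCategory.standard

namespace Groth.Agent.H25DTen

open Groth.Agent.H16Derived

variable {A : Type u} [CommRing A]

/-- `J` acts by zero on `Y`. -/
def Killed (J : Ideal A) (Y : Dual.D A) : Prop := ∀ g ∈ J, g • 𝟙 Y = 0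

lemma smul_id_comp (g : A) {X Y : Dual.D A} (f : X ⟶ Y) : (g • 𝟙 X) ≫ f = f ≫ (g • 𝟙 Y) := by
  rw [Linear.smul_comp, Linear.comp_smul, Category.id_comp, Category.comp_id]

lemma Killed.of_iso {J : Ideal A} {X Y : Dual.D A} (h : Killed J X) (e : X ≅ Y) : Killed J Y :=
  fun g hg => by rw [← cancel_epi e.hom, ← smul_id_comp, h g hg, zero_comp, comp_zero]

lemma Killed.mono {J J' : Ideal A} {X : Dual.D A} (h : Killed J X) (le : J' ≤ J) : Killed J' X :=
  fun g hg => h g (le hg)

lemma Killed.map {J : Ideal A} {X : Dual.D A} (h : Killed J X) (F : Dual.D A ⥤ Dual.D A) [F.Additive]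
    [F.Linear A] : Killed J (F.obj X) := fun g hg => by
  rw [← CategoryTheory.Functor.map_id, ← Functor.map_smul, h g hg, Functor.map_zero]

lemma Killed.shift {J : Ideal A} {X : Dual.D A} (h : Killed J X) (n : ℤ) : Killed J (X⟦n⟧) :=
  h.map (shiftFunctor (Dual.D A) n)

/-- The middle of a triangle is killed by the product of the ideals killing the ends. -/
theorem Killed.mul {J J' : Ideal A} (T : Triangle (Dual.D A)) (hT : T ∈ (distTriang _))
    (h₁ : Killed J T.obj₁) (h₃ : Killed J' T.obj₃) : Killed (J * J') T.obj₂ := by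
  intro g hg
  refine Submodule.mul_induction_on hg (fun a ha b hb => ?_) fun x y hx hy => by
    rw [add_smul, hx, hy, add_zero]
  obtain ⟨w, hw⟩ := Triangle.coyoneda_exact₂ T hT (b • 𝟙 T.obj₂) (by
    rw [smul_id_comp, h₃ b hb, comp_zero])
  calc (a * b) • 𝟙 T.obj₂ = a • (b • 𝟙 T.obj₂) := mul_smul a b _
    _ = w ≫ (a • 𝟙 T.obj₁) ≫ T.mor₁ := by
      rw [hw, Linear.smul_comp, Category.id_comp, Linear.comp_smul]
    _ = 0 := by rw [h₁ a ha, zero_comp, comp_zero]

lemma Killed.eq_zero_of_comp {J : Ideal A} {Y : Dual.D A} (h : Killed J Y) {X : Dual.D A} (f : X ⟶ Y)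
    {g : A} (hg : g ∈ J) : g • f = 0 := by
  rw [← Category.comp_id f, ← Linear.comp_smul, h g hg, comp_zero]

lemma killed_single {J : Ideal A} {N : ModuleCat.{u} A} (h : ∀ g ∈ J, ∀ x : N, g • x = 0) (n : ℤ) :
    Killed J ((DerivedCategory.singleFunctor (ModuleCat.{u} A) n).obj N) := fun g hg => by
  haveI : (DerivedCategory.singleFunctor (ModuleCat.{u} A) n).Linear A :=
    Functor.linear_of_iso _ (DerivedCategory.singleFunctorIsoCompQ (ModuleCat.{u} A) n).symm
  rw [← CategoryTheory.Functor.map_id, ← Functor.map_smul,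
    show g • 𝟙 N = 0 from ModuleCat.hom_ext (LinearMap.ext fun x => h g hg x), Functor.map_zero]

/-- The two ends of a truncation triangle are killed with the middle. -/
theorem Killed.of_truncation {J : Ideal A} (T : Triangle (Dual.D A)) (hT : T ∈ (distTriang _))
    (h : Killed J T.obj₂) (n : ℤ) (h₁ : (T.obj₁).IsLE (n - 1)) (h₃ : (T.obj₃).IsGE n) :
    Killed J T.obj₁ ∧ Killed J T.obj₃ := by
  constructor
  · intro g hg
    obtain ⟨w, hw⟩ := Triangle.coyoneda_exact₁ T hT ((g • 𝟙 T.obj₁)⟦(1 : ℤ)⟧') (by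
      rw [← Functor.map_comp, smul_id_comp, h g hg, comp_zero, Functor.map_zero])
    haveI := h₁
    haveI := h₃
    haveI := DerivedCategory.TStructure.t.isLE_shift T.obj₁ (n - 1) 1 (n - 2)
    have hw0 : w = 0 := DerivedCategory.TStructure.t.zero_of_isLE_of_isGE w (n - 2) n (by omega)
      inferInstance inferInstance
    rw [hw0, zero_comp] at hw
    exact (shiftFunctor (Dual.D A) (1 : ℤ)).map_injective (hw.trans (Functor.map_zero _ _ _).symm)
  · intro g hg
    obtain ⟨w, hw⟩ := Triangle.yoneda_exact₃ T hT (g • 𝟙 T.obj₃) (by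
      rw [← smul_id_comp, h g hg, zero_comp])
    haveI := h₁
    haveI := h₃
    haveI := DerivedCategory.TStructure.t.isLE_shift T.obj₁ (n - 1) 1 (n - 2)
    rw [hw, DerivedCategory.TStructure.t.zero_of_isLE_of_isGE w (n - 2) n (by omega)
      inferInstance inferInstance, comp_zero]

section Tensor

variable [DTen.HasLTen A]

instance linear_tenL (K : DRing.Cx A) : (tenL K).Linear A where
  map_smul {X Y} f r := by
    refine HomologicalComplex.hom_ext _ _ fun n => HomologicalComplex.mapBifunctor.hom_ext fun p q h => ?_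
    rw [HomologicalComplex.smul_f_apply, Linear.comp_smul]
    erw [KFlat.ι_tot_map (F := TT A) K (r • f) p q n h, KFlat.ι_tot_map (F := TT A) K f p q n h]
    rw [HomologicalComplex.smul_f_apply, Functor.map_smul, Linear.smul_comp]

/-- `Q(K) ⊗^L -` computed by complexes. -/
noncomputable def tenLIso (K : DRing.Cx A) (hK : KFlat.IsKFlat (TT A) K) :
    DerivedCategory.Q ⋙ TL (DerivedCategory.Q.obj K) ≅ tenL K ⋙ DerivedCategory.Q :=
  haveI : ∀ L, IsIso ((DTen.εLeft A K).app L) := fun L => isIso_ε K L (Or.inl hK)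
  NatIso.ofComponents (fun L => asIso ((DTen.εLeft A K).app L)) fun f => (DTen.εLeft A K).naturality f

instance linear_TL [DTen.HasLTen₃ A] [DTen.IsSymMonoidal A] [DTen.HasRHom A] (L : Dual.D A) :
    (TL L).Linear A := by
  obtain ⟨K₀, ⟨e₀⟩⟩ := Localization.essSurj DerivedCategory.Q (DTen.qis A) |>.mem_essImage L
  haveI := isIso_Q_map _ (quasiIso_resψ K₀)
  let K := (res A).obj K₀
  let e : DerivedCategory.Q.obj K ≅ L := asIso (DerivedCategory.Q.map ((resψ A).app K₀)) ≪≫ e₀
  haveI : (TL (DerivedCategory.Q.obj K)).Additive := additive_TL _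
  haveI : (DerivedCategory.Q ⋙ TL (DerivedCategory.Q.obj K)).Linear A :=
    Functor.linear_of_iso _ (tenLIso K (isKFlat_res K₀)).symm
  letI : Localization.Lifting DerivedCategory.Q (DTen.qis A)
      (DerivedCategory.Q ⋙ TL (DerivedCategory.Q.obj K)) (TL (DerivedCategory.Q.obj K)) := ⟨Iso.refl _⟩
  haveI : (TL (DerivedCategory.Q.obj K)).Linear A :=
    (Localization.functor_linear_iff DerivedCategory.Q (DTen.qis A) A
      (DerivedCategory.Q ⋙ TL (DerivedCategory.Q.obj K)) _).1 inferInstance
  exact Functor.linear_of_iso _ ((DTen.LTen A).mapIso e)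

end Tensor

end Groth.Agent.H25DTen
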