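import Groth.Agent.H25DTen.Assoc
import Groth.Prelude.Def_DTen5

/-!
# Derived base change is monoidal
-/

set_option autoImplicit false
set_option backward.isDefEq.respectTransparency false

universe u

open CategoryTheory CategoryTheory.Limits MonoidalCategory

attribute [local instance] HasDerivedCategory.standard

namespace Groth.Agent.H25DTen

open Groth.Agent.H16Derived

variable {R R' : Type u} [CommRing R] [CommRing R'] (φ : R →+* R')

lemma unit_tensor_module (M N : ModuleCat.{u} R) :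
    ((ModuleCat.extendRestrictScalarsAdj.{u, u, u} φ).unit.app M ⊗ₘ
        (ModuleCat.extendRestrictScalarsAdj.{u, u, u} φ).unit.app N) ≫
      DTen.resTen₀app φ ((DTen.extM φ).obj M) ((DTen.extM φ).obj N) ≫
      (DTen.resM φ).map (Functor.LaxMonoidal.μ (DTen.extM φ) M N) =
    (ModuleCat.extendRestrictScalarsAdj.{u, u, u} φ).unit.app (M ⊗ N) := by
  rw [← cancel_mono ((DTen.resM φ).map (Functor.OplaxMonoidal.δ (DTen.extM φ) M N)), Category.assoc,
    Category.assoc, ← Functor.map_comp, Functor.Monoidal.μ_δ, CategoryTheory.Functor.map_id, Category.comp_id]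
  refine ModuleCat.hom_ext (TensorProduct.ext' fun m n => ?_)
  exact (ModuleCat.extendScalars_δ_tmul φ M N m n).symm

lemma unitCx_tensor (X Y : DRing.Cx R) :
    ((DTen.unitCx φ).app X ⊗ₘ (DTen.unitCx φ).app Y) ≫
        DTen.resTenCx φ ((DTen.extCx φ).obj X) ((DTen.extCx φ).obj Y) ≫
        (DTen.resCx φ).map (DTen.extTenCxIso φ X Y).inv =
      (DTen.unitCx φ).app (X ⊗ Y) := by
  refine HomologicalComplex.hom_ext _ _ fun n => HomologicalComplex.mapBifunctor.hom_ext fun p q h => ?_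
  erw [HomologicalComplex.comp_f, HomologicalComplex.comp_f]
  erw [HomologicalComplex.ι_mapBifunctorMap_assoc, DTen.ι_resTenCx_assoc φ _ _ p q n h]
  erw [← Functor.map_comp, DTen.ι_extTenCxIso_inv φ X Y p q n h, Functor.map_comp]
  refine Eq.trans ?_ ((ModuleCat.extendRestrictScalarsAdj.{u, u, u} φ).unit.naturality
    (HomologicalComplex.ιTensorObj X Y p q n h)).symm
  refine Eq.trans ?_ (congrArg (· ≫ _) (unit_tensor_module φ (X.X p) (Y.X q)))
  simp only [MonoidalCategory.tensorHom_def]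
  erw [Category.assoc, Category.assoc, Category.assoc]
  rfl

section

variable [DTen.HasLTen R] [DTen.HasLTen R'] [DTen.HasLBase φ] [DTen.HasResTen φ] [DTen.ResLegIso φ]

/-- `(X ⊗ Y) ⊗_R R' ⟶ (X ⊗_R R') ⊗ (Y ⊗_R R')`. -/
noncomputable def μ (X Y : Dual.D R) :
    (DTen.LBase φ).obj ((DTen.LTen₂ R).obj (X, Y)) ⟶
      (DTen.LTen₂ R').obj ((DTen.LBase φ).obj X, (DTen.LBase φ).obj Y) :=
  ((DTen.baseAdj φ).homEquiv _ _).symm
    ((DTen.LTen₂ R).map (Prod.mkHom ((DTen.baseAdj φ).unit.app X) ((DTen.baseAdj φ).unit.app Y)) ≫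
      (DTen.resPF φ).app ((DTen.LBase φ).obj X, (DTen.LBase φ).obj Y))

lemma homEquiv_μ (X Y : Dual.D R) :
    (DTen.baseAdj φ).homEquiv _ _ (μ φ X Y) =
      (DTen.LTen₂ R).map (Prod.mkHom ((DTen.baseAdj φ).unit.app X) ((DTen.baseAdj φ).unit.app Y)) ≫
        (DTen.resPF φ).app ((DTen.LBase φ).obj X, (DTen.LBase φ).obj Y) :=
  Equiv.apply_symm_apply _ _

@[reassoc]
lemma μ_naturality {X X' Y Y' : Dual.D R} (f : X ⟶ X') (g : Y ⟶ Y') :
    (DTen.LBase φ).map ((DTen.LTen₂ R).map (Prod.mkHom f g)) ≫ μ φ X' Y' =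
      μ φ X Y ≫ (DTen.LTen₂ R').map (Prod.mkHom ((DTen.LBase φ).map f) ((DTen.LBase φ).map g)) := by
  apply ((DTen.baseAdj φ).homEquiv _ _).injective
  rw [Adjunction.homEquiv_naturality_left, Adjunction.homEquiv_naturality_right, homEquiv_μ, homEquiv_μ]
  have h := (DTen.resPF φ).naturality (X := ((DTen.LBase φ).obj X, (DTen.LBase φ).obj Y))
    (Y := ((DTen.LBase φ).obj X', (DTen.LBase φ).obj Y'))
    (Prod.mkHom ((DTen.LBase φ).map f) ((DTen.LBase φ).map g))
  rw [Category.assoc]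
  refine Eq.trans ?_ (congrArg (_ ≫ ·) h)
  erw [← Functor.map_comp_assoc, ← Functor.map_comp_assoc]
  congr 2
  exact Prod.ext ((DTen.baseAdj φ).unit.naturality f) ((DTen.baseAdj φ).unit.naturality g)

lemma μ_fac (K L : DRing.Cx R) :
    μ φ (DerivedCategory.Q.obj K) (DerivedCategory.Q.obj L) ≫
        (DTen.LTen₂ R').map (Prod.mkHom ((DTen.baseCmp φ).app K) ((DTen.baseCmp φ).app L)) ≫
        (DTen.ε R').app ((DTen.extCx φ).obj K, (DTen.extCx φ).obj L) ≫
        DerivedCategory.Q.map (DTen.extTenCxIso φ K L).inv =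
      (DTen.LBase φ).map ((DTen.ε R).app (K, L)) ≫ (DTen.baseCmp φ).app (K ⊗ L) := by
  apply ((DTen.baseAdj φ).homEquiv _ _).injective
  rw [Adjunction.homEquiv_naturality_left, Adjunction.homEquiv_naturality_right, homEquiv_μ,
    Adjunction.homEquiv_unit]
  erw [DTen.baseCmp_fac]
  simp only [Functor.map_comp, Category.assoc]
  have hn := (DTen.resPF φ).naturality (X := ((DTen.LBase φ).obj (DerivedCategory.Q.obj K),
      (DTen.LBase φ).obj (DerivedCategory.Q.obj L)))
    (Y := (DerivedCategory.Q.obj ((DTen.extCx φ).obj K), DerivedCategory.Q.obj ((DTen.extCx φ).obj L)))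
    (Prod.mkHom ((DTen.baseCmp φ).app K) ((DTen.baseCmp φ).app L))
  erw [← reassoc_of% hn, ← Functor.map_comp_assoc]
  have hf := DTen.resPF_fac φ ((DTen.extCx φ).obj K, (DTen.extCx φ).obj L)
  have hB : (DTen.resβB φ).app ((DTen.extCx φ).obj K, (DTen.extCx φ).obj L) ≫
      (DTen.resFactors φ).inv.app _ = (DRing.restrictD φ).map
        ((DTen.ε R').app ((DTen.extCx φ).obj K, (DTen.extCx φ).obj L)) := by
    dsimp [DTen.resβB]
    erw [Category.assoc, Iso.hom_inv_id_app, Category.comp_id]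
  rw [← hB]
  simp only [Category.assoc]
  erw [reassoc_of% hf, ← (DTen.resFactors φ).inv.naturality]
  dsimp [DTen.resβA, DTen.baseγ]
  simp only [Category.assoc]
  erw [← Functor.map_comp_assoc]
  have hp : (Prod.mkHom ((DTen.baseAdj φ).unit.app (DerivedCategory.Q.obj K) ≫
        (DRing.restrictD φ).map ((DTen.baseCmp φ).app K) ≫ (DTen.resFactors φ).hom.app _)
      ((DTen.baseAdj φ).unit.app (DerivedCategory.Q.obj L) ≫
        (DRing.restrictD φ).map ((DTen.baseCmp φ).app L) ≫ (DTen.resFactors φ).hom.app _)) =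
      (DTen.QQ R).map (Prod.mkHom ((DTen.unitCx φ).app K) ((DTen.unitCx φ).app L)) := by
    rw [← Category.assoc, ← Category.assoc, DTen.baseCmp_fac, DTen.baseCmp_fac]
    dsimp [DTen.baseγ]
    simp
  refine Eq.trans (congrArg (fun z => (DTen.LTen₂ R).map z ≫ _)
    ((Prod.ext (Category.assoc _ _ _) (Category.assoc _ _ _)).trans hp)) ?_
  erw [reassoc_of% ((DTen.ε R).naturality (Prod.mkHom ((DTen.unitCx φ).app K) ((DTen.unitCx φ).app L)))]
  congr 1
  erw [← Functor.map_comp_assoc, ← Functor.map_comp_assoc]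
  congr 2
  rw [← unitCx_tensor φ K L]
  dsimp
  rw [MonoidalCategory.tensorHom_def, Category.assoc, Category.assoc]

theorem isIso_μ (X Y : Dual.D R) : IsIso (μ φ X Y) := by
  obtain ⟨K₀, ⟨eK⟩⟩ := Localization.essSurj DerivedCategory.Q (DTen.qis R) |>.mem_essImage X
  obtain ⟨L₀, ⟨eL⟩⟩ := Localization.essSurj DerivedCategory.Q (DTen.qis R) |>.mem_essImage Y
  let K := (res R).obj K₀
  let L := (res R).obj L₀
  haveI := isIso_Q_map _ (quasiIso_resψ K₀)
  haveI := isIso_Q_map _ (quasiIso_resψ L₀)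
  let eK' : DerivedCategory.Q.obj K ≅ X := asIso (DerivedCategory.Q.map ((resψ R).app K₀)) ≪≫ eK
  let eL' : DerivedCategory.Q.obj L ≅ Y := asIso (DerivedCategory.Q.map ((resψ R).app L₀)) ≪≫ eL
  have hK : KFlat.IsKFlat (TT R) K := isKFlat_res K₀
  have hL : KFlat.IsKFlat (TT R) L := isKFlat_res L₀
  have h1 : IsIso (μ φ (DerivedCategory.Q.obj K) (DerivedCategory.Q.obj L)) := by
    haveI := isIso_ε K L (Or.inl hK)
    haveI := IsIso.comp_isIso' (Functor.map_isIso (DTen.LBase φ) ((DTen.ε R).app (K, L)))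
      (isIso_baseCmp φ (K ⊗ L) (isKFlat_tensor hK hL))
    haveI : IsIso ((DTen.LTen₂ R').map (Prod.mkHom ((DTen.baseCmp φ).app K) ((DTen.baseCmp φ).app L)) ≫
        (DTen.ε R').app ((DTen.extCx φ).obj K, (DTen.extCx φ).obj L) ≫
        DerivedCategory.Q.map (DTen.extTenCxIso φ K L).inv) :=
      IsIso.comp_isIso' (isIso_map_pair _ _ _ (isIso_baseCmp φ K hK) (isIso_baseCmp φ L hL))
        (IsIso.comp_isIso' (isIso_ε _ _ (Or.inl (isKFlat_extCx φ hK))) (Functor.map_isIso _ _))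
    exact IsIso.of_isIso_fac_right (μ_fac φ K L)
  haveI := isIso_map_pair (DTen.LTen₂ R) eK'.hom eL'.hom inferInstance inferInstance
  haveI := isIso_map_pair (DTen.LTen₂ R') ((DTen.LBase φ).map eK'.hom) ((DTen.LBase φ).map eL'.hom)
    inferInstance inferInstance
  haveI := IsIso.comp_isIso' h1 ‹IsIso ((DTen.LTen₂ R').map
    (Prod.mkHom ((DTen.LBase φ).map eK'.hom) ((DTen.LBase φ).map eL'.hom)))›
  exact IsIso.of_isIso_fac_left (μ_naturality φ eK'.hom eL'.hom)

variable [DTen.HasRHom R] [DTen.HasRHom R']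

theorem isIso_rhomBC (K : Dual.D R) (M : Dual.D R') : IsIso (DTen.rhomBC φ K M) := by
  refine (isIso_iff_yoneda_map_bijective _).2 fun X => ?_
  haveI := isIso_μ φ X K
  convert (((DTen.baseAdj φ).homEquiv X ((DTen.RHomR R' ((DTen.LBase φ).obj K)).obj M)).symm.trans
    ((DTen.rhomHomEquiv ((DTen.LBase φ).obj X) ((DTen.LBase φ).obj K) M).symm.trans
      ((Iso.homCongr (asIso (μ φ X K)).symm (Iso.refl M)).trans
        (((DTen.baseAdj φ).homEquiv _ M).trans (DTen.rhomHomEquiv X K _))))).bijective using 1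
  funext f
  obtain ⟨f', rfl⟩ := ((DTen.baseAdj φ).homEquiv X _).surjective f
  simp only [Equiv.trans_apply, Equiv.symm_apply_apply, Iso.homCongr_apply, Iso.symm_inv,
    asIso_hom, Iso.refl_hom, Category.comp_id]
  dsimp only [DTen.rhomBC]
  erw [← Adjunction.homEquiv_naturality_left]
  congr 1
  rw [Adjunction.homEquiv_naturality_right, homEquiv_μ, Adjunction.homEquiv_unit]
  erw [show (DTen.rhomHomEquiv ((DTen.LBase φ).obj X) ((DTen.LBase φ).obj K) M).symm f' =
    (DTen.LTen₂ R').map (Prod.mkHom f' (𝟙 _)) ≫ DTen.ev ((DTen.LBase φ).obj K) M from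
    Adjunction.homEquiv_counit _ _ _ _]
  dsimp only [DTen.rhomBCCore]
  rw [Functor.map_comp]
  have hn := (DTen.resPF φ).naturality (X := ((DTen.LBase φ).obj X, (DTen.LBase φ).obj K))
    (Y := ((DTen.RHomR R' ((DTen.LBase φ).obj K)).obj M, (DTen.LBase φ).obj K))
    (Prod.mkHom f' (𝟙 _))
  simp only [Category.assoc, Functor.map_comp]
  erw [← reassoc_of% hn, ← Functor.map_comp_assoc, ← Functor.map_comp_assoc]
  refine ((Functor.map_comp_assoc (DTen.LTen₂ R) (Prod.mkHom _ (𝟙 K)) _ _).symm).trans ?_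
  refine congrArg (fun z => (DTen.LTen₂ R).map z ≫ _) (Prod.ext (Category.comp_id _) ?_)
  exact (Category.id_comp _).trans (((congrArg (_ ≫ ·) ((DRing.restrictD φ).map_id _))).trans (Category.comp_id _)).symm

end

end Groth.Agent.H25DTen
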