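import Groth.Agent.H25DTen.Invertible
import Mathlib.Algebra.Homology.DerivedCategory.ShortExact
import Mathlib.Algebra.Homology.DerivedCategory.SingleTriangle
import Groth.Prelude.Def_DRing2
import Mathlib

/-!
# Induction principle for perfect objects of `D(A)`
-/

set_option autoImplicit false

universe u

open CategoryTheory CategoryTheory.Limits MonoidalCategory Pretriangulated

attribute [local instance] HasDerivedCategory.standard

namespace Groth.Agent.H25DTen

open Groth.Agent.H16Derived

variable {A : Type u} [CommRing A]

/-- `A` in degree `k` is a shift of the unit. -/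
noncomputable def singleUnitIso (k : ℤ) :
    (HomologicalComplex.single (ModuleCat.{u} A) (ComplexShape.up ℤ) k).obj (ModuleCat.of A A) ≅
      unitCx A (-k) :=
  (((CochainComplex.singleFunctors (ModuleCat.{u} A)).shiftIso (-k) k 0 (by omega)).app
    (ModuleCat.of A A)).symm

/-- A property of objects closed under retracts and extensions which holds for the shifts of the unit
holds for all perfect objects. -/
theorem perfect_induction (P : Dual.D A → Prop)
    (hretract : ∀ {K L : Dual.D A} (i : K ⟶ L) (r : L ⟶ K), i ≫ r = 𝟙 K → P L → P K)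
    (hext : ∀ (T : Triangle (Dual.D A)), T ∈ (distTriang _) → P T.obj₁ → P T.obj₃ → P T.obj₂)
    (hS : ∀ k : ℤ, P (S A k)) {K : Dual.D A} (hK : DRing.IsPerfect A K) : P K := by
  have hiso : ∀ {K L : Dual.D A}, (K ≅ L) → P L → P K := fun e h =>
    hretract e.hom e.inv e.hom_inv_id h
  let sg (k : ℤ) : ModuleCat.{u} A ⥤ DRing.Cx A :=
    HomologicalComplex.single (ModuleCat.{u} A) (ComplexShape.up ℤ) k
  let PS (k : ℤ) (M : ModuleCat.{u} A) : Prop := P (DerivedCategory.Q.obj ((sg k).obj M))
  have hzero : ∀ {K : Dual.D A}, IsZero K → P K := fun hK =>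
    hretract (L := S A 0) 0 0 (hK.eq_of_src _ _) (hS 0)
  have hfree : ∀ (m : ℕ) (k : ℤ), PS k (ModuleCat.of A (Fin m → A)) := by
    intro m
    induction m with
    | zero =>
      intro k
      exact hzero ((DerivedCategory.Q (C := ModuleCat.{u} A)).map_isZero
        ((sg k).map_isZero (ModuleCat.isZero_of_subsingleton _)))
    | succ m ih =>
      intro k
      let S' : ShortComplex (ModuleCat.{u} A) := ShortComplex.mk
        (ModuleCat.ofHom (LinearMap.inl A A (Fin m → A)))
        (ModuleCat.ofHom (LinearMap.snd A A (Fin m → A))) (ModuleCat.hom_ext (LinearMap.snd_comp_inl A A (Fin m → A)))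
      have hS' : S'.ShortExact :=
        { exact := (ShortComplex.ShortExact.moduleCat_exact_iff_function_exact _).2 Function.Exact.inl_snd
          mono_f := (ModuleCat.mono_iff_injective _).2 LinearMap.inl_injective
          epi_g := (ModuleCat.epi_iff_surjective _).2 LinearMap.snd_surjective }
      have h := hext _ (DerivedCategory.triangleOfSES_distinguished (hS'.map_of_exact (sg k)))
        (hiso (DerivedCategory.Q.mapIso (singleUnitIso k)) (hS (-k))) (ih k)
      refine hiso ?_ h
      exact DerivedCategory.Q.mapIso ((sg k).mapIso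
        (Fin.consLinearEquiv A (fun _ => A)).symm.toModuleIso)
  have hproj : ∀ (k : ℤ) (M : ModuleCat.{u} A), Module.Finite A M → Module.Projective A M →
      PS k M := by
    intro k M _ _
    obtain ⟨m, f, hf⟩ := Module.Finite.exists_fin' A M
    obtain ⟨s, hs⟩ := Module.projective_lifting_property f LinearMap.id hf
    refine hretract (DerivedCategory.Q.map ((sg k).map (ModuleCat.ofHom s)))
      (DerivedCategory.Q.map ((sg k).map (ModuleCat.ofHom f))) ?_ (hfree m k)
    rw [← Functor.map_comp, ← Functor.map_comp, ← ModuleCat.ofHom_comp, hs]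
    exact ((sg k ⋙ DerivedCategory.Q).map_id M)
  have hsingle : ∀ (E : DRing.Cx A) (k : ℤ), (∀ q, q ≠ k → IsZero (E.X q)) →
      Module.Finite A (E.X k) ∧ Module.Projective A (E.X k) → P (DerivedCategory.Q.obj E) := by
    intro E k hz hE
    haveI : E.IsStrictlyGE k :=
      (CochainComplex.isStrictlyGE_iff E k).2 fun q hq => hz q (by omega)
    haveI : E.IsStrictlyLE k :=
      (CochainComplex.isStrictlyLE_iff E k).2 fun q hq => hz q (by omega)
    obtain ⟨M, ⟨e⟩⟩ := CochainComplex.exists_iso_single E k
    let eM : E.X k ≅ M := (HomologicalComplex.eval _ _ k).mapIso e ≪≫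
      HomologicalComplex.singleObjXSelf (ComplexShape.up ℤ) k M
    haveI := hE.1
    haveI := hE.2
    exact hiso (DerivedCategory.Q.mapIso e) (hproj k M (Module.Finite.equiv eM.toLinearEquiv)
      (Module.Projective.of_equiv eM.toLinearEquiv))
  have hbdd : ∀ (n : ℕ) (E : DRing.Cx A) (a : ℤ), (∀ q, q < a ∨ a + n < q → IsZero (E.X q)) →
      DRing.TermwiseFiniteProjective E → P (DerivedCategory.Q.obj E) := by
    intro n
    induction n with
    | zero => exact fun E a hz hE => hsingle E a (fun q hq => hz q (by omega)) (hE a)
    | succ n ih =>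
      intro E a hz hE
      refine hext _ (DerivedCategory.triangleOfSES_distinguished
        (KFlat.Brutal.shortExact E (a + 1))) ?_ ?_
      · refine ih _ (a + 1) (fun q hq => ?_) (fun q => ?_)
        · by_cases h : a + 1 ≤ q
          · haveI := KFlat.Brutal.isIso_ι_f E (a + 1) h
            exact (hz q (by omega)).of_iso (asIso ((KFlat.Brutal.ι E (a + 1)).f q))
          · exact KFlat.Brutal.isZero_geq E _ (by omega)
        · by_cases h : a + 1 ≤ q
          · haveI := KFlat.Brutal.isIso_ι_f E (a + 1) h
            haveI := (hE q).1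
            haveI := (hE q).2
            let e := (asIso ((KFlat.Brutal.ι E (a + 1)).f q)).toLinearEquiv.symm
            exact ⟨Module.Finite.equiv e, Module.Projective.of_equiv e⟩
          · haveI := ModuleCat.subsingleton_of_isZero
              (KFlat.Brutal.isZero_geq E (a + 1) (q := q) (by omega))
            exact ⟨inferInstance, inferInstance⟩
      · haveI := KFlat.Brutal.isIso_cokernel_π E (a + 1) (q := a) (by omega)
        refine hsingle _ a (fun q hq => ?_) ?_
        · rcases lt_or_gt_of_ne hq with h | h
          · exact KFlat.Brutal.isZero_cokernel' E _ (hz q (Or.inl h))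
          · exact KFlat.Brutal.isZero_cokernel E _ (by omega)
        · haveI := (hE a).1
          haveI := (hE a).2
          let e := (asIso ((cokernel.π (KFlat.Brutal.ι E (a + 1))).f a)).toLinearEquiv
          exact ⟨Module.Finite.equiv e, Module.Projective.of_equiv e⟩
  obtain ⟨E, a, b, hv, hE, ⟨e⟩⟩ := hK
  refine hiso e.symm (hbdd (b - a).toNat E a (fun q hq => hv q ?_) hE)
  omega

end Groth.Agent.H25DTen
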