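import Groth.Agent.H4DR.TorAmp.Perfect
import Groth.Agent.H4DR.PCoh.Modules
import Groth.Agent.H16Derived.ProjLift
import Mathlib

/-!
# Perfectness over a Noetherian ring detected by maps to residue fields
-/

set_option autoImplicit false
set_option backward.isDefEq.respectTransparency false

universe u

open CategoryTheory CategoryTheory.Limits
open scoped Polynomial

attribute [local instance] HasDerivedCategory.standard

namespace Groth.Agent.H25DTen.PerfectPoint

open Groth.Agent.H4DR Groth.Agent.H16Derived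
open Polynomial (aeval eval)

variable {A : Type u} [CommRing A]

/-- If a map `ι : Z ⟶ F` into a module admits a retraction modulo `m`, some element outside `m` times
the identity of `Z` factors through `ι`. -/
theorem exists_notMem_factor (m : Ideal A) [hm : m.IsPrime] {Z F : Type u} [AddCommGroup Z] [Module A Z]
    [Module.Finite A Z] [AddCommGroup F] [Module A F] (ι : Z →ₗ[A] F) (r₀ : F →ₗ[A] Z)
    (h : ∀ z, r₀ (ι z) - z ∈ m • (⊤ : Submodule A Z)) :
    ∃ g : A, g ∉ m ∧ ∃ r : F →ₗ[A] Z, r ∘ₗ ι = g • LinearMap.id := by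
  let θ : Module.End A Z := r₀ ∘ₗ ι
  obtain ⟨p, hp, hdeg, hcoeff, hzero⟩ :=
    LinearMap.exists_monic_and_natDegree_eq_and_coeff_mem_pow_and_aeval_eq_zero A (θ - 1) m
      (by rintro _ ⟨z, rfl⟩; exact h z)
  let q : A[X] := p.comp (Polynomial.X - 1)
  have hq : aeval θ q = 0 := by
    rw [Polynomial.aeval_comp, map_sub, Polynomial.aeval_X, map_one]
    exact hzero
  have hg : q.coeff 0 ∉ m := by
    intro hmem
    rw [Polynomial.coeff_zero_eq_eval_zero, Polynomial.eval_comp, Polynomial.eval_sub, Polynomial.eval_X, Polynomial.eval_one, zero_sub,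
      Polynomial.eval_eq_sum_range, Finset.sum_range_succ, hp.coeff_natDegree, one_mul] at hmem
    have h1 : ∑ i ∈ Finset.range p.natDegree, p.coeff i * (-1 : A) ^ i ∈ m := by
      refine Ideal.sum_mem _ fun i hi => Ideal.mul_mem_right _ _ ?_
      have := hcoeff i
      have hi' := Finset.mem_range.1 hi
      exact Ideal.pow_le_self (by omega) this
    have h2 := (Ideal.add_mem_iff_right m h1).1 hmem
    exact hm.ne_top (Ideal.eq_top_of_isUnit_mem _ h2 (isUnit_one.neg.pow _))
  refine ⟨-q.coeff 0, fun h' => hg (by simpa using h'), aeval θ q.divX ∘ₗ r₀, ?_⟩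
  have h3 := congrArg (aeval θ) (Polynomial.divX_mul_X_add q)
  rw [map_add, map_mul, Polynomial.aeval_X, Polynomial.aeval_C, hq] at h3
  refine LinearMap.ext fun z => ?_
  have h4 := congr($h3 z)
  change aeval θ q.divX (θ z) + q.coeff 0 • z = 0 at h4
  change aeval θ q.divX (θ z) = (-q.coeff 0) • z
  rw [neg_smul]
  exact eq_neg_of_add_eq_zero_left h4

variable (P : DRing.Cx A)

/-- The ideal of elements splitting the opcycles off the next term. -/
noncomputable def splitIdeal (c : ℤ) : Ideal A where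
  carrier := {g | ∃ r : P.X (c + 1) ⟶ P.opcycles c, P.fromOpcycles c (c + 1) ≫ r = g • 𝟙 _}
  add_mem' := by
    rintro a b ⟨r, hr⟩ ⟨s, hs⟩
    exact ⟨r + s, by rw [Preadditive.comp_add, hr, hs, add_smul]⟩
  zero_mem' := ⟨0, by simp⟩
  smul_mem' := by
    rintro x a ⟨r, hr⟩
    exact ⟨x • r, by rw [Linear.comp_smul, hr, smul_smul]; rfl⟩

lemma splitIdeal_le (hproj : ∀ i, CategoryTheory.Projective (P.X i)) (c c' c'' : ℤ) (h₁ : c' + 1 = c) (h₂ : c'' + 1 = c')
    (hex : P.ExactAt c') : splitIdeal P c ≤ splitIdeal P c' := by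
  subst h₁
  rintro g ⟨r, hr⟩
  haveI := hproj
  let r' : P.X (c' + 1 + 1) ⟶ P.X (c' + 1) := Projective.factorThru r (P.pOpcycles (c' + 1))
  let θ : P.X (c' + 1) ⟶ P.X (c' + 1) := g • 𝟙 _ - P.d (c' + 1) (c' + 1 + 1) ≫ r'
  have hθ : θ ≫ P.pOpcycles (c' + 1) = 0 := by
    dsimp only [θ]
    rw [Preadditive.sub_comp, Category.assoc, Projective.factorThru_comp, ← P.p_fromOpcycles,
      Category.assoc, hr, Linear.smul_comp, Category.id_comp, Linear.comp_smul, Category.comp_id, sub_self]
  have hS : (ShortComplex.mk _ _ (P.d_pOpcycles c' (c' + 1))).Exact :=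
    ShortComplex.exact_of_g_is_cokernel _ (P.opcyclesIsCokernel c' (c' + 1) (by simp))
  let θ' : P.X (c' + 1) ⟶ P.X c' := hS.liftFromProjective θ hθ
  have hθ' : θ' ≫ P.d c' (c' + 1) = θ := hS.liftFromProjective_comp θ hθ
  let η : P.X c' ⟶ P.X c' := P.d c' (c' + 1) ≫ θ' - g • 𝟙 _
  have hη : η ≫ P.d c' (c' + 1) = 0 := by
    dsimp only [η]
    rw [Preadditive.sub_comp, Category.assoc, hθ']
    dsimp only [θ]
    rw [Preadditive.comp_sub, Linear.comp_smul, Category.comp_id, Linear.smul_comp, Category.id_comp,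
      P.d_comp_d_assoc, zero_comp, sub_zero, sub_self]
  have hS' := (HomologicalComplex.exactAt_iff' P c'' c' (c' + 1) (by simp [← h₂]) (by simp)).1 hex
  refine ⟨θ' ≫ P.pOpcycles c', ?_⟩
  rw [← cancel_epi (P.pOpcycles c'), P.p_fromOpcycles_assoc]
  have h5 : η ≫ P.pOpcycles c' = 0 := by
    rw [← hS'.liftFromProjective_comp η hη, Category.assoc]
    exact (congrArg (_ ≫ ·) (P.d_pOpcycles c'' c')).trans comp_zero
  dsimp only [η] at h5
  rw [Preadditive.sub_comp, sub_eq_zero, Category.assoc, Linear.smul_comp, Category.id_comp] at h5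
  rw [h5, Linear.comp_smul, Category.comp_id]

/-- Maps to a module in degree `c` vanishing in `D(A)` extend to the next term. -/
theorem exists_extend [P.IsKProjective] (c : ℤ) (M : ModuleCat.{u} A)
    (hv : ∀ x : DRing.toD P ⟶ DerivedCategory.Q.obj
      ((HomologicalComplex.single (ModuleCat.{u} A) (ComplexShape.up ℤ) c).obj M), x = 0)
    (φ : P.opcycles c ⟶ M) : ∃ ψ : P.X (c + 1) ⟶ M, P.fromOpcycles c (c + 1) ≫ ψ = φ := by
  let f : P ⟶ (HomologicalComplex.single (ModuleCat.{u} A) (ComplexShape.up ℤ) c).obj M :=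
    HomologicalComplex.mkHomToSingle (P.pOpcycles c ≫ φ) fun i _ => by rw [P.d_pOpcycles_assoc, zero_comp]
  obtain ⟨H⟩ := ProjLift.homotopic_of_Q_map P _ f 0 (by rw [Functor.map_zero]; exact hv _)
  refine ⟨H.hom (c + 1) c ≫ (HomologicalComplex.singleObjXSelf (ComplexShape.up ℤ) c M).hom, ?_⟩
  have h := H.comm c
  rw [dNext_eq _ (show (ComplexShape.up ℤ).Rel c (c + 1) from rfl),
    prevD_eq _ (show (ComplexShape.up ℤ).Rel (c - 1) c by simp),
    HomologicalComplex.mkHomToSingle_f, HomologicalComplex.zero_f, add_zero,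
    HomologicalComplex.single_obj_d, comp_zero, add_zero] at h
  rw [← cancel_epi (P.pOpcycles c), P.p_fromOpcycles_assoc,
    ← cancel_mono (HomologicalComplex.singleObjXSelf (ComplexShape.up ℤ) c M).inv,
    Category.assoc, Category.assoc, Category.assoc, Iso.hom_inv_id, Category.comp_id]
  exact h.symm

/-- A surjection from a linear retraction modulo `m`. -/
theorem exists_notMem_splitIdeal [P.IsKProjective] (hfin : ∀ i, Module.Finite A (P.X i)) (m : Ideal A)
    [m.IsMaximal] (c : ℤ) (hproj : CategoryTheory.Projective (P.X (c + 1)))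
    (hv : ∀ x : DRing.toD P ⟶ DerivedCategory.Q.obj
      ((HomologicalComplex.single (ModuleCat.{u} A) (ComplexShape.up ℤ) c).obj (ModuleCat.of A (A ⧸ m))), x = 0) :
    ∃ g ∈ splitIdeal P c, g ∉ m := by
  letI : Field (A ⧸ m) := Ideal.Quotient.field m
  let Z := P.opcycles c
  haveI : Module.Finite A Z := by
    haveI := hfin c
    exact Module.Finite.of_surjective (P.pOpcycles c).hom
      ((ModuleCat.epi_iff_surjective _).1 inferInstance)
  let W := Z ⧸ m • (⊤ : Submodule A Z)
  let b := Module.Free.chooseBasis (A ⧸ m) W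
  haveI : Module.Finite (A ⧸ m) W := Module.Finite.of_restrictScalars_finite A (A ⧸ m) W
  choose z hz using fun j => Submodule.mkQ_surjective (m • (⊤ : Submodule A Z)) (b j)
  haveI : Module.Projective A (P.X (c + 1)) := (IsProjective.iff_projective (R := A) (P.X (c + 1))).2 hproj
  choose ψ hψ using fun j => exists_extend P c (ModuleCat.of A (A ⧸ m)) hv
    (ModuleCat.ofHom (((b.coord j).restrictScalars A) ∘ₗ Submodule.mkQ (m • (⊤ : Submodule A Z))))
  choose Ψ hΨ using fun j => Module.projective_lifting_property (Submodule.mkQ m) (ψ j).hom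
    (Submodule.mkQ_surjective m)
  let r₀ : P.X (c + 1) →ₗ[A] Z := ∑ j, (Ψ j).smulRight (z j)
  obtain ⟨g, hg, r, hr⟩ := exists_notMem_factor m (P.fromOpcycles c (c + 1)).hom r₀ fun x => by
    rw [← Submodule.Quotient.eq]
    change Submodule.mkQ _ (r₀ _) = Submodule.mkQ _ x
    simp only [r₀, LinearMap.sum_apply, map_sum, LinearMap.smulRight_apply, map_smul, hz]
    refine Eq.trans ?_ (b.sum_repr (Submodule.mkQ _ x))
    refine Finset.sum_congr rfl fun j _ => ?_
    rw [← algebraMap_smul (A ⧸ m) (Ψ j _)]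
    congr 1
    exact (congr($(hΨ j) ((P.fromOpcycles c (c + 1)).hom x))).trans (congr($(hψ j).hom x))
  exact ⟨g, ⟨ModuleCat.ofHom r, ModuleCat.hom_ext hr⟩, hg⟩

/-- A bounded complex of finite cohomology over a Noetherian ring with no maps to residue fields in low
degrees is perfect. -/
theorem isPerfect_of_hom_residue [IsNoetherianRing A] {E : Dual.D A} {a b : ℤ}
    (hE : ∀ i, (i < a ∨ b < i) → Subsingleton (Dual.HD A E i)) (hf : ∀ i, Module.Finite A (Dual.HD A E i))
    (hv : ∀ m : Ideal A, m.IsMaximal → ∃ c₀ : ℤ, ∀ c, c ≤ c₀ → ∀ x : E ⟶ DerivedCategory.Q.obj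
      ((HomologicalComplex.single (ModuleCat.{u} A) (ComplexShape.up ℤ) c).obj (ModuleCat.of A (A ⧸ m))), x = 0) :
    DRing.IsPerfect A E := by
  have hpc : ∀ m, DRing.IsPseudoCoherent A m E := fun m =>
    PCoh.pc_of_finite ((b - m).toNat + 1) (fun i hi => hE i (Or.inr (by omega))) (fun i _ => hf i)
  obtain ⟨P, b', hb', hff, ⟨e⟩⟩ := PCoh.pc'_of_forall hpc
  haveI : P.IsStrictlyLE b' := (CochainComplex.isStrictlyLE_iff P b').2 hb'
  have hproj : ∀ i, CategoryTheory.Projective (P.X i) := fun i => by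
    haveI := (hff i).1
    haveI := (hff i).2
    exact (IsProjective.iff_projective (R := A) (P.X i)).1 inferInstance
  haveI := CochainComplex.isKProjective_of_projective P b'
  have hex : ∀ i, i < a → P.ExactAt i := fun i hi => by
    rw [HomologicalComplex.exactAt_iff_isZero_homology]
    refine IsZero.of_iso ?_ (((DerivedCategory.homologyFunctorFactors (ModuleCat.{u} A) i).app P).symm ≪≫
      (DerivedCategory.homologyFunctor (ModuleCat.{u} A) i).mapIso e)
    exact ModuleCat.isZero_of_iff_subsingleton.2 (hE i (Or.inl hi))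
  let J : ℕ →o Ideal A := ⟨fun k => splitIdeal P (a - k), monotone_nat_of_le_succ fun k =>
    splitIdeal_le P hproj _ _ (a - k - 2) (by push_cast; omega) (by push_cast; omega)
      (hex _ (by push_cast; omega))⟩
  obtain ⟨k₀, hk₀⟩ := monotone_stabilizes_iff_noetherian.2 inferInstance J
  have htop : J k₀ = ⊤ := by
    by_contra hne
    obtain ⟨m, hm, hle⟩ := Ideal.exists_le_maximal _ hne
    obtain ⟨c₀, hc₀⟩ := hv m hm
    let k := max k₀ (a - c₀).toNat
    haveI := hm
    obtain ⟨g, hg, hgm⟩ := exists_notMem_splitIdeal P (fun i => (hff i).1) m (a - k) (hproj _)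
      (fun x => by
        rw [← cancel_epi e.inv, comp_zero]
        exact hc₀ _ (by omega) _)
    exact hgm (hle ((hk₀ k (le_max_left _ _)).symm ▸ hg))
  let k := k₀ + 1
  let c := a - (k : ℤ)
  have hc : c < a := by omega
  obtain ⟨r, hr⟩ : (1 : A) ∈ splitIdeal P c := by
    have := hk₀ k (Nat.le_succ _)
    change (1 : A) ∈ J k
    rw [← this, htop]
    trivial
  rw [one_smul] at hr
  have hZp : CategoryTheory.Projective (P.opcycles c) :=
    haveI := hproj (c + 1)
    Retract.projective (X := P.opcycles c) (Y := P.X (c + 1)) ⟨P.fromOpcycles c (c + 1), r, hr⟩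
  haveI : P.IsGE c := (CochainComplex.isGE_iff P c).2 fun i hi => hex i (by omega)
  refine ⟨P.truncGE c, c, max c b', fun i hi => ?_, fun i => ?_,
    ⟨(asIso (DerivedCategory.Q.map (P.πTruncGE c))).symm ≪≫ e⟩⟩
  · rcases hi with hi | hi
    · exact (P.truncGE c).isZero_of_isStrictlyGE c i hi
    · exact (hb' i (by omega)).of_iso (P.truncGEXIso c i (by omega))
  · rcases lt_trichotomy i c with h | rfl | h
    · exact TorAmp.finiteProjective_of_isZero ((P.truncGE c).isZero_of_isStrictlyGE c i h)
    · refine TorAmp.finiteProjective_of_iso (P.truncGEXIsoOpcycles c).symm ⟨?_, ?_⟩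
      · haveI := (hff c).1
        exact Module.Finite.of_surjective (P.pOpcycles c).hom
          ((ModuleCat.epi_iff_surjective _).1 inferInstance)
      · exact (IsProjective.iff_projective (R := A) (P.opcycles c)).2 hZp
    · refine TorAmp.finiteProjective_of_iso (P.truncGEXIso c i h).symm ⟨(hff i).1, ?_⟩
      exact (IsProjective.iff_projective (R := A) (P.X i)).2 (hproj i)

end Groth.Agent.H25DTen.PerfectPoint
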