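import Groth.Agent.H25DTen.Killed
import Groth.Agent.H25DTen.EffCartier
import Groth.Agent.H16Derived.KFlat.BoundedAbove
import Mathlib

/-!
# Artin–Rees: maps from finite modules into bounded objects killed by `I` vanish on `I ^ m`
-/

set_option autoImplicit false
set_option backward.isDefEq.respectTransparency false

universe u

open CategoryTheory CategoryTheory.Limits MonoidalCategory Pretriangulated Opposite

attribute [local instance] HasDerivedCategory.standard

namespace Groth.Agent.H25DTen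

open Groth.Agent.H16Derived

variable {A : Type u} [CommRing A] (I : Ideal A)

/-- `M ↦ I ^ m • M`. -/
noncomputable def powF (m : ℕ) : ModuleCat.{u} A ⥤ ModuleCat.{u} A where
  obj M := ModuleCat.of A ↥(I ^ m • (⊤ : Submodule A M))
  map {M N} f := ModuleCat.ofHom (LinearMap.restrict f.hom (fun x hx => by
    have := Submodule.mem_map_of_mem (f := f.hom) hx
    rw [Submodule.map_smul''] at this
    exact Submodule.smul_mono le_rfl le_top this))

instance (m : ℕ) : (powF I m).Additive where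

/-- The inclusion `I ^ m • M ⟶ M`. -/
noncomputable def powι (m : ℕ) : powF I m ⟶ 𝟭 (ModuleCat.{u} A) where
  app M := ModuleCat.ofHom (Submodule.subtype _)

/-- The transition maps. -/
noncomputable def powT {m m' : ℕ} (h : m ≤ m') : powF I m' ⟶ powF I m where
  app M := ModuleCat.ofHom (Submodule.inclusion (Submodule.smul_mono_left (Ideal.pow_le_pow_right h)))

lemma powT_ι {m m' : ℕ} (h : m ≤ m') : powT I h ≫ powι I m = powι I m' := rfl

lemma mem_pow_pow {M : Type u} [AddCommGroup M] [Module A M] {m m' : ℕ} {x : M}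
    (hx : x ∈ I ^ (m + m') • (⊤ : Submodule A M)) :
    ∃ h : x ∈ I ^ m • (⊤ : Submodule A M),
      (⟨x, h⟩ : ↥(I ^ m • (⊤ : Submodule A M))) ∈ I ^ m' • (⊤ : Submodule A ↥(I ^ m • (⊤ : Submodule A M))) := by
  have h1 : (I ^ m' • (⊤ : Submodule A ↥(I ^ m • (⊤ : Submodule A M)))).map (Submodule.subtype _) =
      I ^ (m + m') • (⊤ : Submodule A M) := by
    rw [Submodule.map_smul'', Submodule.map_top, Submodule.range_subtype, ← Submodule.mul_smul,
      ← pow_add, add_comm]
  obtain ⟨y, hy, rfl⟩ := h1.symm ▸ hx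
  exact ⟨y.2, hy⟩

/-- `I ^ (m + m') • M ⟶ I ^ m' • (I ^ m • M)`. -/
noncomputable def powAdd (m m' : ℕ) : powF I (m + m') ⟶ powF I m ⋙ powF I m' where
  app M := ModuleCat.ofHom
    { toFun := fun x => ⟨⟨x.1, (mem_pow_pow I x.2).choose⟩, (mem_pow_pow I x.2).choose_spec⟩
      map_add' := fun _ _ => rfl
      map_smul' := fun _ _ => rfl }

lemma powAdd_ι (m m' : ℕ) :
    powAdd I m m' ≫ Functor.whiskerLeft (powF I m) (powι I m') ≫ powι I m = powι I (m + m') := rfl

/-- `I ^ m • K` for complexes. -/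
noncomputable abbrev powCx (m : ℕ) : DRing.Cx A ⥤ DRing.Cx A :=
  (powF I m).mapHomologicalComplex (ComplexShape.up ℤ)

/-- The inclusion. -/
noncomputable def powCxι (m : ℕ) : powCx I m ⟶ 𝟭 (DRing.Cx A) where
  app K := { f := fun i => (powι I m).app (K.X i) }

/-- The transition maps. -/
noncomputable def powCxT {m m' : ℕ} (h : m ≤ m') : powCx I m' ⟶ powCx I m :=
  NatTrans.mapHomologicalComplex (powT I h) _

lemma powCxT_ι {m m' : ℕ} (h : m ≤ m') : powCxT I h ≫ powCxι I m = powCxι I m' := rfl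

/-- `I ^ (m + m') • K ⟶ I ^ m' • (I ^ m • K)`. -/
noncomputable def powCxAdd (m m' : ℕ) : powCx I (m + m') ⟶ powCx I m ⋙ powCx I m' where
  app K := { f := fun i => (powAdd I m m').app (K.X i) }

lemma powCxAdd_ι (m m' : ℕ) :
    powCxAdd I m m' ≫ Functor.whiskerLeft (powCx I m) (powCxι I m') ≫ powCxι I m = powCxι I (m + m') := rfl

variable [IsNoetherianRing A]

instance finite_powF (m : ℕ) (M : ModuleCat.{u} A) [Module.Finite A M] :
    Module.Finite A ((powF I m).obj M) :=
  inferInstanceAs (Module.Finite A ↥(I ^ m • (⊤ : Submodule A M)))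

/-- Ext classes with values in a module killed by a power of `I` die on `I ^ m • M`. -/
theorem exists_pow_comp_eq_zero_module {N : ModuleCat.{u} A} {s : ℕ}
    (hN : ∀ g ∈ I ^ s, ∀ x : N, g • x = 0) :
    ∀ (p : ℕ) (M : ModuleCat.{u} A) [Module.Finite A M] (e : (sgl A).obj M ⟶ ((sgl A).obj N)⟦(p : ℤ)⟧),
      ∃ m, (sgl A).map ((powι I m).app M) ≫ e = 0
  | 0, M, _, e => by
    refine ⟨s, ?_⟩
    let ε := (shiftFunctorZero' (Dual.D A) ((0 : ℕ) : ℤ) rfl).app ((sgl A).obj N)
    obtain ⟨φ, hφ⟩ := (sgl A).map_surjective (e ≫ ε.hom)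
    rw [← cancel_mono ε.hom, zero_comp, Category.assoc, ← hφ, ← Functor.map_comp]
    refine (congrArg _ ?_).trans ((sgl A).map_zero _ _)
    refine ModuleCat.hom_ext (LinearMap.ext fun x => ?_)
    change φ.hom x.1 = 0
    refine Submodule.smul_induction_on x.2 (fun g hg y _ => ?_) fun y z hy hz => by
      rw [map_add, hy, hz, add_zero]
    rw [map_smul, hN g hg]
  | p + 1, M, _, e => by
    obtain ⟨n, f, hf⟩ := Module.Finite.exists_fin' A M
    let K := LinearMap.ker f
    let Sq : ShortComplex (ModuleCat.{u} A) := ShortComplex.mk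
      (X₁ := ModuleCat.of A K) (X₂ := ModuleCat.of A (Fin n → A)) (X₃ := M)
      (ModuleCat.ofHom (X := K) (Y := Fin n → A) K.subtype) (ModuleCat.ofHom f)
      (ModuleCat.hom_ext (LinearMap.ext fun (x : K) => x.2))
    have hSq : Sq.ShortExact :=
      { exact := (ShortComplex.ShortExact.moduleCat_exact_iff_function_exact _).2 (LinearMap.exact_subtype_ker_map f)
        mono_f := (ModuleCat.mono_iff_injective _).2 Subtype.val_injective
        epi_g := (ModuleCat.epi_iff_surjective _).2 hf }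
    haveI : CategoryTheory.Projective Sq.X₂ :=
      (IsProjective.iff_projective (R := A) (Fin n → A)).1 inferInstance
    obtain ⟨w, hw⟩ := Triangle.yoneda_exact₃ _ hSq.singleTriangle_distinguished e
      (sgl_hom_shift_eq_zero (by omega) _)
    let ε := (shiftFunctorAdd' (Dual.D A) (p : ℤ) 1 ((p + 1 : ℕ) : ℤ) (by omega)).app ((sgl A).obj N)
    obtain ⟨a, ha⟩ := (shiftFunctor (Dual.D A) (1 : ℤ)).map_surjective
      (X := (sgl A).obj (ModuleCat.of A K)) (Y := ((sgl A).obj N)⟦(p : ℤ)⟧) (w ≫ ε.hom)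
    obtain ⟨j, hj⟩ := exists_pow_comp_eq_zero_module hN p (ModuleCat.of A K) a
    obtain ⟨c, hc⟩ := I.exists_pow_inf_eq_pow_smul (M := Fin n → A) K
    refine ⟨j + c, ?_⟩
    let F' : Submodule A (Fin n → A) := I ^ (j + c) • ⊤
    let g' : F' →ₗ[A] ↥(I ^ (j + c) • (⊤ : Submodule A M)) := f.restrict fun x hx => by
      have := Submodule.mem_map_of_mem (f := f) hx
      rw [Submodule.map_smul''] at this
      exact Submodule.smul_mono le_rfl le_top this
    have hg' : Function.Surjective g' := by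
      rintro ⟨y, hy⟩
      rw [← LinearMap.range_eq_top.2 hf, ← Submodule.map_top, ← Submodule.map_smul''] at hy
      obtain ⟨x, hx, rfl⟩ := hy
      exact ⟨⟨x, hx⟩, rfl⟩
    let Sq' : ShortComplex (ModuleCat.{u} A) := ShortComplex.mk
      (X₁ := ModuleCat.of A (LinearMap.ker g')) (X₂ := ModuleCat.of A F') (X₃ := (powF I (j + c)).obj M)
      (ModuleCat.ofHom (X := LinearMap.ker g') (Y := F') (LinearMap.ker g').subtype) (ModuleCat.ofHom g')
      (ModuleCat.hom_ext (LinearMap.ext fun (x : LinearMap.ker g') => x.2))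
    have hSq' : Sq'.ShortExact :=
      { exact := (ShortComplex.ShortExact.moduleCat_exact_iff_function_exact _).2 (LinearMap.exact_subtype_ker_map g')
        mono_f := (ModuleCat.mono_iff_injective _).2 Subtype.val_injective
        epi_g := (ModuleCat.epi_iff_surjective _).2 hg' }
    have hmem : ∀ x : LinearMap.ker g', ∃ h : x.1.1 ∈ K,
        (⟨x.1.1, h⟩ : K) ∈ I ^ j • (⊤ : Submodule A K) := fun x => by
      have hxK : x.1.1 ∈ K := congrArg Subtype.val x.2
      have h1 : x.1.1 ∈ I ^ j • K := by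
        have h2 : x.1.1 ∈ I ^ (j + c) • ⊤ ⊓ K := ⟨x.1.2, hxK⟩
        rw [hc (j + c) (by omega), Nat.add_sub_cancel] at h2
        exact Submodule.smul_mono le_rfl inf_le_right h2
      rw [← Submodule.range_subtype K, ← Submodule.map_top, ← Submodule.map_smul''] at h1
      obtain ⟨y, hy, hyx⟩ := h1
      obtain rfl : y = ⟨x.1.1, hxK⟩ := Subtype.ext hyx
      exact ⟨hxK, hy⟩
    let τ : ModuleCat.of A (LinearMap.ker g') ⟶ (powF I j).obj (ModuleCat.of A K) := ModuleCat.ofHom
      { toFun := fun x => ⟨⟨x.1.1, (hmem x).choose⟩, (hmem x).choose_spec⟩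
        map_add' := fun _ _ => rfl
        map_smul' := fun _ _ => rfl }
    let Φ : Sq' ⟶ Sq :=
      { τ₁ := τ ≫ (powι I j).app (ModuleCat.of A K)
        τ₂ := ModuleCat.ofHom (Submodule.subtype F')
        τ₃ := (powι I (j + c)).app M
        comm₁₂ := rfl
        comm₂₃ := rfl }
    have hnat : hSq'.singleδ ≫ ((sgl A).map Φ.τ₁)⟦(1 : ℤ)⟧' = (sgl A).map Φ.τ₃ ≫ hSq.singleδ :=
      (ShortComplex.ShortExact.singleTriangle.map hSq' hSq Φ).comm₃
    rw [hw]
    change (sgl A).map Φ.τ₃ ≫ hSq.singleδ ≫ w = 0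
    rw [← reassoc_of% hnat, ← cancel_mono ε.hom, zero_comp, Category.assoc, Category.assoc, ← ha,
      ← Functor.map_comp]
    change hSq'.singleδ ≫ ((sgl A).map (τ ≫ (powι I j).app _) ≫ a)⟦(1 : ℤ)⟧' = 0
    rw [Functor.map_comp (sgl A), Category.assoc, hj, comp_zero, Functor.map_zero, comp_zero]

/-- Shifted single complexes. -/
noncomputable abbrev sg (i : ℤ) : ModuleCat.{u} A ⥤ Dual.D A :=
  DerivedCategory.singleFunctor (ModuleCat.{u} A) i

omit [IsNoetherianRing A] in
/-- Shifting single objects. -/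
noncomputable def sgShiftIso (n a a' : ℤ) (h : n + a = a') :
    sg a' ⋙ shiftFunctor (Dual.D A) n ≅ sg a :=
  (DerivedCategory.singleFunctors (ModuleCat.{u} A)).shiftIso n a a' h

theorem exists_pow_comp_eq_zero_single {N : ModuleCat.{u} A} {s : ℕ}
    (hN : ∀ g ∈ I ^ s, ∀ x : N, g • x = 0) (i a : ℤ) (M : ModuleCat.{u} A) [Module.Finite A M]
    (e : (sg i).obj M ⟶ (sg a).obj N) :
    ∃ m, (sg i).map ((powι I m).app M) ≫ e = 0 := by
  by_cases h : a ≤ i
  · obtain ⟨p, hp⟩ := Int.eq_ofNat_of_zero_le (show 0 ≤ i - a by omega)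
    let eM := sgShiftIso (A := A) i 0 i (add_zero i)
    let eN := sgShiftIso (A := A) (p : ℤ) (a - i) 0 (by omega)
    let e' := sgShiftIso (A := A) i (a - i) a (by omega)
    obtain ⟨m, hm⟩ := exists_pow_comp_eq_zero_module I hN p M
      (eM.inv.app M ≫ e⟦i⟧' ≫ e'.hom.app N ≫ eN.inv.app N)
    refine ⟨m, (shiftFunctor (Dual.D A) i).map_injective ?_⟩
    rw [Functor.map_zero, ← cancel_mono (e'.hom.app N ≫ eN.inv.app N),
      ← cancel_epi (eM.inv.app ((powF I m).obj M)), Functor.map_comp, zero_comp, comp_zero]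
    have hn := eM.inv.naturality ((powι I m).app M)
    dsimp at hn hm ⊢
    rw [Category.assoc, ← reassoc_of% hn]
    exact hm
  · refine ⟨0, ?_⟩
    exact DerivedCategory.TStructure.t.zero_of_isLE_of_isGE _ i a (by omega) inferInstance inferInstance

/-- Bounded objects killed by a power of `I`. -/
def BddKilled (Y : Dual.D A) : Prop :=
  ∃ (a b : ℤ) (s : ℕ), Y.IsGE a ∧ Y.IsLE b ∧ Killed (I ^ s) Y

theorem exists_pow_comp_eq_zero_of_killed : ∀ (d : ℕ) (Y : Dual.D A) (a : ℤ) (s : ℕ), Y.IsGE a →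
    Y.IsLE (a + d) → Killed (I ^ s) Y → ∀ (i : ℤ) (M : ModuleCat.{u} A) [Module.Finite A M]
      (e : (sg i).obj M ⟶ Y), ∃ m, (sg i).map ((powι I m).app M) ≫ e = 0
  | 0, Y, a, s, hg, hl, hk, i, M, _, e => by
    haveI := hg
    haveI : Y.IsLE a := by simpa using hl
    obtain ⟨N, ⟨eY⟩⟩ := DerivedCategory.exists_iso_singleFunctor_obj_of_isGE_of_isLE Y a
    haveI : (DerivedCategory.singleFunctor (ModuleCat.{u} A) a).Linear A :=
      Functor.linear_of_iso _ (DerivedCategory.singleFunctorIsoCompQ (ModuleCat.{u} A) a).symm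
    have hN : ∀ g ∈ I ^ s, ∀ x : N, g • x = 0 := fun g hg x => by
      have h0 : g • 𝟙 N = 0 := (sg a).map_injective (by
        rw [Functor.map_smul, CategoryTheory.Functor.map_id, Functor.map_zero]
        exact (hk.of_iso eY) g hg)
      exact congrArg (fun z : N ⟶ N => z.hom x) h0
    obtain ⟨m, hm⟩ := exists_pow_comp_eq_zero_single I hN i a M (e ≫ eY.hom)
    exact ⟨m, (cancel_mono eY.hom).1 (by rw [Category.assoc, hm, zero_comp])⟩
  | d + 1, Y, a, s, hg, hl, hk, i, M, _, e => by
    haveI := hg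
    haveI := hl
    let T := (DerivedCategory.TStructure.t.triangleLTGE (a + 1)).obj Y
    have hT : T ∈ (distTriang _) := DerivedCategory.TStructure.t.triangleLTGE_distinguished (a + 1) Y
    have h1 : (T.obj₁).IsLE (a + 1 - 1) := inferInstanceAs (((DerivedCategory.TStructure.t.triangleLTGE (a + 1)).obj Y).obj₁.IsLE (a + 1 - 1))
    have h1' : (T.obj₁).IsGE a :=
      inferInstanceAs (((DerivedCategory.TStructure.t.truncLT (a + 1)).obj Y).IsGE a)
    have h3 : (T.obj₃).IsGE (a + 1) := inferInstanceAs (((DerivedCategory.TStructure.t.triangleLTGE (a + 1)).obj Y).obj₃.IsGE (a + 1))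
    have h3' : (T.obj₃).IsLE (a + ((d + 1 : ℕ) : ℤ)) :=
      inferInstanceAs (((DerivedCategory.TStructure.t.truncGE (a + 1)).obj Y).IsLE (a + ((d + 1 : ℕ) : ℤ)))
    obtain ⟨k1, k3⟩ := hk.of_truncation T hT (a + 1) h1 h3
    have h3'' : (T.obj₃).IsLE (a + 1 + d) := by
      rw [show a + 1 + (d : ℤ) = a + ((d + 1 : ℕ) : ℤ) by omega]
      exact h3'
    have h1'' : (T.obj₁).IsLE a := by
      have := h1; rwa [add_sub_cancel_right] at this
    obtain ⟨m₁, hm₁⟩ := exists_pow_comp_eq_zero_of_killed d T.obj₃ (a + 1) s h3 h3'' k3 i M (e ≫ T.mor₂)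
    obtain ⟨v, hv⟩ := Triangle.coyoneda_exact₂ T hT ((sg i).map ((powι I m₁).app M) ≫ e)
      ((Category.assoc _ _ _).trans hm₁)
    haveI := h1''
    haveI : (T.obj₁).IsLE (a + d) := DerivedCategory.TStructure.t.isLE_of_le _ a (a + d)
    obtain ⟨m₂, hm₂⟩ := exists_pow_comp_eq_zero_of_killed d T.obj₁ a s h1' inferInstance k1 i _ v
    refine ⟨m₁ + m₂, ?_⟩
    have hfac := congr_app (powAdd_ι I m₁ m₂) M
    rw [← hfac, NatTrans.comp_app, NatTrans.comp_app, Functor.whiskerLeft_app]
    simp only [Functor.map_comp, Category.assoc]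
    erw [hv, reassoc_of% hm₂]
    simp

omit [IsNoetherianRing A] in
lemma powCxι_single (m : ℕ) (M : ModuleCat.{u} A) (i : ℤ) :
    ((HomologicalComplex.singleMapHomologicalComplex (powF I m) (ComplexShape.up ℤ) i).app M).hom ≫
        (HomologicalComplex.single (ModuleCat.{u} A) (ComplexShape.up ℤ) i).map ((powι I m).app M) =
      (powCxι I m).app ((HomologicalComplex.single (ModuleCat.{u} A) (ComplexShape.up ℤ) i).obj M) := by
  refine HomologicalComplex.to_single_hom_ext ?_
  simp [HomologicalComplex.single_map_f_self, powCxι]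

theorem exists_pow_comp_eq_zero_aux : ∀ (k : ℕ) (E : DRing.Cx A) (a : ℤ),
    DRing.VanishesOutside E a (a + k) → (∀ q, Module.Finite A (E.X q)) →
    ∀ (Y : Dual.D A), BddKilled I Y → ∀ e : DerivedCategory.Q.obj E ⟶ Y,
      ∃ m, DerivedCategory.Q.map ((powCxι I m).app E) ≫ e = 0
  | 0, E, a, hE, hf, Y, ⟨c, b, s, hg, hl, hk⟩, e => by
    haveI : E.IsStrictlyGE a := (CochainComplex.isStrictlyGE_iff E a).2 fun q hq => hE q (Or.inl hq)
    haveI : E.IsStrictlyLE a := (CochainComplex.isStrictlyLE_iff E a).2 fun q hq => hE q (Or.inr (by omega))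
    obtain ⟨M, ⟨eE⟩⟩ := CochainComplex.exists_iso_single E a
    haveI : Module.Finite A M := by
      haveI : Module.Finite A ((HomologicalComplex.eval (ModuleCat.{u} A) (ComplexShape.up ℤ) a).obj E) := hf a
      exact Module.Finite.equiv (((HomologicalComplex.eval (ModuleCat.{u} A) (ComplexShape.up ℤ) a).mapIso eE ≪≫
        HomologicalComplex.singleObjXSelf (ComplexShape.up ℤ) a M).toLinearEquiv)
    haveI := DerivedCategory.TStructure.t.isLE_of_le Y b (c + ((b - c).toNat : ℤ)) (by omega)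
    let ι₁ := DerivedCategory.singleFunctorIsoCompQ (ModuleCat.{u} A) a
    obtain ⟨m, hm⟩ := exists_pow_comp_eq_zero_of_killed I (b - c).toNat Y c s hg inferInstance hk a M
      (ι₁.hom.app M ≫ DerivedCategory.Q.map eE.inv ≫ e)
    refine ⟨m, ?_⟩
    have h1 := congrArg DerivedCategory.Q.map ((powCxι I m).naturality eE.inv)
    have h2 := congrArg DerivedCategory.Q.map (powCxι_single I m M a)
    have h3 := ι₁.hom.naturality ((powι I m).app M)
    dsimp at h1 h2 h3 hm
    rw [Functor.map_comp, Functor.map_comp] at h1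
    rw [Functor.map_comp] at h2
    rw [← cancel_epi (DerivedCategory.Q.map ((powCx I m).map eE.inv)), comp_zero]
    rw [reassoc_of% h1, ← h2, ← cancel_epi (ι₁.hom.app ((powF I m).obj M) ≫
      inv (DerivedCategory.Q.map ((HomologicalComplex.singleMapHomologicalComplex (powF I m) (ComplexShape.up ℤ) a).app M).hom))]
    simp only [Category.assoc, comp_zero, Iso.app_hom, IsIso.inv_hom_id_assoc]
    erw [← reassoc_of% h3]
    exact hm
  | k + 1, E, a, hE, hf, Y, hY, e => by
    let S₀ := KFlat.Brutal.S E (a + 1)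
    have hz1 : DRing.VanishesOutside (KFlat.Brutal.geq E (a + 1)) (a + 1) (a + 1 + k) := fun q hq => by
      by_cases h : a + 1 ≤ q
      · haveI := KFlat.Brutal.isIso_ι_f E (a + 1) h
        exact (hE q (by omega)).of_iso (asIso ((KFlat.Brutal.ι E (a + 1)).f q))
      · exact KFlat.Brutal.isZero_geq E (a + 1) (by omega)
    have hf1 : ∀ q, Module.Finite A ((KFlat.Brutal.geq E (a + 1)).X q) := fun q => by
      by_cases h : a + 1 ≤ q
      · haveI := KFlat.Brutal.isIso_ι_f E (a + 1) h
        haveI := hf q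
        exact Module.Finite.equiv (asIso ((KFlat.Brutal.ι E (a + 1)).f q)).toLinearEquiv.symm
      · haveI := ModuleCat.subsingleton_of_isZero (KFlat.Brutal.isZero_geq E (a + 1) (q := q) (by omega))
        infer_instance
    obtain ⟨m₁, hm₁⟩ := exists_pow_comp_eq_zero_aux k _ (a + 1) hz1 hf1 Y hY
      (DerivedCategory.Q.map S₀.f ≫ e)
    let S₁ := S₀.map (powCx I m₁)
    have hS₁ : S₁.ShortExact := HomologicalComplex.shortExact_of_degreewise_shortExact _ fun q =>
      ((KFlat.Brutal.splitting E (a + 1) q).some.map (powF I m₁)).shortExact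
    have hT := DerivedCategory.triangleOfSES_distinguished hS₁
    obtain ⟨e'', he''⟩ := Triangle.yoneda_exact₂ _ hT (DerivedCategory.Q.map ((powCxι I m₁).app E) ≫ e) (by
      have h := congrArg DerivedCategory.Q.map ((powCxι I m₁).naturality S₀.f)
      dsimp at h
      rw [Functor.map_comp, Functor.map_comp] at h
      change DerivedCategory.Q.map ((powCx I m₁).map S₀.f) ≫ DerivedCategory.Q.map ((powCxι I m₁).app E) ≫ e = 0
      rw [reassoc_of% h]
      exact hm₁)
    let C₁ := (powCx I m₁).obj S₀.X₃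
    have hz3 : DRing.VanishesOutside C₁ a (a + (0 : ℕ)) := fun q hq => by
      refine (powF I m₁).map_isZero ?_
      rcases hq with h | h
      · exact KFlat.Brutal.isZero_cokernel' E (a + 1) (hE q (Or.inl h))
      · exact KFlat.Brutal.isZero_cokernel E (a + 1) (by omega)
    have hf3 : ∀ q, Module.Finite A (C₁.X q) := fun q => by
      by_cases h : a + 1 ≤ q
      · haveI := ModuleCat.subsingleton_of_isZero ((powF I m₁).map_isZero
          (KFlat.Brutal.isZero_cokernel E (a + 1) (q := q) h))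
        exact inferInstanceAs (Module.Finite A ((powF I m₁).obj (S₀.X₃.X q)))
      · haveI := hf q
        haveI := KFlat.Brutal.isIso_cokernel_π E (a + 1) (q := q) (by omega)
        haveI : Module.Finite A (S₀.X₃.X q) :=
          Module.Finite.equiv (asIso ((cokernel.π (KFlat.Brutal.ι E (a + 1))).f q)).toLinearEquiv
        exact finite_powF I m₁ _
    obtain ⟨m₂, hm₂⟩ := exists_pow_comp_eq_zero_aux 0 C₁ a hz3 hf3 Y hY e''
    refine ⟨m₁ + m₂, ?_⟩
    have hfac := congrArg DerivedCategory.Q.map (congr_app (powCxAdd_ι I m₁ m₂) E)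
    have hnat := congrArg DerivedCategory.Q.map ((powCxι I m₂).naturality ((powCx I m₁).map S₀.g))
    dsimp at hfac hnat
    rw [Functor.map_comp, Functor.map_comp] at hfac hnat
    change DerivedCategory.Q.map ((powCxι I m₁).app E) ≫ e = DerivedCategory.Q.map ((powCx I m₁).map S₀.g) ≫ e'' at he''
    rw [← hfac, Category.assoc, Category.assoc, he'', ← reassoc_of% hnat]
    erw [hm₂]
    simp

/-- Maps from a bounded complex of finite modules to a bounded killed object die on `I ^ m • E`. -/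
theorem exists_pow_comp_eq_zero (E : DRing.Cx A) (a b : ℤ) (hE : DRing.VanishesOutside E a b)
    (hf : ∀ q, Module.Finite A (E.X q)) {Y : Dual.D A} (hY : BddKilled I Y)
    (e : DerivedCategory.Q.obj E ⟶ Y) :
    ∃ m, DerivedCategory.Q.map ((powCxι I m).app E) ≫ e = 0 :=
  exists_pow_comp_eq_zero_aux I (b - a).toNat E a (fun q hq => hE q (hq.imp_right fun h => by omega)) hf Y hY e

end Groth.Agent.H25DTen
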