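import Groth.Agent.H25DTen.Mon
import Mathlib

/-!
# The restriction/tensor binders hold, and the projection formula
-/

set_option autoImplicit false
set_option backward.isDefEq.respectTransparency false

universe u

open CategoryTheory CategoryTheory.Limits MonoidalCategory

attribute [local instance] HasDerivedCategory.standard

namespace Groth.Agent.H25DTen

open Groth.Agent.H16Derived

variable {R R' : Type u} [CommRing R] [CommRing R'] (φ : R →+* R')

lemma isIso_resTen₂_map {X Y : DRing.Cx R' × DRing.Cx R'} (f : X ⟶ Y)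
    (h : IsIso ((DTen.tensor₂ R').map f)) : IsIso ((DTen.resTen₂ φ).map f) :=
  (NatIso.isIso_map_iff (Functor.isoWhiskerLeft (DTen.tensorT R') (DTen.resFactors φ)) f).1
    (Functor.map_isIso (DRing.restrictD φ) ((DTen.tensor₂ R').map f))

lemma resTen₂_inverts : (DTen.qis₂ R').IsInvertedBy (res₂ R' ⋙ DTen.resTen₂ φ) := fun _ _ f hf =>
  isIso_resTen₂_map φ ((res₂ R').map f) (tensor₂_inverts f hf)

lemma resTen₂_res₂ψ_res₂ (X : DRing.Cx R' × DRing.Cx R') :
    IsIso ((DTen.resTen₂ φ).map ((res₂ψ R').app ((res₂ R').obj X))) :=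
  isIso_resTen₂_map φ _ (tensor₂_res₂ψ_res₂ X)

/-- The binder `HasResTen` holds. -/
theorem hasResTen : DTen.HasResTen φ :=
  LeftDer.hasLeftDerivedFunctor _ inverts_res₂ψ (resTen₂_inverts φ) (resTen₂_res₂ψ_res₂ φ)

lemma isIso_εRes [DTen.HasResTen φ] (K L : DRing.Cx R')
    (h : KFlat.IsKFlat (TT R') K ∨ KFlat.IsKFlat (TT R') L) : IsIso ((DTen.εRes φ).app (K, L)) :=
  LeftDer.isIso_counit (DTen.qis₂ R') (DTen.QQ R') inverts_res₂ψ (resTen₂_inverts φ)
    (resTen₂_res₂ψ_res₂ φ) (DTen.ResTen φ) (DTen.εRes φ) (K, L)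
    (isIso_resTen₂_map φ _ (tensor₂_res₂ψ (K, L) h))

/-- The binder `ResLegIso` holds. -/
theorem resLegIso [DTen.HasLTen R'] [DTen.HasResTen φ] : DTen.ResLegIso φ where
  isIso := by
    haveI : ∀ X, IsIso ((DTen.resLegB φ).app X) := by
      rintro ⟨a, b⟩
      obtain ⟨K₀, ⟨eK⟩⟩ := Localization.essSurj DerivedCategory.Q (DTen.qis R') |>.mem_essImage a
      obtain ⟨L₀, ⟨eL⟩⟩ := Localization.essSurj DerivedCategory.Q (DTen.qis R') |>.mem_essImage b
      haveI := isIso_Q_map _ (quasiIso_resψ K₀)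
      haveI := isIso_Q_map _ (quasiIso_resψ L₀)
      let eK' : DerivedCategory.Q.obj ((res R').obj K₀) ≅ a :=
        asIso (DerivedCategory.Q.map ((resψ R').app K₀)) ≪≫ eK
      let eL' : DerivedCategory.Q.obj ((res R').obj L₀) ≅ b :=
        asIso (DerivedCategory.Q.map ((resψ R').app L₀)) ≪≫ eL
      refine (NatTrans.isIso_app_iff_of_iso _ (eK'.prod eL')).1 ?_
      haveI := isIso_εRes φ _ ((res R').obj L₀) (Or.inl (isKFlat_res K₀))
      haveI := isIso_ε ((res R').obj K₀) ((res R').obj L₀) (Or.inl (isKFlat_res K₀))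
      haveI : IsIso ((DTen.resβB φ).app ((res R').obj K₀, (res R').obj L₀)) :=
        IsIso.comp_isIso' (Functor.map_isIso _ _) inferInstance
      exact IsIso.of_isIso_fac_right (DTen.resLegB_fac φ ((res R').obj K₀, (res R').obj L₀))
    exact NatIso.isIso_of_isIso_app _

/-- Projection formula on modules. -/
lemma isIso_projModule (M : ModuleCat.{u} R') (N : ModuleCat.{u} R) :
    IsIso ((DTen.resM φ).obj M ◁ (ModuleCat.extendRestrictScalarsAdj.{u, u, u} φ).unit.app N ≫
      DTen.resTen₀app φ M ((DTen.extM φ).obj N)) := by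
  letI : Algebra R R' := φ.toAlgebra
  letI : Module R M := Module.compHom M φ
  haveI : IsScalarTower R R' M := ⟨fun r a m => mul_smul (φ r) a m⟩
  haveI : IsScalarTower R R' ((DTen.resM φ).obj M) := ⟨fun r a m => mul_smul (φ r) a m⟩
  set f := (DTen.resM φ).obj M ◁ (ModuleCat.extendRestrictScalarsAdj.{u, u, u} φ).unit.app N ≫
      DTen.resTen₀app φ M ((DTen.extM φ).obj N) with hf
  let g := TensorProduct.AlgebraTensorModule.cancelBaseChange R R' R' M N
  refine (ConcreteCategory.isIso_iff_bijective f).2 ?_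
  have key : ∀ x, g (f x) = x := by
    intro x
    induction x using TensorProduct.induction_on with
    | zero => exact (congrArg g (map_zero f.hom)).trans g.map_zero
    | add a b ha hb =>
      exact (congrArg g (map_add f.hom a b)).trans ((g.map_add _ _).trans (congrArg₂ (· + ·) ha hb))
    | tmul m n =>
      rw [hf]
      exact (TensorProduct.AlgebraTensorModule.cancelBaseChange_tmul R R' R' m n 1).trans
        (congrArg (fun t : M => t ⊗ₜ[R] n) (one_smul R' m))
  refine ⟨fun a b h => (key a).symm.trans ((congrArg g h).trans (key b)), fun y => ?_⟩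
  exact ⟨g y, g.injective (key (g y))⟩

/-- Projection formula on complexes. -/
noncomputable def projCx (Y : DRing.Cx R') (K : DRing.Cx R) :
    (DTen.tensorT R).obj ((DTen.resCx φ).obj Y, K) ⟶
      (DTen.resCx φ).obj ((DTen.tensorT R').obj (Y, (DTen.extCx φ).obj K)) :=
  ((DTen.resCx φ).obj Y ◁ (DTen.unitCx φ).app K) ≫ DTen.resTenCx φ Y ((DTen.extCx φ).obj K)

lemma ι_projCx (Y : DRing.Cx R') (K : DRing.Cx R) (p q n : ℤ) (h : p + q = n) :
    HomologicalComplex.ιTensorObj ((DTen.resCx φ).obj Y) K p q n h ≫ (projCx φ Y K).f n =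
      ((DTen.resM φ).obj (Y.X p) ◁ (ModuleCat.extendRestrictScalarsAdj.{u, u, u} φ).unit.app (K.X q) ≫
        DTen.resTen₀app φ (Y.X p) ((DTen.extM φ).obj (K.X q))) ≫
      (DTen.resM φ).map (HomologicalComplex.ιTensorObj Y ((DTen.extCx φ).obj K) p q n h :
        Y.X p ⊗ (DTen.extM φ).obj (K.X q) ⟶ _) := by
  rw [projCx, HomologicalComplex.comp_f]
  erw [HomologicalComplex.ι_mapBifunctorMap_assoc]
  rw [HomologicalComplex.id_f, CategoryTheory.Functor.map_id, NatTrans.id_app, Category.id_comp]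
  erw [DTen.ι_resTenCx φ Y ((DTen.extCx φ).obj K) p q n h]
  rw [Category.assoc]
  rfl

lemma isIso_projCx (Y : DRing.Cx R') (K : DRing.Cx R) : IsIso (projCx φ Y K) := by
  haveI : ∀ n, IsIso ((projCx φ Y K).f n) := fun n => by
    let B := ((((curriedTensor (ModuleCat.{u} R')).mapBifunctorHomologicalComplex (ComplexShape.up ℤ)
      (ComplexShape.up ℤ)).obj Y).obj ((DTen.extCx φ).obj K)).toGradedObject
    let π := ComplexShape.π (ComplexShape.up ℤ) (ComplexShape.up ℤ) (ComplexShape.up ℤ)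
    let c := isColimitCofanMkObjOfIsColimit (DTen.resM φ) (B.mapObjFun π n)
      (fun i => B.ιMapObj π i.1 n i.2) (B.isColimitCofanMapObj π n)
    haveI := fun (p q : ℤ) => isIso_projModule φ (Y.X p) (K.X q)
    let g : ((DTen.resCx φ).obj ((DTen.tensorT R').obj (Y, (DTen.extCx φ).obj K))).X n ⟶
        ((DTen.tensorT R).obj ((DTen.resCx φ).obj Y, K)).X n :=
      Cofan.IsColimit.desc c fun i =>
        inv ((DTen.resM φ).obj (Y.X i.1.1) ◁
            (ModuleCat.extendRestrictScalarsAdj.{u, u, u} φ).unit.app (K.X i.1.2) ≫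
          DTen.resTen₀app φ (Y.X i.1.1) ((DTen.extM φ).obj (K.X i.1.2))) ≫
          HomologicalComplex.ιTensorObj ((DTen.resCx φ).obj Y) K i.1.1 i.1.2 n i.2
    have hg : ∀ p q (h : p + q = n),
        (DTen.resM φ).map (HomologicalComplex.ιTensorObj Y ((DTen.extCx φ).obj K) p q n h) ≫ g =
          inv ((DTen.resM φ).obj (Y.X p) ◁
            (ModuleCat.extendRestrictScalarsAdj.{u, u, u} φ).unit.app (K.X q) ≫
          DTen.resTen₀app φ (Y.X p) ((DTen.extM φ).obj (K.X q))) ≫
          HomologicalComplex.ιTensorObj ((DTen.resCx φ).obj Y) K p q n h := fun p q h =>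
      Cofan.IsColimit.fac c _ ⟨(p, q), h⟩
    refine ⟨g, ?_, ?_⟩
    · refine HomologicalComplex.mapBifunctor.hom_ext fun p q h => ?_
      refine Eq.trans ?_ (Category.comp_id _).symm
      erw [reassoc_of% (ι_projCx φ Y K p q n h), hg p q h]
      exact (Category.assoc _ _ _).symm.trans (IsIso.hom_inv_id_assoc _ _)
    · refine Cofan.IsColimit.hom_ext c _ _ fun i => ?_
      obtain ⟨⟨p, q⟩, h⟩ := i
      refine Eq.trans ?_ (Category.comp_id _).symm
      erw [reassoc_of% (hg p q h), ι_projCx φ Y K p q n h, IsIso.inv_hom_id_assoc]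
      rfl
  exact HomologicalComplex.Hom.isIso_of_components _

section

variable [DTen.HasLTen R] [DTen.HasLTen R'] [DTen.HasLBase φ] [DTen.HasResTen φ] [DTen.ResLegIso φ]

@[reassoc]
lemma projPF_naturality {Y Y' : Dual.D R'} {K K' : Dual.D R} (f : Y ⟶ Y') (g : K ⟶ K') :
    (DTen.LTen₂ R).map (Prod.mkHom ((DRing.restrictD φ).map f) g) ≫ DTen.projPF φ Y' K' =
      DTen.projPF φ Y K ≫
        (DRing.restrictD φ).map ((DTen.LTen₂ R').map (Prod.mkHom f ((DTen.LBase φ).map g))) := by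
  have h := (DTen.resPF φ).naturality (X := (Y, (DTen.LBase φ).obj K))
    (Y := (Y', (DTen.LBase φ).obj K')) (Prod.mkHom f ((DTen.LBase φ).map g))
  dsimp only [DTen.projPF]
  rw [Category.assoc]
  refine Eq.trans ?_ (congrArg (_ ≫ ·) h)
  erw [← Functor.map_comp_assoc, ← Functor.map_comp_assoc]
  congr 2
  exact Prod.ext ((Category.comp_id _).trans (Category.id_comp _).symm)
    ((DTen.baseAdj φ).unit.naturality g)

lemma projPF_fac (Y : DRing.Cx R') (K : DRing.Cx R) :
    DTen.projPF φ (DerivedCategory.Q.obj Y) (DerivedCategory.Q.obj K) ≫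
        (DRing.restrictD φ).map ((DTen.LTen₂ R').map (Prod.mkHom (𝟙 _) ((DTen.baseCmp φ).app K))) ≫
        (DTen.resβB φ).app (Y, (DTen.extCx φ).obj K) =
      (DTen.LTen₂ R).map (Prod.mkHom ((DTen.resFactors φ).hom.app Y) (𝟙 _)) ≫
        (DTen.ε R).app ((DTen.resCx φ).obj Y, K) ≫ DerivedCategory.Q.map (projCx φ Y K) := by
  have hn := (DTen.resPF φ).naturality
    (X := (DerivedCategory.Q.obj Y, (DTen.LBase φ).obj (DerivedCategory.Q.obj K)))
    (Y := (DerivedCategory.Q.obj Y, DerivedCategory.Q.obj ((DTen.extCx φ).obj K)))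
    (Prod.mkHom (𝟙 _) ((DTen.baseCmp φ).app K))
  have hf := DTen.resPF_fac φ (Y, (DTen.extCx φ).obj K)
  dsimp only [DTen.projPF]
  rw [Category.assoc]
  erw [← reassoc_of% hn, hf]
  dsimp only [DTen.resβA, projCx]
  rw [← MonoidalCategory.id_tensorHom]
  rw [DerivedCategory.Q.map_comp (𝟙 ((DTen.resCx φ).obj Y) ⊗ₘ (DTen.unitCx φ).app K),
    MonoidalCategory.tensorHom_def]
  erw [← Functor.map_comp_assoc, ← Functor.map_comp_assoc]
  have hε := (DTen.ε R).naturality (Prod.mkHom (𝟙 ((DTen.resCx φ).obj Y)) ((DTen.unitCx φ).app K))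
  erw [← reassoc_of% hε, ← Functor.map_comp_assoc]
  refine congrArg (fun z => (DTen.LTen₂ R).map z ≫ _) (Prod.ext ?_ ?_)
  · dsimp
    simp
  · dsimp
    rw [DTen.baseCmp_fac φ K]
    dsimp [DTen.baseγ]
    simp

/-- The projection formula. -/
theorem isIso_projPF (Y : Dual.D R') (K : Dual.D R) : IsIso (DTen.projPF φ Y K) := by
  obtain ⟨Y₀, ⟨eY⟩⟩ := Localization.essSurj DerivedCategory.Q (DTen.qis R') |>.mem_essImage Y
  obtain ⟨K₀, ⟨eK⟩⟩ := Localization.essSurj DerivedCategory.Q (DTen.qis R) |>.mem_essImage K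
  haveI := isIso_Q_map _ (quasiIso_resψ K₀)
  let eK' : DerivedCategory.Q.obj ((res R).obj K₀) ≅ K :=
    asIso (DerivedCategory.Q.map ((resψ R).app K₀)) ≪≫ eK
  have hK := isKFlat_res (A := R) K₀
  haveI h1 : IsIso (DTen.projPF φ (DerivedCategory.Q.obj Y₀) (DerivedCategory.Q.obj ((res R).obj K₀))) := by
    haveI := isIso_ε ((DTen.resCx φ).obj Y₀) _ (Or.inr hK)
    haveI := isIso_projCx φ Y₀ ((res R).obj K₀)
    haveI := isIso_ε Y₀ _ (Or.inr (isKFlat_extCx φ hK))
    haveI := isIso_map_pair (DTen.LTen₂ R) ((DTen.resFactors φ).hom.app Y₀)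
      (𝟙 (DerivedCategory.Q.obj ((res R).obj K₀))) inferInstance inferInstance
    haveI := IsIso.comp_isIso' ‹IsIso ((DTen.LTen₂ R).map (Prod.mkHom ((DTen.resFactors φ).hom.app Y₀)
      (𝟙 (DerivedCategory.Q.obj ((res R).obj K₀)))))› (IsIso.comp_isIso'
        ‹IsIso ((DTen.ε R).app ((DTen.resCx φ).obj Y₀, (res R).obj K₀))›
        (Functor.map_isIso DerivedCategory.Q (projCx φ Y₀ ((res R).obj K₀))))
    haveI : IsIso ((DRing.restrictD φ).map ((DTen.LTen₂ R').map (Prod.mkHom (𝟙 (DerivedCategory.Q.obj Y₀))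
        ((DTen.baseCmp φ).app ((res R).obj K₀)))) ≫
        (DTen.resβB φ).app (Y₀, (DTen.extCx φ).obj ((res R).obj K₀))) :=
      IsIso.comp_isIso' (by
        haveI := isIso_map_pair (DTen.LTen₂ R') (𝟙 (DerivedCategory.Q.obj Y₀))
          ((DTen.baseCmp φ).app ((res R).obj K₀)) inferInstance (isIso_baseCmp φ _ hK)
        infer_instance)
        (IsIso.comp_isIso' (Functor.map_isIso _ _) inferInstance)
    exact IsIso.of_isIso_fac_right (projPF_fac φ Y₀ ((res R).obj K₀))
  haveI := isIso_map_pair (DTen.LTen₂ R) ((DRing.restrictD φ).map eY.hom) eK'.hom inferInstance inferInstance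
  haveI := isIso_map_pair (DTen.LTen₂ R') eY.hom ((DTen.LBase φ).map eK'.hom) inferInstance inferInstance
  haveI := IsIso.comp_isIso' h1 (Functor.map_isIso (DRing.restrictD φ)
    ((DTen.LTen₂ R').map (Prod.mkHom eY.hom ((DTen.LBase φ).map eK'.hom))))
  exact IsIso.of_isIso_fac_left (projPF_naturality φ eY.hom eK'.hom)

end

end Groth.Agent.H25DTen
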